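-- copy of `SM.Rel` avoiding a name clash (`Comp.syl_inf`) with `Sig.S4D`
import Cfsg.Agent.PG.Basic
import Cfsg.Agent.NCq.SRH1
import Cfsg.Agent.Solv.CyclicMax
import Cfsg.Agent.Sig.Comp
import Cfsg.Agent.Char.Homocyclic
import Cfsg.Agent.Fgs2.MaxClass

/-! Normal subgroups of `2`-groups without invariant four-subgroups; perfect groups. -/

set_option autoImplicit false
set_option linter.unusedSectionVars false

namespace CF.SM
open Subgroup Cfsg CF.BG CF.PG CF.Bender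
open scoped commutatorElement

variable {G : Type*} [Group G] [Finite G]
variable {A B C D H K L M N P Q R S T U V W X Y : Subgroup G} {a b c d e g s t u v w x y z : G}

theorem exists_step_cent (h : Nil T) (hC : C ⊴ T) (n : ¬ C ≤ B) :
    ∃ x ∈ C, x ∉ B ∧ ∀ g ∈ T, g * x * g⁻¹ * x⁻¹ ∈ B := by
  obtain ⟨D, l, ⟨d1, d2⟩, m⟩ := exists_minimal (P := fun D => D ⊴ T ∧ ¬ D ≤ B) ⟨hC, n⟩
  have lt := h.comm_lt d1 (by rintro rfl; exact d2 bot_le)
  have l2 : ⁅D, T⁆ ≤ B := by_contra fun h' => lt.ne (m _ ⟨d1.comm (.refl T), h'⟩ lt.le)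
  obtain ⟨x, hx, hx'⟩ := SetLike.not_le_iff_exists.1 d2
  refine ⟨x, l hx, hx', fun g hg => ?_⟩
  have := l2 (commutator_comm T D ▸ commutator_mem_commutator hg hx)
  rwa [commutatorElement_def] at this

theorem rel_scn (h : Nil T) (hS : S ⊴ T) (hA : A ≤ S) (n : A ⊴ T) (a : Abel A) :
    ∃ B, A ≤ B ∧ B ≤ S ∧ B ⊴ T ∧ Abel B ∧ S ⊓ 𝐂 B ≤ B := by
  obtain ⟨B, l, ⟨b1, b2, b3⟩, m⟩ :=
    exists_maximal (P := fun B => B ≤ S ∧ B ⊴ T ∧ Abel B) ⟨hA, n, a⟩
  refine ⟨B, l, b1, b2, b3, by_contra fun h' => ?_⟩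
  have nC : S ⊓ 𝐂 B ⊴ T := ⟨inf_le_left.trans hS.le, norm_inf_cent hS.norm b2.norm⟩
  obtain ⟨x, hx, hx', hc⟩ := exists_step_cent h nC h'
  have e := m (B ⊔ zpowers x) ⟨sup_le b1 (zpowers_le.2 hx.1), ⟨sup_le b2.le
    (zpowers_le.2 (hS.le hx.1)), fun g hg => mem_norm_of_cj_le ?_⟩,
    b3.sup (cyc_zpowers x).abel (cent_symm (zpowers_le.2 hx.2))⟩ le_sup_left
  · exact hx' (e ▸ mem_sup_right (mem_zpowers x))
  · rw [cj_sup, cj_zpowers]
    refine sup_le ((cj_of_norm (b2.norm hg)).le.trans le_sup_left) (zpowers_le.2 ?_)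
    have := mul_mem (mem_sup_left (T := zpowers x) (hc g hg)) (mem_sup_right (mem_zpowers x))
    rwa [inv_mul_cancel_right] at this

theorem rel_cases (k : PiGrp {2} T) (hS : S ⊴ T) : (∃ W, Elem 2 2 W S ∧ W ⊴ T) ∨
    ∃ a ∈ S, zpowers a ⊴ T ∧ (zpowers a = S ∨ ∃ n, 2 ≤ n ∧ orderOf a = 2 ^ n ∧
      (zpowers a).relIndex S = 2 ∧ ∃ c ∈ S, c ∉ zpowers a ∧ Solv.DQS n a c) := by
  refine or_iff_not_imp_left.2 fun h => ?_
  have := Fact.mk Nat.prime_two
  obtain ⟨B, -, b1, b2, b3, b4⟩ := rel_scn k.nil hS bot_le (.bot T) abel_bot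
  have cB : Cyc B := b3.cyc_of_pRank (k.le b2.le) (not_lt.1 fun r => by
    have e := b3.elem_Om Nat.prime_two
    obtain ⟨U, u1, u2, u3⟩ := k.exists_normal (b2.Om 2) (r := 2) (e.log ▸ r)
    exact h ⟨U, ⟨u1.trans (e.le.trans b1), e.ab.le u1, u3⟩, u2⟩)
  obtain ⟨a, rfl⟩ := cB.exists_gen
  have ha : a ∈ S := b1 (mem_zpowers a)
  refine ⟨a, ha, b2, or_iff_not_imp_left.2 fun ne => ?_⟩
  let a' : S := ⟨a, ha⟩
  have e : (zpowers a').map S.subtype = zpowers a := MonoidHom.map_zpowers _ _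
  have hN : (zpowers a').Normal := normal_iff_map_subtype.2 (e ▸ b2.of_le b1 hS.le)
  have hC : centralizer (zpowers a' : Set S) = zpowers a' := by
    apply map_injective S.subtype_injective
    have := map_inf_cent (A := ⊤) (H := zpowers a') S.subtype_injective
    rw [map_top_subtype, top_inf_eq, e] at this
    rw [this, e]
    exact le_antisymm b4 (le_inf b1 b3)
  have hna : ¬ IsMulCommutative S := fun c =>
    ne (le_antisymm b1 ((le_inf le_rfl ((Abel.of_comm c).trans (cent_anti b1))).trans b4))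
  obtain ⟨n, hn⟩ := (IsPGroup.iff_orderOf.1 (k.le hS.le).isPGroup) a'
  obtain ⟨h2, ⟨-, hi, c, hc, hd⟩ | ⟨h3, c, hc, hc2, hca, -, e2, ch⟩⟩ :=
    Solv.selfCentralizing_cyclic_cases (k.le hS.le).isPGroup hna hn hC
  · refine ⟨n, h2, by rw [← hn]; exact (orderOf_coe a').symm ▸ rfl, ?_, c, c.2, fun h => hc ?_, ?_⟩
    · rw [← e, relIndex, subgroupOf, comap_map_eq_self_of_injective S.subtype_injective, hi]
    · rw [← e] at h
      exact (mem_map_iff_mem S.subtype_injective).1 h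
    · rcases hd with ⟨h1, h2⟩ | ⟨h1, h2⟩ | ⟨h0, h1, h2⟩
      · exact .inl ⟨congrArg Subtype.val h1, congrArg Subtype.val h2⟩
      · exact .inr (.inl ⟨congrArg Subtype.val h1, congrArg Subtype.val h2⟩)
      · exact .inr (.inr ⟨h0, congrArg Subtype.val h1, congrArg Subtype.val h2⟩)
  · exfalso
    obtain ⟨r, rfl⟩ : ∃ r, n = r + 1 := ⟨n - 1, by omega⟩
    obtain ⟨m1, m2⟩ := Solv.modular_omega hn (by omega) hc hc2 hca
    rw [e2] at ch
    simp only [Nat.add_sub_cancel] at ch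
    refine h ⟨_, ?_, hS.char (map_subtype_le _)
      (Solv.normalizer_le_normalizer_map_subtype _ (hK := ch))⟩
    have := (Elem.of_isEA Nat.prime_two le_top m1 m2).map S.subtype_injective
    rwa [map_top_subtype] at this

theorem noTwo_of_perfect (h : ⁅A, A⁆ = A) : NoTwo A := by
  intro X hX
  have l : ⁅A, A⁆ ≤ X := commutator_le.2 fun x hx y hy => by
    have hm : ∀ a ∈ A, ∀ b ∈ A, (a * b ∈ X ↔ (a ∈ X ↔ b ∈ X)) := fun a ha b hb =>
      mul_mem_iff_of_index_two (H := X.subgroupOf A) hX (a := ⟨a, ha⟩) (b := ⟨b, hb⟩)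
    rw [commutatorElement_def, hm _ (mul_mem (mul_mem hx hy) (inv_mem hx)) _ (inv_mem hy),
      hm _ (mul_mem hx hy) _ (inv_mem hx), hm _ hx _ hy, inv_mem_iff, inv_mem_iff]
    tauto
  rw [h] at l
  rw [relIndex_eq_one.2 l] at hX
  omega

theorem perfect_of_layer (h : layer ↥A = ⊤) : ⁅A, A⁆ = A := by
  have := congrArg (map A.subtype) (CF.Sig.layer_perfect (G := A))
  rwa [map_commutator, h, map_top_subtype] at this

/-- the square trick: `z` central in the Sylow subgroup `T`, the only involution of `T` that is a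
square of an element of `T`; a conjugate `s` of `z` commuting with a root of `z` equals `z`. -/
theorem sq_trick (hT : Syl 2 T Y) (c : T ≤ 𝐂₁ z) (iz : Iv z)
    (sq : ∀ w ∈ T, Iv (w * w) → w * w = z) (hg : g ∈ Y) (eg : g * s * g⁻¹ = z) (he : e ∈ Y)
    (e2 : e * e = z) (es : e * s = s * e) : s = z := by
  have k : PiGrp {2} (zpowers e) := piGrp_zpowers.2 (two_elt_sq (e2 ▸ two_elt iz.sq))
  obtain ⟨h, hh, e1, l⟩ := extremal hg eg (R := zpowers e)
    (zpowers_le.2 ⟨he, mem_cent1.2 es⟩) k (hT.of_le (le_inf hT.le c) inf_le_left)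
  have m : h * e * h⁻¹ ∈ T := l (conj_mem_cj.2 (mem_zpowers e))
  have e3 : h * e * h⁻¹ * (h * e * h⁻¹) = h * z * h⁻¹ := by rw [← e2]; group
  have := sq _ m (e3 ▸ iz.conj h)
  rw [e3] at this
  simpa using e1.trans this.symm

/-- the unique involution of a cyclic group. -/
theorem cyc_iv (hx : x ∈ zpowers a) (hy : y ∈ zpowers a) (ix : Iv x) (iy : Iv y) : x = y := by
  have e := (cyc_zpowers a).eq_of_card (zpowers_le.2 hx) (zpowers_le.2 hy)
    (by rw [ix.card, iy.card])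
  have : x ∈ zpowers y := e ▸ mem_zpowers x
  exact ((mem_zp iy).1 this).resolve_left ix.ne

/-- generalized Thompson transfer. -/
theorem thompson' (h : NoTwo Y) (hS : Syl 2 S Y) (hM : M.relIndex S = 2) {n : ℕ}
    (hord : ∀ y ∈ S, y ^ 2 ^ n = 1 → y ∈ M) (hx : x ∈ S) (o : orderOf x = 2 ^ (n + 1)) :
    ∃ g ∈ Y, g * x * g⁻¹ ∈ M := by
  by_contra hn
  have h1 := hall_subgroupOf hS le_rfl
  rw [subgroupOf_self] at h1
  obtain ⟨K, -, k2, -⟩ := Transfer.thompson_transfer' (S := S.subgroupOf Y) (M := M.subgroupOf Y)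
    (n := n) (by rw [← relIndex_top_right]; exact h1.not_dvd Nat.prime_two)
    (by rwa [relIndex_subgroupOf hS.le]) (fun y hy hy' hd => hy' (hord y hy
      (congrArg Subtype.val (orderOf_dvd_iff_pow_eq_one.1 hd)))) (x := ⟨x, hS.le hx⟩) hx
    (by rwa [Subgroup.orderOf_mk]) (fun g hg => hn ⟨g, g.2, hg⟩)
  exact h.sub K k2

theorem klein_equiv {H H' : Type*} [Group H] [Group H'] (k : IsKleinFour H) (e : Nonempty (H ≃* H')) :
    IsKleinFour H' := by
  obtain ⟨e⟩ := e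
  exact ⟨by rw [← Nat.card_congr e.toEquiv, k.card_four],
    by rw [← Monoid.exponent_eq_of_mulEquiv e, k.exponent_two]⟩

theorem sol_of_homo (hS : Syl 2 S Y) (o : 𝐎 {2}ᶜ Y = ⊥) (a : Abel S) (k : IsKleinFour U)
    (hU : U ≤ S) (m : ∀ x ∈ S, x * x = 1 → x ∈ U) (d : 16 ∣ ♯S) : Sol Y := by
  have := Fact.mk Nat.prime_two
  obtain ⟨P, rfl⟩ := hS.exists_sylow
  have h : Char.AbTwo P (U.subgroupOf Y) := ⟨(abel_map_iff Y.subtype_injective).1 a,
    klein_equiv k ⟨(subgroupOfEquivOfLe (hU.trans hS.le)).symm⟩, fun x => ⟨fun hx =>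
      ⟨(mem_map_iff_mem Y.subtype_injective).1 (hU hx), Subtype.ext (klein_sq k hx)⟩,
      fun hx => m x (mem_map_of_mem _ hx.1) (congrArg Subtype.val hx.2)⟩⟩
  rw [card_map Y.subtype_injective] at d
  obtain ⟨n, -, i⟩ := h.normal d (by
    apply map_injective Y.subtype_injective
    rw [Subgroup.map_bot, map_pPrimeCore Nat.prime_two, o])
  have n' := normal_iff_map_subtype.1 n
  refine a.sol.of_qt n'.norm (Cyc.sol ?_)
  have e : ♯(qt (P.1.map Y.subtype) Y) = P.1.index := by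
    rw [card_qt n'.norm, relIndex, subgroupOf, comap_map_eq_self_of_injective Y.subtype_injective]
  rcases i with i | i
  · rw [card_eq_one'.1 (e.trans i)]; exact cyc_bot
  · exact cyc_of_prime (by rw [e, i]; norm_num)

/-- Brauer: a perfect group has no abelian Sylow `2`-subgroup of rank two and order at least 16. -/
theorem no_homo (p : ⁅A, A⁆ = A) (hS : Syl 2 S A) (a : Abel S) (k : IsKleinFour U)
    (hU : U ≤ S) (m : ∀ x ∈ S, x * x = 1 → x ∈ U) (d : 16 ∣ ♯S) : False := by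
  have n : 𝐎 {2}ᶜ A ⊴ A := O_normal _ _
  have kO : PiGrp {2}ᶜ (𝐎 {2}ᶜ A) := O_pi _ _
  have i : ∀ R ≤ S, 𝐎 {2}ᶜ A ⊓ R = ⊥ := fun R hR => by
    rw [inf_comm]; exact (hS.pi.le hR).inf_eq_bot kO
  have nS := hS.le.trans n.norm
  have e := card_qt_of_inf_bot nS (i S le_rfl)
  have s := sol_of_homo (hS.qt n.norm) (O_qt_O _ _) (a.qt _)
    (klein_equiv k (qt_iso_of_inf_bot (hU.trans nS) (i U hU))) (qt_mono _ hU) (fun x hx h => by
      obtain ⟨y, hy, hy', rfl⟩ := mem_qt.1 hx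
      rw [← qe_mul hy' hy', qe_eq_one (mul_mem hy' hy')] at h
      have : y * y ∈ 𝐎 {2}ᶜ A ⊓ S := ⟨h, mul_mem hy hy⟩
      rw [i S le_rfl, mem_bot] at this
      exact qe_mem_qt (m y hy this) hy') (e ▸ d)
  have := Sig.eq_bot_of_perfect_of_solvable (by rw [← qt_comm n.norm n.norm, p]) s
  have l := (hS.qt n.norm).le
  rw [this, le_bot_iff] at l
  rw [← e, l, card_bot] at d
  omega

end CF.SM
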