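-- copy of `SM.DQ` avoiding a name clash (`Comp.syl_inf`) with `Sig.S4D`
import Cfsg.Agent.NCq.SMRel

/-! A perfect normal subgroup of index at most two whose Sylow `2`-subgroup is dihedral or
semidihedral. -/

set_option autoImplicit false
set_option linter.unusedSectionVars false

namespace CF.SM
open Subgroup Cfsg CF.BG CF.PG CF.Bender
open scoped commutatorElement

variable {G : Type*} [Group G] [Finite G]
variable {A B C D H K L M N P Q R S T U V W X Y : Subgroup G} {a b c d e g s t u v w x y z : G}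

/-- `A` perfect of index at most two in `Y = A⟨t⟩`, with Sylow subgroup `T`. -/
structure Ext (A Y T : Subgroup G) (t : G) : Prop where
  pf : ⁅A, A⁆ = A
  nA : A ⊴ Y
  syl : Syl 2 T Y
  ht : t ∈ T
  t2 : t * t = 1
  two : ∀ w ∈ Y, w ∈ A ∨ w * t ∈ A

namespace Ext
variable (h : Ext A Y T t)
include h

theorem nt : NoTwo A := noTwo_of_perfect h.pf
theorem sylS : Syl 2 (T ⊓ A) A := h.syl.inf_normal h.nA
theorem nS : T ⊓ A ⊴ T := normalIn_inf_left (h.syl.le.trans h.nA.norm)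
theorem tinv : t⁻¹ = t := inv_eq_of_mul_eq_one_right h.t2

theorem cases (hw : w ∈ T) : w ∈ T ⊓ A ∨ ∃ s ∈ T ⊓ A, w = s * t :=
  (h.two w (h.syl.le hw)).imp (fun h' => ⟨hw, h'⟩) fun h' =>
    ⟨w * t, ⟨mul_mem hw h.ht, h'⟩, by rw [mul_assoc, h.t2, mul_one]⟩

theorem conj (hs : s ∈ T ⊓ A) : t * s * t ∈ T ⊓ A := by
  have := h.nS.conj_mem h.ht hs
  rwa [h.tinv] at this

theorem sq (hB : B ⊴ T) (i : B.relIndex (T ⊓ A) ≤ 2) (hw : w ∈ T) : w * w ∈ B := by
  rcases h.cases hw with h1 | ⟨s, hs, rfl⟩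
  · by_cases m : w ∈ B
    · exact mul_mem m m
    · exact SR.mul_mem_idx i h1 h1 m m
  · have e : s * t * (s * t) = s * (t * s * t⁻¹) := by rw [h.tinv]; group
    rw [e]
    by_cases m : s ∈ B
    · exact mul_mem m (hB.conj_mem h.ht m)
    · refine SR.mul_mem_idx i hs (h.nS.conj_mem h.ht hs) m fun m' => m ?_
      have := hB.conj_mem' h.ht m'
      simpa [mul_assoc] using this

end Ext

theorem exists_ext (p : ⁅A, A⁆ = A) (n : t ∈ 𝐍 A) (t2 : t * t = 1) (hT : Syl 2 T (A ⊔ zpowers t))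
    (ht : t ∈ T) : Ext A (A ⊔ zpowers t) T t := by
  refine ⟨p, normalIn_sup_left (zpowers_le.2 n), hT, ht, t2, fun w hw => ?_⟩
  obtain ⟨x, hx, y, hy, rfl⟩ := (mem_sup_norm' (zpowers_le.2 n)).1 hw
  by_cases t1 : t = 1
  · subst t1
    rw [zpowers_one_eq_bot, mem_bot] at hy
    exact .inl (by rwa [hy, mul_one])
  rcases (mem_zp ⟨t1, t2⟩).1 hy with rfl | rfl
  · exact .inl (by rwa [mul_one])
  · exact .inr (by rwa [mul_assoc, t2, mul_one])

/-- the maximal class configuration. -/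
structure DQ (S T : Subgroup G) (n : ℕ) (a d z : G) : Prop where
  hn : 2 ≤ n
  o : orderOf a = 2 ^ n
  ha : a ∈ S
  na : zpowers a ⊴ T
  ix : (zpowers a).relIndex S = 2
  hd : d = a ^ 2 ^ (n - 2)
  d2 : d * d = z
  act : ∀ x ∈ S, x ∉ zpowers a → x * a * x⁻¹ = a⁻¹ ∨ (3 ≤ n ∧ x * a * x⁻¹ = a⁻¹ * z)

theorem exists_dq {n : ℕ} (hn : 2 ≤ n) (o : orderOf a = 2 ^ n) (ha : a ∈ S) (na : zpowers a ⊴ T)
    (ix : (zpowers a).relIndex S = 2) (hc : c ∈ S) (hc' : c ∉ zpowers a) (q : Solv.DQS n a c) :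
    ∃ d z, DQ S T n a d z := by
  refine ⟨_, _, hn, o, ha, na, ix, rfl, rfl, fun x hx hx' => ?_⟩
  obtain ⟨i, hi⟩ := SR.mul_mem_idx ix.le (inv_mem hc) hx (by rwa [inv_mem_iff]) hx'
  have e : x * a * x⁻¹ = c * a * c⁻¹ := by
    have : x = c * a ^ i := by simp only at hi; rw [hi]; group
    rw [this]; group
  rw [e]
  rcases q with ⟨-, h⟩ | ⟨-, h⟩ | ⟨h3, -, h⟩
  · exact .inl h
  · exact .inl h
  · refine .inr ⟨h3, ?_⟩
    rw [h, ← pow_add, eq_inv_mul_iff_mul_eq, ← pow_succ']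
    congr 1
    obtain ⟨m, rfl⟩ : ∃ m, n = m + 2 := ⟨n - 2, by omega⟩
    have : 1 ≤ 2 ^ (m + 1) := Nat.one_le_two_pow
    simp only [Nat.add_sub_cancel, show m + 2 - 1 = m + 1 from rfl]
    omega

namespace DQ
variable {n : ℕ} (h : DQ S T n a d z)
include h

theorem hz : z = a ^ 2 ^ (n - 1) := by
  rw [← h.d2, h.hd, ← pow_add]
  obtain ⟨m, rfl⟩ : ∃ m, n = m + 2 := ⟨n - 2, by have := h.hn; omega⟩
  simp only [Nat.add_sub_cancel, show m + 2 - 1 = m + 1 from rfl]
  congr 1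
  ring

theorem iz : Iv z := by
  rw [iv_iff, h.hz, orderOf_pow_of_dvd (by positivity) (h.o ▸ pow_dvd_pow 2 (by omega)), h.o]
  obtain ⟨m, rfl⟩ : ∃ m, n = m + 1 := ⟨n - 1, by have := h.hn; omega⟩
  rw [Nat.add_sub_cancel, pow_succ, Nat.mul_div_cancel_left _ (by positivity)]

theorem dm : d ∈ zpowers a := h.hd ▸ pow_mem (mem_zpowers a) _
theorem zm : z ∈ zpowers a := h.d2 ▸ mul_mem h.dm h.dm
theorem uniq (hx : x ∈ zpowers a) (e : x * x = 1) : x = 1 ∨ x = z :=
  or_iff_not_imp_left.2 fun h1 => cyc_iv hx h.zm ⟨h1, e⟩ h.iz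

theorem cz (hg : g ∈ T) : g * z = z * g := by
  have := cyc_iv (h.na.conj_mem hg h.zm) h.zm (h.iz.conj g) h.iz
  rwa [mul_inv_eq_iff_eq_mul] at this

theorem comm (hx : x ∈ zpowers a) (hy : y ∈ zpowers a) : x * y = y * x :=
  mem_cent.1 ((cyc_zpowers a).abel hy) x hx

theorem dinv : d⁻¹ = d * z := inv_of_sq h.iz h.d2

theorem four (hx : x ∈ zpowers a) (e : x * x = z) : x = d ∨ x = d * z := by
  have : x * d⁻¹ * (x * d⁻¹) = 1 := by
    rw [mul_assoc, ← mul_assoc d⁻¹, ← h.comm hx (inv_mem h.dm), mul_assoc, ← mul_assoc, e,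
      ← mul_inv_rev, h.d2, mul_inv_cancel]
  rcases h.uniq (mul_mem hx (inv_mem h.dm)) this with e | e
  · exact .inl (mul_inv_eq_one.1 e)
  · exact .inr (by rw [mul_inv_eq_iff_eq_mul.1 e, h.comm h.zm h.dm])

theorem inv (hx : x ∈ S) (m : x ∉ zpowers a) : x * d * x⁻¹ = d⁻¹ := by
  rw [h.hd, ← conj_pow]
  rcases h.act x hx m with e | ⟨h3, e⟩
  · rw [e, inv_pow]
  · rw [e, Commute.mul_pow (h.comm (inv_mem (mem_zpowers a)) h.zm), inv_pow]
    obtain ⟨m, rfl⟩ : ∃ m, n = m + 3 := ⟨n - 3, by omega⟩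
    rw [show m + 3 - 2 = m + 1 from rfl, pow_succ' 2, pow_mul z, pow_two, h.iz.sq, one_pow, mul_one]

theorem aut (hg : g ∈ T) (c : g * g * a = a * (g * g)) (e : g * d = d * g) :
    g * a * g⁻¹ = a ∨ g * a * g⁻¹ = a * z := by
  obtain ⟨l, hl⟩ := h.na.conj_mem hg (mem_zpowers a)
  simp only at hl
  obtain ⟨m, rfl⟩ : ∃ m, n = m + 2 := ⟨n - 2, by have := h.hn; omega⟩
  have h1 : ((2 ^ (m + 2) : ℕ) : ℤ) ∣ l ^ 2 - 1 := by
    rw [← Solv.commute_iff_dvd_of_conj_eq' h.o (Solv.pow_conj_eq hl.symm 2), pow_two, c]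
  have h2 : (4 : ℤ) ∣ l - 1 := by
    have := (Solv.commute_iff_dvd_of_conj_eq h.o hl.symm (2 ^ m)).1 (by
      have := h.hd
      rw [Nat.add_sub_cancel] at this
      rw [this] at e
      exact_mod_cast e)
    push_cast at this
    rw [pow_add] at this
    exact (mul_dvd_mul_iff_left (by positivity)).1 this
  obtain ⟨k, hk⟩ := Solv.pow_dvd_sub_one_of_dvd_pow_sub_one (k := l) (r := m + 1) Nat.prime_two
    (by exact_mod_cast h1) (fun _ => h2)
  have e2 : a ^ l = a * z ^ k := by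
    rw [show l = 1 + (2 ^ (m + 1) : ℕ) * k by push_cast at hk ⊢; omega, zpow_add, zpow_one,
      zpow_mul, zpow_natCast, h.hz]
    rfl
  rw [← hl, e2]
  rcases (mem_zp h.iz).1 (zpow_mem (mem_zpowers z) k) with e | e
  · exact .inl (by rw [e, mul_one])
  · exact .inr (by rw [e])

theorem aut' (hg : g ∈ T) (c : g * g * a = a * (g * g)) (e : g * d = d * g) (hb : b ∈ zpowers a) :
    g * b * g⁻¹ = b ∨ g * b * g⁻¹ = b * z := by
  obtain ⟨i, rfl⟩ := hb
  simp only
  rcases h.aut hg c e with e | e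
  · exact .inl (by rw [← conj_zpow, e])
  · rw [← conj_zpow, e, Commute.mul_zpow (h.comm (mem_zpowers a) h.zm)]
    rcases (mem_zp h.iz).1 (zpow_mem (mem_zpowers z) i) with e | e
    · exact .inl (by rw [e, mul_one])
    · exact .inr (by rw [e])

end DQ

section
variable {n : ℕ} (h : Ext A Y T t) (q : DQ (T ⊓ A) T n a d z)
include h q

theorem dq_e (he : e ∈ T) (e2 : e * e = z) (hs : s ∈ T ⊓ A) (i : Iv s) (c : e * s = s * e) :
    s = z := by
  obtain ⟨g, hg, m⟩ := h.nt.thompson h.sylS q.ix.dvd i hs.2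
  exact sq_trick h.syl (fun g hg => mem_cent1.2 (q.cz hg)) q.iz
    (fun w hw iw => cyc_iv (h.sq q.na q.ix.le hw) q.zm iw q.iz) (h.nA.le hg)
    (cyc_iv m q.zm (i.conj g) q.iz) (h.syl.le he) e2 c

theorem dq_t (hv : v ∈ T) (v2 : v * v = 1) (c : v * d = d * v) (hs : s ∈ T ⊓ A) (i : Iv s) :
    v * s = s * v := by
  by_contra nc
  have sz : s ≠ z := by rintro rfl; exact nc (q.cz hv)
  have m : s ∉ zpowers a := fun m => sz (cyc_iv m q.zm i q.iz)
  have vi : v⁻¹ = v := inv_eq_of_mul_eq_one_right v2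
  have hb : s * (v * s * v⁻¹) ∈ zpowers a :=
    SR.mul_mem_idx q.ix.le hs (h.nS.conj_mem hv hs) m fun m' => m (by
      have := q.na.conj_mem' hv m'
      simpa [mul_assoc] using this)
  set b := s * (v * s * v⁻¹) with eb
  have e1 : v * b * v⁻¹ * b = 1 := by
    rw [eb, vi]
    calc v * (s * (v * s * v)) * v * (s * (v * s * v))
        = v * (s * (v * (s * (v * v) * s) * v) * s) * v := by group
      _ = 1 := by rw [v2, mul_one, i.sq, mul_one, v2, mul_one, i.sq, mul_one, v2]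
  have b2 : b * b = 1 := by
    rcases q.aut' hv (by rw [v2, one_mul, mul_one]) c hb with e | e
    · rwa [e] at e1
    · exfalso
      rw [e, mul_assoc, q.comm q.zm hb, ← mul_assoc, mul_eq_one_iff_eq_inv, q.iz.inv] at e1
      have : v * b = b * v := by
        rcases q.four hb e1 with e | e
        · rw [e, c]
        · rw [e, ← mul_assoc, c, mul_assoc, q.cz hv, mul_assoc]
      rw [this, mul_inv_cancel_right, left_eq_mul] at e
      exact q.iz.ne e
  rcases q.uniq hb b2 with e | e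
  · rw [eb, mul_eq_one_iff_inv_eq, i.inv, eq_mul_inv_iff_mul_eq] at e
    exact nc e.symm
  · refine sz (dq_e h q (mul_mem hv (q.na.le q.dm)) ?_ hs i ?_)
    · calc v * d * (v * d) = v * (d * v) * d := by group
        _ = z := by rw [← c, ← mul_assoc, v2, one_mul, q.d2]
    · have e3 : d * s = s * (d * z) := by
        rw [← q.dinv, ← q.inv hs m, i.inv]
        calc d * s = s * s * d * s := by rw [i.sq, one_mul]
          _ = _ := by group
      have e4 : v * s = s * z * v := by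
        rw [← e, eb, ← mul_assoc s s, i.sq, one_mul, inv_mul_cancel_right]
      rw [mul_assoc, e3, ← mul_assoc, e4, mul_assoc s z, ← q.cz hv]
      calc s * (v * z) * (d * z) = s * v * (z * d) * z := by group
        _ = s * (v * d) * (z * z) := by rw [q.comm q.zm q.dm]; group
        _ = _ := by rw [q.iz.sq, mul_one]

end

end CF.SM
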