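-- copy of `CmpT.T1` avoiding a name clash (`Comp.syl_inf`) with `Sig.S4D`
/-
Terminal components: classes of commuting conjugates.
-/
import Cfsg.Agent.NCq.CmpTK3
set_option autoImplicit false
set_option linter.unusedSectionVars false

namespace CF.CmpT
open Subgroup Cfsg CF.BG CF.Sig CF.CT CF.PG CF.Bender CF.SM
open CF.ZD (iv_pi)
open scoped commutatorElement

universe u
variable {G : Type u} [Group G] [Finite G]
variable {A A' B B' C D H K L M N P Q R S T U V W X Y : Subgroup G}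
  {a b c d e g k n r s t u v w x y z : G}

/-- a terminal component of 2-rank at least two commuting with a conjugate -/
structure TH (K : Subgroup G) : Prop where
  self : Comp K K
  comp : ∀ {y : G}, Iv y → y ∈ 𝐂 K → Comp K (𝐂₁ y)
  four : Four K
  two : ∃ g, cj g K ≤ 𝐂 K

/-- `B` lies in the class of `A` -/
structure Mem (A B : Subgroup G) : Prop where
  conj : Conj A B
  sim : B = A ∨ B ≤ 𝐂 A

/-- the stabilizer of the class of `A` -/
def MM (A : Subgroup G) : Subgroup G where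
  carrier := {g | ∀ B, Mem A B ↔ Mem A (cj g B)}
  one_mem' := by simp
  mul_mem' := fun {g k} hg hk B => by rw [← cj_cj]; exact (hk B).trans (hg _)
  inv_mem' := fun {g} hg B => by simpa using (hg (cj g⁻¹ B)).symm

/-- involutions centralizing a member of the class of `A` -/
structure InD (A : Subgroup G) (t : G) : Prop where
  iv : Iv t
  ex : ∃ B, Mem A B ∧ t ∈ 𝐂 B

theorem Mem.refl (A : Subgroup G) : Mem A A := ⟨.refl A, .inl rfl⟩

theorem Mem.symm (h : Mem A B) : Mem B A := ⟨h.conj.symm, h.sim.imp Eq.symm cent_symm⟩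

theorem Mem.cj (h : Mem A B) (g : G) : Mem (cj g A) (cj g B) :=
  ⟨conj_cj_left.2 (conj_cj_right.2 h.conj), h.sim.imp (congrArg _) cj_cent_iff.2⟩

theorem mem_cj_cj : Mem (cj g A) (cj g B) ↔ Mem A B :=
  ⟨fun h => by simpa using h.cj g⁻¹, fun h => h.cj g⟩

theorem Mem.cent (h : Mem A B) (n : B ≠ A) : B ≤ 𝐂 A := h.sim.resolve_left n

theorem Mem.cent' (h : Mem A B) (n : B ≠ A) : A ≤ 𝐂 B := cent_symm (h.cent n)

theorem Mem.norm (h : Mem A B) : B ≤ 𝐍 A :=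
  h.sim.elim (fun e => e ▸ le_norm_self _) norm_of_cent

theorem Mem.norm' (h : Mem A B) : A ≤ 𝐍 B := h.symm.norm

theorem Mem.act (h : Mem A B) (hg : g ∈ MM A) : Mem A (BG.cj g B) := (hg B).1 h

theorem mem_self (hg : g ∈ MM A) : Mem A (cj g A) := (Mem.refl A).act hg

theorem cj_MM (g : G) (A : Subgroup G) : cj g (MM A) = MM (cj g A) := by
  ext x
  rw [mem_cj]
  refine ⟨fun h B => ?_, fun h B => ?_⟩
  · have := h (cj g⁻¹ B)
    rw [← mem_cj_cj (g := g) (B := cj g⁻¹ B), ← mem_cj_cj (g := g) (B := cj (g⁻¹ * x * g) _)] at this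
    simpa [cj_cj, mul_assoc] using this
  · have := h (cj g B)
    rw [mem_cj_cj, ← mem_cj_cj (g := g⁻¹) (A := cj g A)] at this
    simpa [cj_cj, mul_assoc] using this

theorem InD.cj (h : InD A t) (g : G) : InD (cj g A) (g * t * g⁻¹) :=
  ⟨h.iv.conj g, let ⟨B, m, c⟩ := h.ex; ⟨_, m.cj g, by rw [← cj_cent]; exact conj_mem_cj.2 c⟩⟩

theorem InD.act (h : InD A t) (hg : g ∈ MM A) : InD A (g * t * g⁻¹) :=
  ⟨h.iv.conj g, let ⟨B, m, c⟩ := h.ex; ⟨_, m.act hg, by rw [← cj_cent]; exact conj_mem_cj.2 c⟩⟩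

theorem inD_cent (i : Iv t) (c : t ∈ 𝐂 A) : InD A t := ⟨i, A, .refl A, c⟩

theorem exists_fix0 (o : ¬ PiGrp {2}ᶜ A) (k : PiGrp {2} P) (n : P ≤ 𝐍 A) :
    ∃ t ∈ A, Iv t ∧ t ∈ 𝐂 P := by
  obtain ⟨S, hS, l⟩ := exists_syl_le (le_sup_right : P ≤ A ⊔ P) k
  have s := hS.inf_normal (normalIn_sup_left n)
  obtain ⟨z, hz, i⟩ := exists_center p2 hS.pi ((normalIn_sup_left n).inf_left hS.le) fun e =>
    o (e ▸ s).pi'_of_eq_bot
  exact ⟨z, hz.1.2, iv_iff.2 i, cent_anti l hz.2.2⟩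

namespace TH
variable (h : TH A)
include h

protected theorem cj (g : G) : TH (cj g A) where
  self := h.self.cj g
  comp := fun {y} i c => by
    have := (h.comp (i.conj' g) (mem_cj.1 (by rwa [cj_cent]))).cj g
    rwa [cj_cent1, show g * (g⁻¹ * y * g) * g⁻¹ = y by group] at this
  four := h.four.cj g
  two := let ⟨k, l⟩ := h.two; ⟨g * k * g⁻¹, by
    rw [cj_cj, inv_mul_cancel_right, ← cj_cj]; exact cj_cent_iff.2 l⟩

theorem conj (c : Conj A B) : TH B := let ⟨g, e⟩ := c; e ▸ h.cj g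

theorem mem (m : Mem A B) : TH B := h.conj m.conj

theorem perf : ⁅A, A⁆ = A := h.self.perfect

theorem noTwo : NoTwo A := Comp.noTwo h.self

theorem not_le : ¬ A ≤ 𝐂 A := h.self.not_abel

theorem sim (c : Conj A B) (i : Iv t) (a : t ∈ 𝐂 A) (b : t ∈ 𝐂 B) : Mem A B :=
  ⟨c, ((h.conj c).comp i b).eq_or_cent (h.comp i a)⟩

theorem exists_iv : ∃ t ∈ A, Iv t := let ⟨a, ha, _, _, i, _⟩ := h.four; ⟨a, ha, i⟩

theorem trans (m : Mem A B) (k : Mem B D) : Mem A D := by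
  rcases m.sim with rfl | c
  · exact k
  rcases k.sim with rfl | c'
  · exact m
  obtain ⟨t, ht, i⟩ := (h.mem m).exists_iv
  exact h.sim (m.conj.trans k.conj) i (c ht) (cent_symm c' ht)

theorem mm (m : Mem A B) (k : Mem A D) : Mem B D := (h.mem m).trans m.symm k

theorem mem_MM (m : Mem A (cj g A)) : g ∈ MM A := fun _ =>
  ⟨fun k => h.trans m (k.cj g), fun k => mem_cj_cj.1 (h.mm m k)⟩

theorem mem_MM' (k : Mem A B) (m : Mem A (cj g B)) : g ∈ MM A :=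
  h.mem_MM (h.trans m (k.symm.cj g))

theorem MM_eq (m : Mem A B) : MM B = MM A := by
  ext g
  exact ⟨fun k => h.mem_MM' m (h.trans m (mem_self k)),
    fun k => (h.mem m).mem_MM' m.symm (h.mm m (mem_self k))⟩

theorem norm_le (m : Mem A B) : 𝐍 B ≤ MM A := fun _ hg => h.mem_MM' m (by rwa [cj_of_norm hg])

theorem le (m : Mem A B) : B ≤ MM A := (le_norm_self B).trans (h.norm_le m)

theorem le_self : A ≤ MM A := h.le (.refl A)

theorem cent_le (m : Mem A B) : 𝐂 B ≤ MM A := (cent_le_norm B).trans (h.norm_le m)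

theorem partner (m : Mem A B) : ∃ D, Mem A D ∧ D ≠ B ∧ D ≤ 𝐂 B := by
  obtain ⟨g, l⟩ := (h.mem m).two
  exact ⟨_, h.trans m ⟨conj_cj B g, .inr l⟩, fun e => (h.mem m).not_le (e.ge.trans l), l⟩

theorem inD (m : Mem A B) (ht : t ∈ B) (i : Iv t) : InD A t :=
  let ⟨D, k, _, l⟩ := h.partner m; ⟨i, D, k, cent_symm l ht⟩

theorem inD_self (ht : t ∈ A) (i : Iv t) : InD A t := h.inD (.refl A) ht i

theorem inD_of (m : Mem A B) (d : InD B t) : InD A t :=
  ⟨d.iv, let ⟨D, k, c⟩ := d.ex; ⟨D, h.trans m k, c⟩⟩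

theorem cent1_le (d : InD A t) : 𝐂₁ t ≤ MM A := fun g hg => by
  obtain ⟨B, m, c⟩ := d.ex
  have k := (h.mem m).comp d.iv c
  exact h.mem_MM' m (h.trans m ⟨conj_cj B g, (k.cj_of_norm (le_norm_self _ hg)).eq_or_cent k⟩)

theorem of_comm (d : InD A t) (c : g * t = t * g) : g ∈ MM A := h.cent1_le d (mem_cent1.2 c)

theorem of_comm' (d : InD A t) (c : t * g = g * t) : g ∈ MM A := h.of_comm d c.symm

theorem inD_mem (d : InD A t) : t ∈ MM A := h.of_comm d rfl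

theorem uniq (c : Conj A A') (d : InD A t) (d' : InD A' t) : Mem A A' := by
  obtain ⟨B, m, a⟩ := d.ex
  obtain ⟨B', m', a'⟩ := d'.ex
  exact h.trans (h.trans m ((h.mem m).sim ((m.conj.symm.trans c).trans m'.conj) d.iv a a')) m'.symm

theorem fus (d : InD A t) (d' : InD A (g * t * g⁻¹)) : g ∈ MM A :=
  h.mem_MM (h.uniq (conj_cj A g) d' (d.cj g))

/-- property (★) -/
theorem odd (c : Conj A A') (n : ¬ Mem A A') (m : Mem A B) (m' : Mem A' B') :
    PiGrp {2}ᶜ (𝐂 B ⊓ 𝐂 B') := pi_of_inv fun _ hs o =>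
  n (h.uniq c ⟨iv_iff.2 o, B, m, hs.1⟩ ⟨iv_iff.2 o, B', m', hs.2⟩)

theorem eq_one (c : Conj A A') (n : ¬ Mem A A') (m : Mem A B) (m' : Mem A' B') (a : x ∈ 𝐂 B)
    (b : x ∈ 𝐂 B') (k : PiElt {2} x) : x = 1 := k.eq_one ((h.odd c n m m').elt ⟨a, b⟩)

theorem exists_fix (k : PiGrp {2} P) (n : P ≤ 𝐍 A) : ∃ t ∈ A, Iv t ∧ t ∈ 𝐂 P :=
  exists_fix0 (Comp.not_odd h.self) k n

theorem exists_fix1 (k : PiElt {2} x) (n : x ∈ 𝐍 A) : ∃ t ∈ A, Iv t ∧ t * x = x * t :=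
  let ⟨t, ht, i, c⟩ := h.exists_fix k.zpowers (zpowers_le.2 n)
  ⟨t, ht, i, (mem_cent.1 c x (mem_zpowers x)).symm⟩

theorem syl_not_cent (hR : Syl 2 R A) : ¬ R ≤ 𝐂 A :=
  qs_syl_not_cent h.self.qs p2 (by_contra fun d =>
    Comp.not_odd h.self ((piNat_compl_single p2).2 d)) (.refl A) hR

theorem two_lt (hR : Syl 2 R A) : 2 < ♯R :=
  two_lt_syl h.perf (by_contra fun d => Comp.not_odd h.self ((piNat_compl_single p2).2 d)) hR

theorem MM_ne [IsSimpleGroup G] : MM A ≠ ⊤ := fun e => by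
  have n : (sSup {B | Mem A B}).Normal := normalIn_top.1 ⟨le_top, le_norm_of_cj_le fun g _ => by
    rw [cj_sSup]
    exact sSup_le_sSup (by rintro _ ⟨B, m, rfl⟩; exact Mem.act m (e ▸ mem_top g))⟩
  have nA : sSup {B | Mem A B} ≤ 𝐍 A := sSup_le fun B m => Mem.norm m
  obtain ⟨D, m, ne, l⟩ := h.partner (.refl A)
  rcases n.eq_bot_or_eq_top with q | q
  · exact h.self.ne_bot (eq_bot_mono q (le_sSup (Mem.refl A)))
  · obtain ⟨g, rfl⟩ := m.conj
    exact ne (cj_of_norm (nA (q ▸ mem_top g)))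

end TH

/-- the class has at least three members -/
def Three (A : Subgroup G) : Prop := ∃ B D, Mem A B ∧ Mem A D ∧ B ≠ A ∧ D ≠ A ∧ B ≠ D

theorem Three.cj (t : Three A) (g : G) : Three (cj g A) :=
  let ⟨_, _, m, k, a, b, c⟩ := t
  ⟨_, _, m.cj g, k.cj g, by simpa using a, by simpa using b, by simpa using c⟩

theorem Three.conj (t : Three A) (c : Conj A B) : Three B := let ⟨g, e⟩ := c; e ▸ t.cj g

theorem TH.third (h : TH A) (t : Three A) (m : Mem A B) (k : Mem A D) :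
    ∃ X, Mem A X ∧ X ≠ B ∧ X ≠ D ∧ B ≤ 𝐂 X ∧ D ≤ 𝐂 X := by
  obtain ⟨X, Y, a, b, n1, n2, n3⟩ := t.conj m.conj
  have : ∃ X, Mem A X ∧ X ≠ B ∧ X ≠ D := by
    by_cases e : X = D
    exacts [⟨Y, h.trans m b, n2, fun q => n3 (e.trans q.symm)⟩, ⟨X, h.trans m a, n1, e⟩]
  obtain ⟨X, a, n1, n2⟩ := this
  exact ⟨X, a, n1, n2, (h.mm m a).cent' n1, (h.mm k a).cent' n2⟩

theorem TH.eq_of_two (h : TH A) (t : ¬ Three A) (m : Mem A X) (k : Mem A B) (l : Mem A D)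
    (a : B ≠ X) (b : D ≠ X) : B = D := by_contra fun n =>
  t (Three.conj ⟨B, D, h.mm m k, h.mm m l, a, b, n⟩ m.conj.symm)

theorem TH.i2 (h : TH A) (t : ¬ Three A) (m : Mem A B) : I2 (𝐍 B) (MM A) := fun a ha b hb na nb => by
  rw [← cj_eq_self, ← cj_cj, cj_eq_iff]
  exact h.eq_of_two t m (m.act hb) (m.act (inv_mem ha)) (mt cj_eq_self.1 nb)
    fun e => na (inv_mem_iff.1 (cj_eq_self.1 e))

theorem TH.norm_other (h : TH A) (t : ¬ Three A) (m : Mem A B) (k : Mem A D) (hg : g ∈ 𝐍 B) :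
    g ∈ 𝐍 D := by
  by_cases e : D = B
  · exact e ▸ hg
  · exact cj_eq_self.1 (h.eq_of_two t m (k.act (h.norm_le m hg)) k
      (fun q => e (cj_inj.1 (q.trans (cj_of_norm hg).symm))) e)

theorem perf_le (p : ⁅D, D⁆ = D) (i : I2 X S) (l : D ≤ S) : D ≤ X :=
  relIndex_eq_one.1 (((Nat.dvd_prime p2).1 (i.mono le_rfl l).rel).resolve_right
    (noTwo_of_perfect p X))

end CF.CmpT
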