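-- copy of `CmpT.T2` avoiding a name clash (`Comp.syl_inf`) with `Sig.S4D`
/-
Terminal components: the case of control of rank one fusion.
-/
import Cfsg.Agent.NCq.CmpTT1
import Cfsg.Agent.ZD.Cor
import Cfsg.Agent.Bender.Final
set_option autoImplicit false
set_option linter.unusedSectionVars false

namespace CF.CmpT
open Subgroup Cfsg CF.BG CF.Sig CF.CT CF.PG CF.Bender CF.SM
open CF.ZD (iv_pi)
open scoped commutatorElement

universe u
variable {G : Type u} [Group G] [Finite G]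
variable {A A' B B' C D H K L M N P Q R S T U V W X Y : Subgroup G}
  {a a' b c d e g k n r s t u v w x y z : G}

/-- the product of the class -/
def EE (A : Subgroup G) : Subgroup G := sSup {B | Mem A B}

theorem Mem.le_EE (m : Mem A B) : B ≤ EE A := le_sSup m

theorem MM_norm (A : Subgroup G) : MM A ≤ 𝐍 (EE A) := le_norm_of_cj_le fun g hg => by
  rw [EE, cj_sSup]
  exact sSup_le_sSup (by rintro _ ⟨B, m, rfl⟩; exact Mem.act m hg)

theorem TH.EE_le (h : TH A) : EE A ≤ MM A := sSup_le fun _ m => h.le m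

theorem TH.EE_le_sup (h : TH A) (m : Mem A B) : EE A ≤ B ⊔ 𝐂 B := sSup_le fun _ k =>
  (h.mm m k).sim.elim (fun e => e ▸ le_sup_left) fun l => l.trans le_sup_right

theorem TH.center_le (h : TH A) (m : Mem A B) : B ⊓ 𝐂 B ≤ 𝐂 (EE A) := le_cent_sSup fun _ k =>
  (h.mm m k).sim.elim (fun e => e ▸ inf_le_right) fun l => inf_le_left.trans (cent_symm l)

theorem Four.cent (f : Four K) (ha : a ∈ K) (i : Iv a) : ∃ u ∈ K, Iv u ∧ u ≠ a ∧ u * a = a * u := by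
  obtain ⟨R, hR, l⟩ := exists_syl_le (zpowers_le.2 ha) (iv_pi i)
  have m := l (mem_zpowers a)
  obtain ⟨z, hz, o⟩ := exists_center p2 hR.pi (.refl R) (ne_bot_of_mem m i.ne)
  by_cases e : z = a
  · obtain ⟨s, hs, is, n⟩ := (f.syl hR).ne a
    exact ⟨s, hR.le hs, is, n, mem_cent.1 (e ▸ hz.2.2) s hs⟩
  · exact ⟨z, hR.le hz.1, iv_iff.2 o, e, (mem_cent.1 hz.2.2 a m).symm⟩

/-- `a` is the projection of `w` to `B` -/
structure Pr (w : G) (B : Subgroup G) (a : G) : Prop where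
  mem : a ∈ B
  sq : a * a = 1
  cent : a * w ∈ 𝐂 B

theorem Pr.cj (h : Pr w B a) (hg : g ∈ 𝐂₁ w) : Pr w (cj g B) (g * a * g⁻¹) :=
  ⟨conj_mem_cj.2 h.mem, by rw [conj_mul, h.sq]; simp, by
    rw [← conj_fix (mem_cent1.1 hg), conj_mul, ← cj_cent]; exact conj_mem_cj.2 h.cent⟩

theorem Pr.comm (h : Pr w B a) (hu : u ∈ B) (c : u * a = a * u) : u * w = w * u := by
  have := mem_cent.1 h.cent u hu
  rwa [← mul_assoc, c, mul_assoc, mul_assoc, mul_right_inj] at this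

theorem Pr.uniq (h : Pr w B a) (k : Pr w B a') (o : PiGrp {2}ᶜ (B ⊓ 𝐂 B)) : a' = a := by
  have c : a' * a⁻¹ ∈ 𝐂 B := by simpa [mul_assoc] using mul_mem k.cent (inv_mem h.cent)
  refine mul_inv_eq_one.1 ((two_elt ?_).eq_one (o.elt (mem_inf.2 ⟨mul_mem k.mem (inv_mem h.mem), c⟩)))
  have := mem_cent.1 c _ h.mem
  rw [inv_eq_of_mul_eq_one_right h.sq] at this ⊢
  rw [mul_assoc, this, mul_assoc, h.sq, mul_one, k.sq]

theorem exists_pr (hw : w ∈ B ⊔ 𝐂 B) (i : w * w = 1) (o : PiGrp {2}ᶜ (B ⊓ 𝐂 B)) : ∃ a, Pr w B a := by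
  obtain ⟨a, ha, b, hb, rfl⟩ := (mem_sup_norm' (cent_le_norm B)).1 hw
  have c := mem_cent.1 hb a ha
  have m : a * a ∈ 𝐂 B := by
    rw [mul_assoc, ← mul_assoc b, ← c, mul_assoc, ← mul_assoc] at i
    rw [eq_inv_of_mul_eq_one_left i]
    exact inv_mem (mul_mem hb hb)
  obtain ⟨j, hj⟩ := odd_elt.1 (o.elt ⟨mul_mem ha ha, m⟩)
  refine ⟨a ^ (2 * j + 1), pow_mem ha _, ?_, ?_⟩
  · rw [← Commute.mul_pow (.refl a), ← hj, pow_orderOf_eq_one]
  · rw [← mul_assoc, ← pow_succ, show 2 * j + 1 + 1 = 2 * (j + 1) by ring, pow_mul, pow_two]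
    exact mul_mem (pow_mem m _) hb

/-- control of rank one fusion -/
def FU (A : Subgroup G) : Prop := ∀ t g, InD A t → g * t * g⁻¹ ∈ MM A → g ∈ MM A

namespace TH
variable (h : TH A) (f : FU A) (o : PiGrp {2}ᶜ (𝐂 (EE A)))
include h f o

theorem star (hw : w ∈ EE A) (iw : Iv w) : 𝐂₁ w ≤ MM A := fun y hy => by
  by_contra ny
  have oA := o.le (h.center_le (.refl A))
  have nd : ¬ InD A w := fun d => ny (h.cent1_le d hy)
  have wM := h.EE_le hw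
  obtain ⟨a, p⟩ := exists_pr (h.EE_le_sup (.refl A) hw) iw.sq oA
  have ia : Iv a := ⟨fun e => nd (inD_cent iw (by simpa [e] using p.cent)), p.sq⟩
  have da := h.inD_self p.mem ia
  obtain ⟨u, hu, iu, ne, c⟩ := h.four.cent p.mem ia
  have du := h.inD_self hu iu
  have uw : u ∈ 𝐂₁ w := mem_cent1.2 (p.comm hu c)
  have aw : a ∈ 𝐂₁ w := mem_cent1.2 (p.comm p.mem rfl)
  have nu : w * u ∉ 𝐂 A := fun m => ne (p.uniq ⟨hu, iu.sq, mem_cent1.1 uw ▸ m⟩ oA)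
  have key : ∀ {k}, k ∈ 𝐂₁ w → k * a * k⁻¹ ∈ MM A → Pr w (cj k A) (k * a * k⁻¹) ∧ Mem A (cj k A) :=
    fun hk m => ⟨p.cj hk, mem_self (f _ _ da m)⟩
  have iv := ia.conj y
  have rw' : y * a * y⁻¹ * u ∈ 𝐂₁ w := mul_mem (mul_mem (mul_mem hy aw) (inv_mem hy)) uw
  rcases Nat.even_or_odd (orderOf (y * a * y⁻¹ * u)) with ev | od
  swap
  · obtain ⟨m, e⟩ := CF.Invol.exists_pow_conj_of_odd iv.sq iu.sq od
    have e' : (y * a * y⁻¹ * u) ^ m * y * a * ((y * a * y⁻¹ * u) ^ m * y)⁻¹ = u :=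
      Eq.trans (by group) e
    obtain ⟨q, l⟩ := key (mul_mem (pow_mem rw' m) hy) (e'.symm ▸ h.le_self hu)
    rw [e'] at q
    rcases l.sim with l | l
    · exact ne (p.uniq (l ▸ q) oA)
    · exact iu.ne ((two_elt iu.sq).eq_one (oA.elt ⟨hu, l q.mem⟩))
  have ic := iv_iff.2 (CF.Invol.orderOf_pow_half ev)
  have i1 := CF.Invol.left_inverts_mul iv.sq iu.sq
  have i2 := CF.Invol.right_inverts_mul iv.sq iu.sq
  have c1 := (CF.Invol.commute_pow_half_of_inverts i1 ev).eq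
  have c2 := (CF.Invol.commute_pow_half_of_inverts i2 ev).eq
  have ev' : y * a * y⁻¹ = y * a * y⁻¹ * u * u := by rw [mul_assoc _ u, iu.sq, mul_one]
  generalize y * a * y⁻¹ * u = r at *
  generalize orderOf r / 2 = k at *
  have cu : ∀ j : ℕ, r ^ j * u * (r ^ j)⁻¹ = r ^ (2 * j) * u := fun j => by
    rw [← CF.Invol.conj_pow_of_inverts i2, iu.inv, two_mul, pow_add, ← mul_assoc, ← mul_assoc,
      mul_assoc _ u u, iu.sq, mul_one]
  have cv : ∀ j : ℕ, r ^ j * (y * a * y⁻¹) * (r ^ j)⁻¹ = r ^ (2 * j + 1) * u := fun j => by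
    rw [ev', ← conj_mul, cu, conj_fix (Commute.pow_self r j), ← mul_assoc, pow_succ']
  have cM : r ^ k ∈ MM A := h.of_comm du c2
  have cM' : y⁻¹ * r ^ k * y ∈ MM A := h.of_comm da (by
    calc _ = y⁻¹ * (r ^ k * (y * a * y⁻¹)) * y := by group
      _ = _ := by rw [c1]; group)
  have cw := pow_mem rw' k
  obtain ⟨j, rfl | rfl⟩ := Nat.even_or_odd' k
  · have dM := f _ _ du (cu j ▸ mul_mem cM (h.le_self hu))
    have e : y⁻¹ * r ^ j * y * a * (y⁻¹ * r ^ j * y)⁻¹ = y⁻¹ * r ^ (2 * j) * y * a := by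
      calc _ = y⁻¹ * (r ^ j * (y * a * y⁻¹) * (r ^ j)⁻¹) * y := by group
        _ = y⁻¹ * (r ^ (2 * j) * (r * u)) * y := by rw [cv]; group
        _ = _ := by rw [← ev']; group
    obtain ⟨q, l⟩ := key (mul_mem (mul_mem (inv_mem hy) (pow_mem rw' j)) hy)
      (e ▸ mul_mem cM' (h.le_self p.mem))
    rw [e] at q
    have m : r ^ (2 * j) * u ∈ cj (r ^ j) A := cu j ▸ conj_mem_cj.2 hu
    generalize r ^ (2 * j) = c at *
    have cw' : y⁻¹ * c * y ∈ 𝐂₁ w := mul_mem (mul_mem (inv_mem hy) cw) hy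
    rcases l.sim with l' | l'
    · exact (ic.conj' y).ne (mul_eq_right.1 (p.uniq (l' ▸ q) oA))
    by_cases e1 : y⁻¹ * c * y = w
    · obtain rfl : c = w := by rw [← conj_fix (mem_cent1.1 hy), ← e1]; group
      rcases (mem_self dM).sim with l | l
      · exact nd (h.inD_self ((mul_mem_cancel_right hu).1 (l ▸ m)) iw)
      · exact nu (l m)
    · refine ny (f _ y ⟨iv_mul (ic.conj' y) iw e1 (mem_cent1.1 cw'), _, l, ?_⟩ ?_)
      · have := mul_mem q.cent (cent_symm l' p.mem)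
        rwa [mul_assoc _ w, ← mem_cent1.1 aw, mul_assoc _ a, ← mul_assoc a, ia.sq, one_mul] at this
      · rw [← conj_mul, conj_fix (mem_cent1.1 hy)]
        exact mul_mem (by simpa [mul_assoc] using cM) wM
  · have e : r ^ j * y * a * (r ^ j * y)⁻¹ = r ^ (2 * j + 1) * u := by rw [← cv]; group
    obtain ⟨q, l⟩ := key (mul_mem (pow_mem rw' j) hy) (e ▸ mul_mem cM (h.le_self hu))
    rw [e] at q
    generalize r ^ (2 * j + 1) = c at *
    have two : ∀ {x}, InD A x → y⁻¹ * x * y ∉ MM A := fun d m =>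
      ny (inv_mem_iff.1 (f _ _ d (by rwa [inv_inv])))
    rcases l.sim with l' | l'
    · exact two (h.inD_self ((mul_mem_cancel_right hu).1 (l' ▸ q.mem)) ic) cM'
    by_cases e1 : c = w
    · exact nu (e1 ▸ l' q.mem)
    · refine two ⟨iv_mul ic iw e1 (mem_cent1.1 cw), _, l, ?_⟩ ?_
      · have := mul_mem q.cent (cent_symm l' hu)
        rwa [mul_assoc, mul_assoc, ← mem_cent1.1 uw, ← mul_assoc u, iu.sq, one_mul] at this
      · rw [show y⁻¹ * (c * w) * y = y⁻¹ * c * y * (y⁻¹ * w * y⁻¹⁻¹) by group,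
          conj_fix (mem_cent1.1 (inv_mem hy))]
        exact mul_mem cM' wM

theorem fusE (hz : z ∈ EE A) (iz : Iv z) (m : g * z * g⁻¹ ∈ MM A) : g ∈ MM A := by
  by_contra ng
  have is := iz.conj g
  have l : 𝐂₁ (g * z * g⁻¹) ≤ MM (cj g A) := by
    rw [← cj_cent1, ← cj_MM]; exact cj_mono g (h.star f o hz iz)
  generalize g * z * g⁻¹ = s at *
  have nd : ∀ {t}, InD A t → t * s ≠ s * t := fun d c => ng (inv_mem_iff.1 (f _ _ d (by
    have := l (mem_cent1.2 c)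
    rwa [← cj_MM, mem_cj, ← inv_inv g, inv_inv g⁻¹] at this)))
  have ne : cj s A ≠ A := fun e =>
    let ⟨t, ht, i, c⟩ := h.exists_fix1 (two_elt is.sq) (cj_eq_self.1 e); nd (h.inD_self ht i) c
  have cA := (mem_self m).cent ne
  have cm : ∀ {t t'}, t ∈ A → t' ∈ A → t * (s * t' * s⁻¹) = s * t' * s⁻¹ * t := fun ht ht' =>
    mem_cent.1 (cA (conj_mem_cj.2 ht')) _ ht
  have w1 : ∀ {t}, t ∈ A → Iv t → Iv (t * (s * t * s⁻¹)) := fun ht i =>
    iv_mul i (i.conj s) (fun e => i.ne ((two_elt i.sq).eq_one ((o.le (h.center_le (.refl A))).elt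
      ⟨ht, e ▸ cA (conj_mem_cj.2 ht)⟩))) (cm ht ht)
  have w2 : ∀ {t}, t ∈ A → t * (s * t * s⁻¹) * s = s * (t * (s * t * s⁻¹)) := fun {t} ht => by
    rw [eq_comm, ← mul_inv_eq_iff_eq_mul, ← conj_mul, cm ht ht,
      show s * (s * t * s⁻¹) * s⁻¹ = s * s * t * (s * s)⁻¹ by group, is.sq]
    simp
  have w3 : ∀ {t}, t ∈ A → t * (s * t * s⁻¹) ∈ EE A := fun ht =>
    mul_mem ((Mem.refl A).le_EE ht) ((mem_self m).le_EE (conj_mem_cj.2 ht))
  obtain ⟨a, ha, b, hb, ia, ib, n, c⟩ := h.four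
  by_cases t : Three A
  · obtain ⟨X, k, -, -, l1, l2⟩ := h.third t (.refl A) (mem_self m)
    exact nd ⟨w1 ha ia, X, k, mul_mem (l1 ha) (l2 (conj_mem_cj.2 ha))⟩ (w2 ha)
  obtain ⟨t, ht, i, q⟩ : ∃ t ∈ A, Iv t ∧ t * (s * t * s⁻¹) ∈ 𝐍 (cj g A) := by
    rcases ((h.cj g).i2 (fun q => t (q.conj (conj_cj A g).symm)) (.refl _)).three
      (l (mem_cent1.2 (w2 ha).symm.symm)) (l (mem_cent1.2 (w2 hb))) with q | q | q
    exacts [⟨a, ha, ia, q⟩, ⟨b, hb, ib, q⟩, ⟨a * b, mul_mem ha hb, iv_mul ia ib n c, by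
      rwa [mul_assoc, ← mul_assoc _ b, ← cm hb ha, mul_assoc b, conj_mul, ← mul_assoc] at q⟩]
  obtain ⟨x, hx, ix, cx⟩ := (h.cj g).exists_fix1 (two_elt (w1 ht i).sq) q
  obtain ⟨x', hx', rfl⟩ := mem_cj_iff.1 hx
  exact ng (f _ _ (h.inD_self hx' (by simpa [mul_assoc] using ix.conj' g))
    (h.star f o (w3 ht) (w1 ht i) (mem_cent1.2 cx)))

end TH

theorem TH.not_fu [IsSimpleGroup G] (h : TH A) : ¬ FU A := fun f => by
  obtain ⟨a, ha, b, hb, ia, ib, n, c⟩ := h.four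
  obtain ⟨P, hP, l⟩ := exists_syl_le (zpowers_le.2 (h.le_self ha)) (iv_pi ia)
  have hS : Syl 2 P ⊤ := hP.syl_of_norm_le (fun g hg =>
    f a g (h.inD_self ha ia) (hP.le (conj_mem_of_norm hg (l (mem_zpowers a))))) le_top
  have fin : ∀ N, N ⊴ MM A → ¬ PiGrp {2}ᶜ N → (∀ w ∈ N, Iv w → 𝐂₁ w ≤ MM A) →
      (∀ z ∈ N, Iv z → ∀ g, g * z * g⁻¹ ∈ MM A → g ∈ MM A) → False := fun N nN oN c1 c2 => by
    obtain ⟨z, hz, iz⟩ := exists_center p2 hP.pi (nN.inf_left hP.le) fun e =>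
      oN (e ▸ hP.inf_normal nN).pi'_of_eq_bot
    have iz := iv_iff.2 iz
    have se := CF.ZD.ZC.se_simple ⟨iz, nN.le hz.1.2, h.MM_ne, ⟨P, hS, hz.2.2⟩, c2 z hz.1.2 iz⟩
      fun e he ne c => by
        obtain ⟨g, rfl⟩ := isConj_iff.1 he
        have m := nN.conj_mem (c2 z hz.1.2 iz g (c1 z hz.1.2 iz (mem_cent1.2 c.symm))) hz.1.2
        exact c1 _ (mul_mem hz.1.2 m) (iv_mul iz (iz.conj g) ne.symm c)
    exact h.self.not_sol (Sol.mono (se_sol part2 se ⟨a, b, ia.ne, ib.ne, n, ia.sq, ib.sq, c⟩) h.le_self)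
  have lA := (Mem.refl A).le_EE
  by_cases o : PiGrp {2}ᶜ (𝐂 (EE A))
  · exact fin (EE A) ⟨h.EE_le, MM_norm A⟩ (fun k => Comp.not_odd h.self (k.le lA))
      (fun w hw => h.star f o hw) fun z hz iz g => h.fusE f o hz iz
  · have d : ∀ w ∈ 𝐂 (EE A), Iv w → InD A w := fun w hw i => inD_cent i (cent_anti lA hw)
    exact fin (𝐂 (EE A)) ⟨(cent_anti lA).trans (h.cent_le (.refl A)), norm_cent (MM_norm A)⟩ o
      (fun w hw i => h.cent1_le (d w hw i)) fun z hz i g => f z g (d z hz i)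

end CF.CmpT
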