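-- copy of `CmpT.T3` avoiding a name clash (`Comp.syl_inf`) with `Sig.S4D`
/-
Terminal components: involutions do not move components; linked pairs of classes.
-/
import Cfsg.Agent.NCq.CmpTT2
set_option autoImplicit false
set_option linter.unusedSectionVars false

namespace CF.CmpT
open Subgroup Cfsg CF.BG CF.Sig CF.CT CF.PG CF.Bender CF.SM
open CF.ZD (iv_pi)
open scoped commutatorElement

universe u
variable {G : Type u} [Group G] [Finite G]
variable {A A' B B' C D H K L M N P Q R S T U V W X Y : Subgroup G}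
  {a a' b c d e g k n r s t u v w x y z : G}

/-- representatives of two distinct classes -/
structure DP (A A' : Subgroup G) : Prop where
  th : TH A
  conj : Conj A A'
  ne : ¬ Mem A A'

theorem TH.comp_EE (h : TH A) (m : Mem A B) : Comp B (EE A) :=
  (h.mem m).self.trans (NormalIn.subN ⟨m.le_EE, sSup_le fun _ k => (h.mm m k).norm⟩)

theorem orb2 (i : Iv c) (B : Subgroup G) : orbJ (zpowers c) B = B ⊔ cj c B :=
  orbJ_two (by rw [pow_two, i.sq]; exact one_mem _)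

theorem cj_cj_iv (i : Iv c) (B : Subgroup G) : cj c (cj c B) = B := by rw [cj_cj, i.sq, cj_one]

theorem norm_orb (i : Iv c) (B : Subgroup G) : c ∈ 𝐍 (B ⊔ cj c B) := by
  rw [← cj_eq_self, cj_sup, cj_cj_iv i, sup_comm]

theorem dg_comp {ν : D →* G} (g : Dg 2 x D ν) (h : Comp D H) (hx : x ∈ H) :
    Comp ν.range (𝐂₁ x ⊓ H) := by
  have n : zpowers x ≤ 𝐍 H := zpowers_le.2 (le_norm_self _ hx)
  refine comp_iff.2 ⟨((normalIn_of_der_le g.le (g.der_le h (le_norm_self _ hx))).subN.step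
    (L := Lay H ⊓ 𝐂₁ x) ⟨inf_le_inf_right _ (h.orbJ_le n), norm_inf
      (inf_le_left.trans (h.Lay_norm_orbJ n)) (norm_of_le inf_le_right)⟩).step ?_, g.qs h⟩
  exact ⟨le_inf inf_le_right (inf_le_left.trans (Lay_le H)),
    norm_inf (inf_le_right.trans (Lay_normal H).norm) (norm_of_le inf_le_left)⟩

theorem pc_or (k : PComp 2 K H) (h : Comp L H) : K = L ∨ K ≤ 𝐂 L :=
  (h.le_or_cent_subN k.subN).imp (fun l => ((Comp.pc2 h).eq_of_le p2 k l).symm) cent_symm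

namespace DP
variable (p : DP A A')
include p

theorem th' : TH A' := p.th.conj p.conj

theorem symm : DP A' A := ⟨p.th', p.conj.symm, fun m => p.ne m.symm⟩

theorem not_inD (d : InD A t) : ¬ InD A' t := fun d' => p.ne (p.th.uniq p.conj d d')

theorem odd (m : Mem A B) (m' : Mem A' B') : PiGrp {2}ᶜ (𝐂 B ⊓ 𝐂 B') := p.th.odd p.conj p.ne m m'

theorem eq_one (m : Mem A B) (m' : Mem A' B') (a : x ∈ 𝐂 B) (b : x ∈ 𝐂 B') (k : PiElt {2} x) :
    x = 1 := p.th.eq_one p.conj p.ne m m' a b k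

theorem eq_one' (m : Mem A B) (m' : Mem A' B') (a : x ∈ 𝐂 B) (b : x ∈ B') (k : PiElt {2} x) :
    x = 1 := let ⟨_, l, _, c⟩ := p.th'.partner m'; p.eq_one m l a (cent_symm c b) k

theorem eq_one'' (m : Mem A B) (m' : Mem A' B') (a : x ∈ B) (b : x ∈ B') (k : PiElt {2} x) :
    x = 1 := let ⟨_, l, _, c⟩ := p.th.partner m; p.eq_one' l m' (cent_symm c a) b k

theorem of_mem (m : Mem A B) (m' : Mem A' B') : DP B B' :=
  ⟨p.th.mem m, (m.conj.symm.trans p.conj).trans m'.conj, fun k =>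
    p.ne (p.th.trans (p.th.trans m k) m'.symm)⟩

theorem three (t : Three A) : Three A' := t.conj p.conj

theorem two (t : ¬ Three A) : ¬ Three A' := fun k => t (p.symm.three k)

theorem good3 (t3 : Three A) (d : InD A' c) (hc : c ∈ MM A) (m : Mem A B) : c ∈ 𝐍 B := by
  by_contra nc
  obtain ⟨B', m', cc⟩ := d.ex
  have i := d.iv
  obtain ⟨X, k, n1, n2, l1, l2⟩ := p.th.third t3 m (m.act hc)
  obtain ⟨t, ht, it, ct⟩ := exists_fix0 (A := X ⊔ cj c X)
    (fun o => Comp.not_odd (p.th.mem k).self (o.le le_sup_left)) (iv_pi i)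
    (zpowers_le.2 (norm_orb i X))
  rw [cent_zpowers] at ct
  have tB : t ∈ 𝐂 B := sup_le (cent_symm l1) (by
    have := cj_cent_iff (g := c).2 (cent_symm l2)
    rwa [cj_cj_iv i] at this) ht
  have hB := (p.th.mem m).comp it tB
  have ct' := mem_cent1_comm.1 ct
  obtain ⟨ν, g⟩ := exists_dg hB p2 (le_norm_self _ ct') (by rw [pow_two, i.sq]; exact one_mem _) nc
  have hD := dg_comp g hB ct'
  have cX : ν.range ≤ 𝐂 X := g.le.trans (inf_le_left.trans (orb2 i B ▸ sup_le l1 l2))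
  have hB' := (p.th'.mem m').comp i cc
  have hB'' := hB'.cj_of_norm (le_norm_self _ ct)
  have no : ∀ {Y}, Mem A' Y → ¬ ν.range ≤ 𝐂 Y := fun y l =>
    Comp.not_odd hD ((p.odd k y).le (le_inf cX l))
  have k1 := PComp.lbal it.orderOf ct (Comp.pc2 hD)
  obtain ⟨Y, y, -, -, l3, l4⟩ := p.th'.third (p.three t3) m' (m'.act (p.th'.cent1_le d ct))
  refine no y ((le_of_proj p2 k1 (R := zpowers t) (J := B' ⊔ cj t B')
    (cent_zpowers t ▸ inf_le_right) (inf_le_left.trans (norm_sup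
      (le_sup_left.trans ((Comp.pc2 hB').norm p2)) (le_sup_left.trans ((Comp.pc2 hB'').norm p2))))
    (zpowers_le.2 (norm_orb it B')) (k1.le.trans (inf_le_left.trans (PLay_le_iff.2 fun K q => ?_)))
    (cent_zpowers t ▸ inf_le_inf_right _ (sup_le (Comp.pc2 hB').le_PLay (Comp.pc2 hB'').le_PLay))
    fun l => no m' (l.trans (cent_anti le_sup_left))).trans (sup_le l3 l4))
  rcases pc_or q hB' with rfl | a
  · exact le_sup_of_le_left le_sup_left
  rcases pc_or q hB'' with rfl | b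
  · exact le_sup_of_le_left le_sup_right
  · exact le_sup_of_le_right (le_cent_sup a b)

theorem mv2 (t3 : ¬ Three A) (i : Iv c) (m' : Mem A' B') (cc : c ∈ 𝐂 B') (hc : c ∈ MM A)
    (m : Mem A B) (nc : c ∉ 𝐍 B) (d : InD A t) (nt : t ∈ 𝐍 B') :
    ∃ D, (∀ y ∈ 𝐍 B, y ∈ 𝐂 D → y ∈ 𝐂 B) ∧ D ≤ 𝐂₁ c ∧ B' ⊓ MM A ≤ 𝐂 D := by
  have hB := p.th.comp_EE m
  obtain ⟨ν, g⟩ := exists_dg hB p2 (MM_norm A hc) (by rw [pow_two, i.sq]; exact one_mem _) nc
  have ne : cj c B ≠ B := mt cj_eq_self.1 nc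
  have eE : orbJ (zpowers c) B = EE A := by
    rw [orb2 i]
    refine le_antisymm (sup_le m.le_EE (m.act hc).le_EE) (sSup_le fun X k => ?_)
    by_cases e : X = B
    exacts [e ▸ le_sup_left, p.th.eq_of_two t3 m k (m.act hc) e ne ▸ le_sup_right]
  have hD : Comp ν.range ν.range := comp_iff.2 ⟨.refl, g.qs hB⟩
  have l1 : ν.range ≤ EE A ⊓ 𝐂₁ c := eE ▸ g.le
  have lc := l1.trans inf_le_right
  have nB' : ν.range ≤ 𝐍 B' := perf_le hD.perfect (p.th'.i2 (p.two t3) m')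
    (lc.trans (p.th'.cent1_le ⟨i, B', m', cc⟩))
  have eD : ⁅EE A ⊓ 𝐂₁ c, EE A ⊓ 𝐂₁ c⁆ = ν.range :=
    le_antisymm (eE ▸ g.der_le hB (MM_norm A hc)) (hD.perfect.ge.trans (der_mono l1))
  have nD : B' ⊓ MM A ≤ 𝐍 ν.range := eD ▸ (norm_inf (inf_le_right.trans (MM_norm A))
    (norm_of_le (inf_le_left.trans (le_cent1_iff.2 cc)))).trans (norm_der _)
  refine ⟨_, fun y hy q => zpowers_le.1 (g.cent_of_norm hB (zpowers_le.2 hy) (zpowers_le.2 q)), lc,
    cent_of_comm hD.perfect ?_⟩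
  rcases hD.eq_or (normalIn_inf_right nB') with e | e
  swap
  · exact (le_inf ((commutator_mono inf_le_left le_rfl).trans (comm_le_left nB'))
      (comm_le_right nD)).trans e
  exfalso
  have l2 : ν.range ≤ B' := inf_eq_right.1 e
  have e : ν.range = B' := by
    obtain ⟨k, rfl⟩ := (m.conj.symm.trans p.conj).trans m'.conj
    refine le_antisymm l2 (le_of_le_sup_cent (p.th'.mem m').perf l2
      (cover_of_rel (norm_le_norm_cent _ |>.trans' (le_norm_self _)) l2 ?_))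
    rw [← cj_cent, relIndex_cj, ← g.relIndex hB, cj_cent]
    exact rel_le (inf_le_left.trans (cent_anti l2))
  obtain ⟨X, k, ct⟩ := d.ex
  obtain ⟨Y, y, nY, cY⟩ := p.th.partner k
  have nX : ¬ ν.range ≤ 𝐂 X := fun l => g.not_cent hB (by
    by_cases q : X = B
    · exact q ▸ l
    · rw [p.th.eq_of_two t3 m k (m.act hc) q ne] at l
      have := cj_cent_iff (g := c).2 l
      rwa [cj_cj_iv i, cj_of_cent (le_cent1_iff.1 lc)] at this)
  have tY : t ∈ 𝐍 Y := p.th.norm_other t3 k y (cent_le_norm _ ct)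
  have lXY : ν.range ≤ X ⊔ Y := l1.trans (inf_le_left.trans (sSup_le fun Z z => by
    by_cases q : Z = X
    exacts [q ▸ le_sup_left, p.th.eq_of_two t3 k z y q nY ▸ le_sup_right]))
  have nY' : ν.range ≤ 𝐍 Y := l1.trans (inf_le_left.trans (sSup_le fun Z z => (p.th.mm y z).norm))
  rcases hD.eq_or (normalIn_inf_right nY') with q | q
  · exact nX ((inf_eq_right.1 q).trans cY)
  refine p.not_inD d ⟨d.iv, B', m', e ▸ cent1_of_comm hD.perfect (e ▸ nt) fun x hx => q ⟨?_, ?_⟩⟩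
  · obtain ⟨a, ha, b, hb, rfl⟩ := (mem_sup_norm (norm_of_cent' cY)).1 (lXY hx)
    rw [commutatorElement_def, ← conj_mul, conj_fix (mem_cent.1 ct a ha).symm,
      show a * (t * b * t⁻¹) * (a * b)⁻¹ = a * (t * b * t⁻¹ * b⁻¹) * a⁻¹ by group]
    exact conj_mem_of_norm (norm_of_cent' cY ha) (mul_mem (conj_mem_of_norm tY hb) (inv_mem hb))
  · exact ν.range.mul_mem (conj_mem_of_norm (e ▸ nt) hx) (inv_mem hx)

theorem good2 (t3 : ¬ Three A) (dt : InD A t) (nt : t ∈ 𝐍 A') (d : InD A' c) (hc : c ∈ MM A)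
    (m : Mem A B) : c ∈ 𝐍 B := by
  by_contra nc
  obtain ⟨B', m', cc⟩ := d.ex
  have nn : ∀ {X}, Mem A' X → t ∈ 𝐍 X := fun k => p.th'.norm_other (p.two t3) (.refl _) k nt
  have triv : ∀ {X D : Subgroup G}, Mem A' X → (∀ y ∈ 𝐍 B, y ∈ 𝐂 D → y ∈ 𝐂 B) →
      X ⊓ MM A ≤ 𝐂 D → ∀ {x : G}, x ∈ X → x ∈ 𝐍 B → PiElt {2} x → x = 1 := fun k a l x hx n q =>
    p.eq_one' m k (a x n (l ⟨hx, p.th.norm_le m n⟩)) hx q
  obtain ⟨D, a1, -, a3⟩ := p.mv2 t3 d.iv m' cc hc m nc dt (nn m')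
  obtain ⟨X, k, -, cX⟩ := p.th'.partner m'
  obtain ⟨S, hS, l⟩ := exists_syl_le (le_sup_right : zpowers t ≤ B' ⊔ zpowers t) (iv_pi dt.iv)
  have nS := normalIn_sup_left (zpowers_le.2 (nn m'))
  have hR := hS.inf_normal nS
  have th := p.th'.mem m'
  obtain ⟨e, he, ie⟩ := exists_center p2 hS.pi (nS.inf_left hS.le) fun e =>
    Comp.not_odd th.self (e ▸ hR).pi'_of_eq_bot
  have ie := iv_iff.2 ie
  have tS := l (mem_zpowers t)
  have eM := p.th.of_comm' dt (mem_cent.1 he.2.2 t tS)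
  have ne : e ∉ 𝐍 B := fun q => ie.ne (triv m' a1 a3 he.1.2 q (two_elt ie.sq))
  obtain ⟨D', b1, b2, b3⟩ := p.mv2 t3 ie k (cent_symm cX he.1.2) eM m ne dt (nn k)
  obtain ⟨f, hf, jf, cf⟩ := (p.th'.mem k).exists_fix1 (two_elt dt.iv.sq) (nn k)
  have fM := p.th.of_comm dt cf
  have nf : f ∉ 𝐍 B := fun q => jf.ne (triv k b1 b3 hf q (two_elt jf.sq))
  have i2 := p.th.i2 t3 m
  have pe : ∀ {x}, x ∈ S ⊓ B' → x ∈ MM A → x = 1 ∨ x = e := fun {x} hx q => by
    by_cases j : x ∈ 𝐍 B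
    · exact .inl (triv m' a1 a3 hx.2 j (hR.pi.elt hx))
    · have := mul_mem hx (inv_mem he.1)
      exact .inr (mul_inv_eq_one.1 (triv m' a1 a3 this.2 (i2.mul_inv q eM j ne) (hR.pi.elt this)))
  by_cases q : e = f
  · exact (mc th.noTwo th.four hR dt.iv ((nS.inf_left hS.le).norm tS)
      (fun j => p.not_inD dt (p.th'.inD m' j.2 dt.iv))
      fun x hx j => pe hx (p.th.of_comm dt j)).2 e he.1.2 ie (q ▸ cX hf)
  · have ef := mem_cent.1 (cX hf) e he.1.2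
    have d1 : InD A (e * f) := ⟨iv_mul ie jf q ef, B, m, b1 _ (i2 e eM f fM ne nf)
      (mul_mem (le_cent1_iff.1 b2) (b3 ⟨hf, fM⟩))⟩
    refine (card_le_two fun x hx => pe hx (p.th.of_comm d1 ?_)).not_gt (th.two_lt hR)
    rw [← mul_assoc, mem_cent.1 he.2.2 x hx.1, mul_assoc, mem_cent.1 (cX hf) x hx.2, mul_assoc]

end DP

/-- linked classes -/
structure LK (A A' : Subgroup G) : Prop extends DP A A' where
  good : ∀ {c B}, InD A' c → c ∈ MM A → Mem A B → c ∈ 𝐍 B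
  good' : ∀ {c B}, InD A c → c ∈ MM A' → Mem A' B → c ∈ 𝐍 B
  ex : ∃ t, InD A t ∧ t ∈ MM A'

theorem LK.symm (l : LK A A') : LK A' A := by
  obtain ⟨t, d, m⟩ := l.ex
  obtain ⟨u, hu, i, c⟩ := l.th'.exists_fix1 (two_elt d.iv.sq) (l.good' d m (.refl _))
  exact ⟨l.toDP.symm, l.good', l.good, u, l.th'.inD_self hu i, l.th.of_comm d c⟩

theorem DP.lk (p : DP A A') (t3 : ¬ Three A) (d : InD A t) (nt : t ∈ 𝐍 A') : LK A A' := by
  obtain ⟨u, hu, i, c⟩ := p.th'.exists_fix1 (two_elt d.iv.sq) nt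
  have du := p.th'.inD_self hu i
  exact ⟨p, p.good2 t3 d nt, p.symm.good2 (p.two t3) du
    (p.good2 t3 d nt du (p.th.of_comm d c) (.refl _)), t, d, p.th'.norm_le (.refl _) nt⟩

theorem TH.exists_lk [IsSimpleGroup G] (h : TH A) : ∃ B B' : Subgroup G, LK B B' := by
  obtain ⟨t, g, d, m, ng⟩ : ∃ t g, InD A t ∧ g * t * g⁻¹ ∈ MM A ∧ g ∉ MM A := by
    by_contra! k; exact h.not_fu k
  have p : DP A (cj g A) := ⟨h, conj_cj A g, fun k => ng (h.mem_MM k)⟩
  have d' := d.cj g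
  generalize g * t * g⁻¹ = c at *
  generalize cj g A = A' at *
  by_cases t3 : Three A
  · exact ⟨_, _, p.symm, p.symm.good3 (p.three t3), p.good3 t3, c, d', m⟩
  by_cases nc : c ∈ 𝐍 A
  · exact ⟨_, _, p.symm.lk (p.two t3) d' nc⟩
  by_cases q : ∀ a ∈ A, Iv a → a ∈ MM A'
  · obtain ⟨a, ha, b, hb, ia, ib, n, e⟩ := h.four
    rcases (p.th'.i2 (p.two t3) (.refl _)).three (q a ha ia) (q b hb ib) with j | j | j
    exacts [⟨_, _, p.lk t3 (h.inD_self ha ia) j⟩, ⟨_, _, p.lk t3 (h.inD_self hb ib) j⟩,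
      ⟨_, _, p.lk t3 (h.inD_self (mul_mem ha hb) (iv_mul ia ib n e)) j⟩]
  push Not at q
  obtain ⟨a, ha, ia, na⟩ := q
  refine ⟨_, _, DP.lk ⟨p.th'.cj a, (conj_cj A' a).symm, fun k => na (p.th'.mem_MM k.symm)⟩
    (fun k => p.two t3 (k.conj (conj_cj A' a).symm)) (d'.cj a) ?_⟩
  have hB := h.comp_EE (.refl A)
  obtain ⟨ν, k⟩ := exists_dg hB p2 (MM_norm A m) (by rw [pow_two, d'.iv.sq]; exact one_mem _) nc
  have nD : ν.range ≤ 𝐍 A' := perf_le (comp_iff.2 ⟨.refl, k.qs hB⟩ : Comp _ _).perfect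
    (p.th'.i2 (p.two t3) (.refl _)) (k.le.trans (inf_le_right.trans (p.th'.cent1_le d')))
  obtain ⟨B', m', cc⟩ := d'.ex
  have := mul_mem (nD (mem_rng ν ⟨a, ha⟩))
    (p.th'.norm_other (p.two t3) m' (.refl _) (cent_le_norm _ cc))
  rw [k.eq, pow_two, pow_two, d'.iv.sq, inv_one, mul_one, mul_assoc, mul_assoc _ c c, d'.iv.sq,
    mul_one] at this
  rw [ia.inv]; simpa [mul_assoc] using this

end CF.CmpT
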