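-- copy of `CmpT.T7` avoiding a name clash (`Comp.syl_inf`) with `Sig.S4D`
/-
Terminal components: linked classes, proper Sylow intersections, small cases.
-/
import Cfsg.Agent.NCq.CmpTT6
import Cfsg.Agent.S1916
set_option autoImplicit false
set_option linter.unusedSectionVars false

namespace CF.CmpT
open Subgroup Cfsg CF.BG CF.Sig CF.CT CF.PG CF.Bender CF.SM
open CF.ZD (iv_pi exists_iv_pow exists_iv_of_pi)
open scoped commutatorElement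

universe u
variable {G : Type u} [Group G] [Finite G]
variable {A A' B B' C D H K L M N P Q R S T U V W X Y : Subgroup G}
  {a a' b c d e e' g k n s t u v w x y z : G}

theorem eq_of_card_two (c : ♯X ≤ 2) (ht : t ∈ X) (i : Iv t) (hx : x ∈ X) : x = 1 ∨ x = t :=
  (mem_zp i).1 ((eq_of_card_le (zpowers_le.2 ht) (i.card ▸ c)).ge hx)

theorem cyc_syl (c : ∀ Q, Syl 2 Q X → ♯Q ≤ 2) (Q : Sylow 2 X) : IsCyclic Q := by
  have := Fact.mk p2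
  have := c _ (syl_sylow Q)
  rw [card_map X.subtype_injective] at this
  have p := card_pos' (Q : Subgroup X)
  refine isCyclic_of_card_dvd_prime (p := 2) ?_
  interval_cases ♯(Q : Subgroup X) <;> simp

/-- commuting involutions with centralizers of twice odd order in a group with dihedral Sylow
subgroups -/
theorem dih4 (h : Comp K H) (hR : Syl 2 R K) (d : ∃ m, Nonempty (R ≃* DihedralGroup m))
    (z : ∀ z ∈ K, Iv z → z ∉ 𝐂 K) (ia : Iv a) (ib : Iv b) (c : a * b = b * a) (aK : a ∈ 𝐍 K)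
    (bK : b ∈ 𝐍 K) (na : a ∉ 𝐂 K) (nb : b ∉ 𝐂 K) (aM : 𝐂₁ a ≤ M) (bM : 𝐂₁ b ≤ M)
    (s : ∀ Q, Q ≤ M ⊓ K → PiGrp {2} Q → ♯Q ≤ 2) : a * b ∈ 𝐂 K := by
  have := Fact.mk p2
  have zn := (center_normal K).norm
  have nz := norm_center K
  have o : PiGrp {2}ᶜ (𝐙 K) := pi_of_inv fun s hs o => z s hs.1 (iv_iff.2 o) hs.2
  have ns := comp_ns h
  have iv : ∀ {a}, Iv a → a ∈ 𝐍 K → a ∉ 𝐂 K → Iv (qe (𝐙 K) a) := fun i m n =>
    ⟨fun e => n ((qe_eq_one (nz m)).1 e).2, by rw [← qe_mul (nz m) (nz m), i.sq, qe_one]⟩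
  have cy : ∀ {a}, Iv a → a ∈ 𝐍 K → 𝐂₁ a ≤ M → ∀ Q, Syl 2 Q (qt (𝐙 K) K ⊓ 𝐂₁ (qe (𝐙 K) a)) →
      ♯Q ≤ 2 := fun {a} i m l Q hQ => by
    obtain ⟨P, hP⟩ := exists_syl 2 (K ⊓ 𝐂₁ a)
    rw [← Sig.qt_inf_cent1 (two_elt i.sq) (nz m) m o] at hQ
    rw [hQ.card_eq (hP.qt (inf_le_left.trans zn))]
    exact (Nat.le_of_dvd (card_pos' P) (card_qt_dvd _ _)).trans
      (s P (hP.le.trans (le_inf (inf_le_right.trans l) inf_le_left)) hP.pi)
  refine cent1_of_qe h.perfect (mul_mem aK bK) ?_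
  rw [qe_mul (nz aK) (nz bK)]
  by_cases e : qe (𝐙 K) a = qe (𝐙 K) b
  · rw [e, (iv ib bK nb).sq]; exact one_mem _
  have nn : ∀ {a}, a ∈ 𝐍 K → qe (𝐙 K) a ∈ 𝐍 (qt (𝐙 K) K) := fun m =>
    qt_norm _ (zpowers_le.2 m) (qe_mem_qt (mem_zpowers _) (nz m))
  have l : ∀ {a}, Iv a → a ∈ 𝐍 K → 𝐂₁ a ≤ M → qt (𝐙 K) K ⊓ 𝐂₁ (qe (𝐙 K) a) ≤
      qt (𝐙 K) (M ⊓ 𝐍 (𝐙 K)) := fun i m l => by
    rw [← Sig.qt_inf_cent1 (two_elt i.sq) (nz m) m o, qt_inf_norm]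
    exact qt_mono _ (inf_le_right.trans l)
  refine Cfsg.Agent.S1916.result _ ns.simple ns.not_comm (fun P => ?_) _ _ (iv ia aK na).orderOf
    (iv ib bK nb).orderOf e (by rw [← qe_mul (nz aK) (nz bK), c, qe_mul (nz bK) (nz aK)])
    (nn aK) (nn bK) (cyc_syl (cy ia aK aM)) (cyc_syl (cy ib bK bM)) fun q => ?_
  · obtain ⟨m, ⟨φ⟩⟩ := d
    obtain ⟨g, -, e⟩ := (hR.qt zn).syl_conj (syl_sylow P)
    obtain ⟨ψ⟩ := qt_iso_of_inf_bot (hR.le.trans zn) (inf_comm R _ ▸ hR.inf_eq_bot o)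
    exact ⟨m, ⟨((equivMapOfInjective _ _ (subtype_injective _)).trans (MulEquiv.subgroupCongr e)).trans
      (((equivMapOfInjective _ _ (conj_inj g)).symm.trans ψ.symm).trans φ)⟩⟩
  · have q' := (qt_le_qt_iff zn inf_le_right).1 (q.trans (sup_le (sup_le (by
      rw [closure_le, Set.insert_subset_iff, Set.singleton_subset_iff]
      exact ⟨qe_mem_qt ⟨aM (self_mem_cent1 a), nz aK⟩ (nz aK),
        qe_mem_qt ⟨bM (self_mem_cent1 b), nz bK⟩ (nz bK)⟩) (l ia aK aM)) (l ib bK bM)))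
    have : K ≤ M ⊓ K := le_of_le_sup_cent h.perfect inf_le_right fun x hx => by
      obtain ⟨y, hy, w, hw, rfl⟩ := (mem_sup_norm' inf_le_right).1 (q' hx)
      exact mul_mem_sup hy.2 ⟨hw.1, (mul_mem_cancel_left (mem_inf.1 hy).1).1 hx⟩
    exact (s R (hR.le.trans this) hR.pi).not_gt (two_lt_syl h.perfect (by_contra fun d =>
      Comp.not_odd h ((piNat_compl_single p2).2 d)) hR)

/-- the normalizer in `R` of the product of the two Sylow intersections -/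
def N1 (A A' S R : Subgroup G) : Subgroup G := R ⊓ 𝐍 (S ⊓ A' ⊔ S ⊓ A)

namespace LS
variable (h : LS A A' S)
include h

theorem finj (ny : y ∉ MM A) (hu : u ∈ S ⊓ A) (hv : v ∈ S ⊓ A)
    (e : y⁻¹ * (u * y * u⁻¹) = y⁻¹ * (v * y * v⁻¹)) : u = v := by
  have m := mul_mem (inv_mem hv) hu
  refine (inv_mul_eq_one.1 (h.th.noiv (.refl _) m.2 (h.pi m.1) ?_ ny)).symm
  rw [mul_right_inj, mul_inv_eq_iff_eq_mul] at e
  rw [commute_iff_eq, mul_assoc, e]; group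

variable (r : RS A A' S R)
include r

theorem TR : S ⊓ A' ≤ R := r.e ▸ inf_le_left

theorem nM (hy : y ∈ R) (n : y ∉ S ⊓ A') : y ∉ MM A := fun q => n (r.e.le ⟨hy, q⟩)

theorem cu (hu : u ∈ S ⊓ A) (n : u ≠ 1) (hy : y ∈ R) (c : Commute u y) : y ∈ S ⊓ A' :=
  by_contra fun q => n (h.th.noiv (.refl _) hu.2 (h.pi hu.1) c (h.nM r hy q))

theorem n1_norm (hy : y ∈ N1 A A' S R) : y ∈ 𝐍 (S ⊓ A') := mem_norm_of_cj_le fun x hx => by
  obtain ⟨t, ht, rfl⟩ := mem_cj_iff.1 hx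
  exact ⟨(sup_le inf_le_left inf_le_left : _ ≤ S) (conj_mem_of_norm hy.2 (mem_sup_left ht)),
    conj_mem_of_norm (le_norm_self _ (r.hR.le hy.1)) ht.2⟩

theorem n1_f (hy : y ∈ N1 A A' S R) (hu : u ∈ S ⊓ A) : y⁻¹ * (u * y * u⁻¹) ∈ S ⊓ A' := by
  have a := r.hR.le hy.1
  refine mem_inf.2 ⟨?_, mul_mem (inv_mem a) (conj_mem_of_norm (h.UN hu) a)⟩
  simpa [mul_assoc] using mul_mem ((sup_le inf_le_left inf_le_left : _ ≤ S)
    (conj_mem_of_norm' hy.2 (mem_sup_right hu))) (inv_mem (mem_inf.1 hu).1)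

theorem n1_mk (hy : y ∈ R) (n : y ∈ 𝐍 (S ⊓ A'))
    (f : ∀ u ∈ S ⊓ A, y⁻¹ * (u * y * u⁻¹) ∈ S ⊓ A') : y ∈ N1 A A' S R := by
  refine mem_inf.2 ⟨hy, inv_mem_iff.1 (mem_norm_of_cj_le ?_)⟩
  rw [cj_sup, cj_of_norm (inv_mem n)]
  refine sup_le le_sup_left fun x hx => ?_
  obtain ⟨u, hu, rfl⟩ := mem_cj_iff.1 hx
  simpa [mul_assoc] using mul_mem_sup (f u hu) hu

theorem TN1 : S ⊓ A' ≤ N1 A A' S R := fun t ht => h.n1_mk r (h.TR r ht) (le_norm_self _ ht)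
  fun u hu => by rw [conj_fix (h.TU ht hu).symm.eq, inv_mul_cancel]; exact one_mem _

theorem UN1 : S ⊓ A ≤ 𝐍 (N1 A A' S R) :=
  norm_inf (h.US.trans r.n) ((norm_of_le le_sup_right).trans (le_norm_self _))

end LS

theorem XX.n1 (X : XX A A' S R x) (h : LS A A' S) : x ∈ N1 A A' S R :=
  h.n1_mk X.toRS X.hx X.xn fun u hu => X.m u hu.1 (h.UN hu)

theorem XX.nT (X : XX A A' S R x) (h : LS A A' S) : x ∉ S ⊓ A' := fun q => X.nx (h.SM q.1)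

/-- proper Sylow intersections -/
structure NF (A A' S : Subgroup G) : Prop extends LS A A' S where
  nf : ¬ Syl 2 (S ⊓ A') A'

namespace NF
variable (h : NF A A' S)
include h

theorem exXX : ∃ R x, XX A A' S R x := let ⟨R, r⟩ := h.exR; ⟨R, h.exX r h.nf⟩

theorem card_le : ♯(S ⊓ A) ≤ ♯(S ⊓ A') :=
  let ⟨_, x, X⟩ := h.exXX
  card_le_of_inj (fun u => x⁻¹ * (u * x * u⁻¹)) (fun _ => h.n1_f X.toRS (X.n1 h.toLS))
    fun _ hu _ hv => h.finj X.nx hu hv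

theorem symm : NF A' A S := ⟨h.toLS.symm, fun a => let ⟨_, r⟩ := h.exR
  h.nf (r.hR.of_card_le inf_le_right (h.syl.pi.le inf_le_left)
    ((conj_card_le h.conj a r.hR.le r.hR.pi).trans h.card_le))⟩

theorem of_mem (m : Mem A B) (m' : Mem A' B') : NF B B' S :=
  symm ⟨h.toLS.symm.of_mem m' m, (symm ⟨h.toLS.of_mem m (.refl _), h.nf⟩).nf⟩

theorem card : ♯(S ⊓ A') ≤ ♯(S ⊓ A) := h.symm.card_le

variable (r : RS A A' S R)
include r

theorem fsurj (hy : y ∈ N1 A A' S R) (ny : y ∉ S ⊓ A') (ht : t ∈ S ⊓ A') :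
    ∃ u ∈ S ⊓ A, y⁻¹ * (u * y * u⁻¹) = t :=
  surj_of_inj h.card (fun u => y⁻¹ * (u * y * u⁻¹)) (fun _ => h.n1_f r hy)
    (fun _ hu _ hv => h.finj (h.nM r hy.1 ny) hu hv) ht

theorem abelT : Abel (S ⊓ A') := fun t ht => by
  obtain ⟨x, X⟩ := h.exX r h.nf
  obtain ⟨u, hu, rfl⟩ := h.fsurj r (X.n1 h.toLS) (X.nT h.toLS) ht
  simpa [mul_assoc] using
    mul_mem (conj_mem_of_norm' (norm_le_norm_cent _ X.xn) (h.UC hu)) (inv_mem (h.UC hu))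

theorem sqN (hy : y ∈ N1 A A' S R) : y * y ∈ S ⊓ A' := by
  by_cases ny : y ∈ S ⊓ A'
  · exact mul_mem ny ny
  obtain ⟨s, hs, is⟩ := h.exT
  obtain ⟨t, ht, it, c⟩ := exists_fix0 (fun o => is.ne ((two_elt is.sq).eq_one (o.elt hs)))
    (r.hR.pi.elt hy.1).zpowers (zpowers_le.2 (h.n1_norm r hy))
  obtain ⟨u, hu, e⟩ := h.fsurj r hy ny ht
  refine h.cu r hu (fun j => it.ne (by simpa [j] using e.symm)) (mul_mem hy.1 hy.1) ?_
  rw [inv_mul_eq_iff_eq_mul] at e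
  rw [commute_iff_eq, ← mul_inv_eq_iff_eq_mul, ← conj_mul, e, mul_assoc, ← mul_assoc t,
    ← mem_cent.1 c y (mem_zpowers y), mul_assoc, it.sq, mul_one]

theorem invT (hy : y ∈ N1 A A' S R) (ny : y ∉ S ⊓ A') (ht : t ∈ S ⊓ A') : y * t * y⁻¹ = t⁻¹ := by
  obtain ⟨u, hu, e⟩ := h.fsurj r hy ny ht
  have := conj_fix (h.TU (h.sqN r hy) hu).symm.eq
  rw [inv_mul_eq_iff_eq_mul] at e
  rw [← conj_mul, e, mul_assoc, mul_right_inj, ← eq_inv_mul_iff_mul_eq] at this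
  rw [this, mul_inv_cancel_right]

omit r in
theorem dih (c : ♯(S ⊓ A') ≤ 2) (r : RS A A' S R) :
    (∃ m, Nonempty (R ≃* DihedralGroup m)) ∧ ∀ z ∈ A', Iv z → z ∉ 𝐂 A' := by
  obtain ⟨u, hu, iu⟩ := h.symm.exT
  obtain ⟨t, ht, it⟩ := h.exT
  exact mc h.th'.noTwo h.th'.four r.hR iu (r.n (h.US hu))
    (fun q => iu.ne (h.eq_one'' (.refl _) (.refl _) hu.2 (r.hR.le q) (h.pi hu.1)))
    fun x hx e => eq_of_card_two c ht it (h.cu r hu iu.ne hx e.symm)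

omit r in
theorem big : 2 < ♯(S ⊓ A') := by
  by_contra! c
  obtain ⟨R, r⟩ := h.exR
  obtain ⟨R', r'⟩ := h.symm.exR
  obtain ⟨B, m, -, cB⟩ := h.th.partner (.refl A)
  have c' := h.card_le.trans c
  obtain ⟨u, hu, iu⟩ := h.symm.exT
  obtain ⟨v, hv, iv⟩ := (h.of_mem m (.refl _)).symm.exT
  have vN := (h.of_mem m (.refl _)).UN hv
  have uv := mem_cent.1 (cB hv.2) u hu.2
  obtain ⟨d, z⟩ := h.dih c r
  have w := dih4 h.th'.self r.hR d z iu iv uv (h.UN hu) vN (fun j => iu.ne (h.ncU hu j))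
    (fun j => iv.ne ((h.of_mem m (.refl _)).ncU hv j)) (h.th.cent1_le (h.th.inD_self hu.2 iu))
    (h.th.cent1_le (h.th.inD m hv.2 iv)) fun Q l k => ((h.th'.sylT h.syl).card_le l k).trans c
  have iw := iv_mul iu iv (fun j => (h.symm.dih c' r').2 u hu.2 iu (j ▸ cB hv.2)) uv
  obtain ⟨t, ht, it⟩ := h.exT
  have tn := r'.n ⟨ht.1, h.TN ht⟩
  obtain ⟨e, he, ie⟩ := exists_center p2 (r'.hR.pi.sup (iv_pi it) (.inr (zpowers_le.2 tn)))
    (normalIn_sup_left (zpowers_le.2 tn)) fun e => by simpa [e] using h.th.two_lt r'.hR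
  have ie := iv_iff.2 ie
  obtain rfl := (eq_of_card_two c' hu iu (h.symm.cu r' ht it.ne he.1
    (mem_cent.1 he.2.2 t (mem_sup_right (mem_zpowers t))))).resolve_left ie.ne
  refine ((BG.card_le (r'.e ▸ le_inf le_rfl fun y hy => ?_)).trans c').not_gt (h.th.two_lt r'.hR)
  exact h.th'.of_comm (inD_cent iw w) (Commute.mul_right (mem_cent.1 he.2.2 y (mem_sup_left hy))
    (mem_cent.1 (cB hv.2) y (r'.hR.le hy)))

omit r in
theorem exU : ∃ u ∈ S ⊓ A, ∃ v ∈ S ⊓ A, u ≠ 1 ∧ v ≠ 1 ∧ u * v ≠ 1 := by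
  by_contra! k
  obtain ⟨u, hu, iu⟩ := h.symm.exT
  refine (card_le_two (e := u) fun x hx => or_iff_not_imp_left.2 fun n => ?_).not_gt h.symm.big
  rw [eq_inv_of_mul_eq_one_right (k u hu x hx iu.ne n), iu.inv]

theorem not_i2 : ¬ I2 (S ⊓ A') (N1 A A' S R) := fun i => by
  have ab : Abel (S ⊓ A' ⊔ S ⊓ A) :=
    (h.abelT r).sup (let ⟨_, r'⟩ := h.symm.exR; h.symm.abelT r') (cent_symm h.UC)
  have i1 := i2_sup' i (h.UN1 r) (norm_of_cent h.UC)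
  have nR : S ⊓ A ≤ 𝐍 R := h.US.trans r.n
  have WM : S ⊓ A' ⊔ S ⊓ A ≤ MM A := (sup_le inf_le_left inf_le_left).trans fun _ => h.SM
  have l : R ≤ N1 A A' S R := by
    by_contra n
    obtain ⟨y, hy, ny, m⟩ := fixq (S := N1 A A' S R ⊔ S ⊓ A) (r.k.le (sup_le le_sup_left
      (sup_le (inf_le_left.trans le_sup_left) (h.US.trans le_sup_right))))
      (sup_le (norm_of_le inf_le_left) nR) fun j => n fun y hy => by
        obtain ⟨a, ha, u, hu, rfl⟩ := (mem_sup_norm' (h.UN1 r)).1 (j hy)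
        rwa [h.eq_one'' (.refl _) (.refl _) hu.2 (r.hR.le ((mul_mem_cancel_left (mem_inf.1 ha).1).1 hy))
          (h.pi hu.1), mul_one]
    have i2 := i1.cj y
    rw [cj_of_norm m] at i2
    obtain ⟨u, hu, n1, q⟩ : ∃ u ∈ S ⊓ A, u ≠ 1 ∧ u ∈ cj y (S ⊓ A' ⊔ S ⊓ A) := by
      obtain ⟨u, hu, v, hv, n1, n2, n3⟩ := h.exU
      rcases i2.three (mem_sup_right hu) (mem_sup_right hv) with q | q | q
      exacts [⟨u, hu, n1, q⟩, ⟨v, hv, n2, q⟩, ⟨_, mul_mem hu hv, n3, q⟩]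
    refine ny (mem_sup_left ⟨hy, mem_norm_of_cj_le fun w hw => ?_⟩)
    obtain ⟨a, ha, v, hv, rfl⟩ := (mem_sup_norm' (h.UN1 r)).1
      (cj_le_of_norm m (sup_le_sup_right (h.TN1 r) _) hw)
    refine mul_mem_sup (r.e.le ⟨ha.1, (mul_mem_cancel_right (h.SM hv.1)).1 (by_contra fun j => ?_)⟩) hv
    exact n1 (h.th.noiv (.refl _) hu.2 (h.pi hu.1) ((abel_cj.2 ab).mul_comm q hw) j)
  exact RR.false ⟨h.th'.noTwo, h.th'.four, r.hR, i.mono le_rfl l, h.TR r,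
    fun j => h.nf (r.hR.eq_of_le j inf_le_right (h.syl.pi.le inf_le_left) ▸ r.hR),
    h.syl.pi.le inf_le_left, fun _ => h.UN, nR, h.UC, h.abelT r, eq_bot_iff.2 fun x hx =>
      h.eq_one'' (.refl _) (.refl _) hx.1.2 hx.2 (h.pi hx.1.1), h.big,
    fun x hx nx u hu c => by_contra fun j => nx (h.cu r hu j hx c), fun x hx nx t ht =>
      let ⟨u, hu, e⟩ := h.fsurj r (l hx) nx ht; ⟨u, hu, inv_mul_eq_iff_eq_mul.1 e⟩⟩

theorem ex2 : ∃ x ∈ N1 A A' S R, ∃ y ∈ N1 A A' S R, x ∉ S ⊓ A' ∧ y ∉ S ⊓ A' ∧ x * y ∉ S ⊓ A' := by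
  by_contra! k
  exact h.not_i2 r k

omit r in
theorem elemT (ht : t ∈ S ⊓ A') : t * t = 1 := by
  obtain ⟨R, r⟩ := h.exR
  obtain ⟨x, hx, y, hy, nx, ny, n⟩ := h.ex2 r
  have := h.invT r (mul_mem hx hy) n ht
  rw [show x * y * t * (x * y)⁻¹ = x * (y * t * y⁻¹) * x⁻¹ by group, h.invT r hy ny ht,
    h.invT r hx nx (inv_mem ht), inv_inv] at this
  exact mul_eq_one_iff_eq_inv.2 this

theorem cenT (hy : y ∈ N1 A A' S R) (ht : t ∈ S ⊓ A') : Commute y t := by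
  by_cases ny : y ∈ S ⊓ A'
  · exact (h.abelT r).mul_comm ny ht
  · have := h.invT r hy ny ht
    rwa [inv_eq_of_mul_eq_one_right (h.elemT ht), mul_inv_eq_iff_eq_mul] at this

end NF

end CF.CmpT
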