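-- copy of `CmpT.T8` avoiding a name clash (`Comp.syl_inf`) with `Sig.S4D`
/-
Terminal components: linked classes, the elementary case and the conclusion.
-/
import Cfsg.Agent.NCq.CmpTT7
set_option autoImplicit false
set_option linter.unusedSectionVars false

namespace CF.CmpT
open Subgroup Cfsg CF.BG CF.Sig CF.CT CF.PG CF.Bender CF.SM
open CF.ZD (iv_pi exists_iv_pow exists_iv_of_pi)
open scoped commutatorElement

universe u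
variable {G : Type u} [Group G] [Finite G]
variable {A A' B B' C D H K L M N P Q R R' S T U V W X Y : Subgroup G}
  {a a' b c d e e' g i j k n s t u v w x y z : G}

theorem refl_conj (ia : a * a = 1) (ib : b * b = 1) (k : ℕ) :
    (∃ j : ℕ, (a * b) ^ k * a = (a * b) ^ j * a * ((a * b) ^ j)⁻¹ ∨
      (a * b) ^ k * a = (a * b) ^ j * b * ((a * b) ^ j)⁻¹) ∧
    (∃ j : ℕ, (a * b) ^ k * b = (a * b) ^ j * a * ((a * b) ^ j)⁻¹ ∨
      (a * b) ^ k * b = (a * b) ^ j * b * ((a * b) ^ j)⁻¹) := by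
  have q : ∀ {t}, t * t = 1 → t * (a * b) * t⁻¹ = (a * b)⁻¹ → ∀ j : ℕ,
      (a * b) ^ j * t * ((a * b) ^ j)⁻¹ = (a * b) ^ (2 * j) * t := fun {t} i e j => by
    rw [← CF.Invol.conj_pow_of_inverts e, inv_eq_of_mul_eq_one_right i, two_mul, pow_add,
      ← mul_assoc, ← mul_assoc, mul_assoc _ t t, i, mul_one]
  have qa := q ia (CF.Invol.left_inverts_mul ia ib)
  have qb := q ib (CF.Invol.right_inverts_mul ia ib)
  have e : ∀ j : ℕ, (a * b) ^ (j + 1) * b = (a * b) ^ j * a := fun j => by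
    rw [pow_succ, mul_assoc, mul_assoc, ib, mul_one]
  obtain ⟨j, rfl | rfl⟩ := Nat.even_or_odd' k
  · exact ⟨⟨j, .inl (qa j).symm⟩, ⟨j, .inr (qb j).symm⟩⟩
  · exact ⟨⟨j + 1, .inr (by rw [qb, ← e]; rfl)⟩, ⟨j, .inl (by rw [qa, e])⟩⟩

theorem comm_of (e : a⁻¹ * b ∈ 𝐂 W) (hw : w ∈ W) : Commute a w ↔ Commute b w :=
  have c : Commute (a⁻¹ * b) w := (mem_cent.1 e w hw).symm
  ⟨fun k => by simpa using k.mul_left c, fun k => by simpa using k.mul_left c.inv_left⟩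

/-- the fixed points of `i` on `W` are the involutions attached to a class -/
def Fx (A W : Subgroup G) (i : G) : Prop :=
  ∃ B, Conj A B ∧ ∀ w ∈ W, w ≠ 1 → (Commute i w ↔ InD B w)

theorem Fx.conj (f : Fx A W i) (hg : g ∈ 𝐍 W) : Fx A W (g * i * g⁻¹) := by
  obtain ⟨B, c, f⟩ := f
  refine ⟨cj g B, conj_cj_right.2 c, fun w hw n => ?_⟩
  have := f _ (conj_mem_of_norm' hg hw) (by simpa [mul_assoc] using (show g⁻¹ * w * g⁻¹⁻¹ ≠ 1 by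
    rwa [Ne, conj_eq_one_iff]))
  refine ⟨fun k => by simpa [mul_assoc] using (this.1 (by simpa [mul_assoc] using k.conj g⁻¹)).cj g,
    fun k => by simpa [mul_assoc] using (this.2 (by simpa using k.cj g⁻¹)).conj g⟩

theorem Fx.congr (f : Fx A W i) (e : i⁻¹ * j ∈ 𝐂 W) : Fx A W j :=
  let ⟨B, c, f⟩ := f; ⟨B, c, fun w hw n => (comm_of e hw).symm.trans (f w hw n)⟩

theorem Fx.uniq (h : TH A) (f : Fx A W i) (f' : Fx A W j) (hw : w ∈ W) (n : w ≠ 1)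
    (c : Commute i w) (c' : Commute j w) (hv : v ∈ W) (k : Commute i v) : Commute j v := by
  obtain ⟨B, b, f⟩ := f
  obtain ⟨B', b', f'⟩ := f'
  by_cases e : v = 1
  · exact e ▸ Commute.one_right j
  · have m := (h.conj b).uniq (b.symm.trans b') ((f w hw n).1 c) ((f' w hw n).1 c')
    exact (f' v hv e).2 ((h.conj b').inD_of m.symm ((f v hv e).1 k))

theorem dih_cases (hx : x ∈ 𝐍 W) (hy : y ∈ 𝐍 W) (x2 : x * x ∈ 𝐂 W) (y2 : y * y ∈ 𝐂 W)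
    (fx : Fx A W x) (fy : Fx A W y) :
    (∃ i ∈ 𝐍 W, Fx A W i ∧ i * i ∈ 𝐂 W ∧ (i * x * i⁻¹)⁻¹ * y ∈ 𝐂 W ∧
      ∀ z, Commute x z → Commute y z → Commute i z) ∨
    ∃ c ∈ 𝐍 W, c ∉ 𝐂 W ∧ c * c ∈ 𝐂 W ∧ x⁻¹ * (c * x * c⁻¹) ∈ 𝐂 W ∧ y⁻¹ * (c * y * c⁻¹) ∈ 𝐂 W ∧
      Fx A W (c * x) ∧ Fx A W (c * y) := by
  have n := norm_le_norm_cent W
  have ia : qe (𝐂 W) x * qe (𝐂 W) x = 1 := by rw [← qe_mul (n hx) (n hx), qe_of_mem x2]
  have ib : qe (𝐂 W) y * qe (𝐂 W) y = 1 := by rw [← qe_mul (n hy) (n hy), qe_of_mem y2]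
  have p : ∀ k : ℕ, (x * y) ^ k ∈ 𝐍 W := pow_mem (mul_mem hx hy)
  have q : ∀ k : ℕ, qe (𝐂 W) ((x * y) ^ k) = (qe (𝐂 W) x * qe (𝐂 W) y) ^ k := fun k => by
    rw [qe_pow (n (mul_mem hx hy)), qe_mul (n hx) (n hy)]
  have cj : ∀ {g z}, g ∈ 𝐍 W → z ∈ 𝐍 W → g * z * g⁻¹ ∈ 𝐍 W := fun a b =>
    mul_mem (mul_mem a b) (inv_mem a)
  have fx' : ∀ {z} (k : ℕ), z ∈ 𝐍 W → (∃ j : ℕ, (qe (𝐂 W) x * qe (𝐂 W) y) ^ k * qe (𝐂 W) z =
      (qe (𝐂 W) x * qe (𝐂 W) y) ^ j * qe (𝐂 W) x * ((qe (𝐂 W) x * qe (𝐂 W) y) ^ j)⁻¹ ∨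
      (qe (𝐂 W) x * qe (𝐂 W) y) ^ k * qe (𝐂 W) z = (qe (𝐂 W) x * qe (𝐂 W) y) ^ j * qe (𝐂 W) y *
      ((qe (𝐂 W) x * qe (𝐂 W) y) ^ j)⁻¹) → Fx A W ((x * y) ^ k * z) := by
    rintro z k hz ⟨j, e | e⟩
    · rw [← q, ← q, ← qe_mul (n (p k)) (n hz), ← qe_conj (n (p j)) (n hx), eq_comm,
        qe_eq_iff (n (cj (p j) hx)) (n (mul_mem (p k) hz))] at e
      exact (fx.conj (p j)).congr e
    · rw [← q, ← q, ← qe_mul (n (p k)) (n hz), ← qe_conj (n (p j)) (n hy), eq_comm,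
        qe_eq_iff (n (cj (p j) hy)) (n (mul_mem (p k) hz))] at e
      exact (fy.conj (p j)).congr e
  rcases Nat.even_or_odd (orderOf (qe (𝐂 W) x * qe (𝐂 W) y)) with ev | od
  · have ic := iv_iff.2 (CF.Invol.orderOf_pow_half ev)
    have c1 := (CF.Invol.commute_pow_half_of_inverts (CF.Invol.left_inverts_mul ia ib) ev).eq
    have c2 := (CF.Invol.commute_pow_half_of_inverts (CF.Invol.right_inverts_mul ia ib) ev).eq
    generalize orderOf (qe (𝐂 W) x * qe (𝐂 W) y) / 2 = k at *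
    refine .inr ⟨_, p k, fun m => ic.ne (q k ▸ qe_of_mem m), ?_, ?_, ?_,
      fx' k hx (refl_conj ia ib k).1, fx' k hy (refl_conj ia ib k).2⟩
    · rw [← qe_eq_one (n (mul_mem (p k) (p k))), qe_mul (n (p k)) (n (p k)), q, ic.sq]
    · rw [← qe_eq_iff (n hx) (n (cj (p k) hx)), qe_conj (n (p k)) (n hx), q, conj_fix c1]
    · rw [← qe_eq_iff (n hy) (n (cj (p k) hy)), qe_conj (n (p k)) (n hy), q, conj_fix c2]
  · obtain ⟨k, e⟩ := CF.Invol.exists_pow_conj_of_odd ia ib od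
    have m := mul_mem (p k) hx
    refine .inl ⟨_, m, fx' k hx (refl_conj ia ib k).1, ?_, ?_, fun z a b =>
      ((a.mul_left b).pow_left k).mul_left a⟩
    · rw [← qe_eq_one (n (mul_mem m m)), qe_mul (n m) (n m), qe_mul (n (p k)) (n hx), q]
      obtain ⟨j, e | e⟩ := (refl_conj ia ib k).1 <;> rw [e, conj_mul] <;> simp [ia, ib]
    · rw [← qe_eq_iff (n (cj m hx)) (n hy), show (x * y) ^ k * x * x * ((x * y) ^ k * x)⁻¹ =
        (x * y) ^ k * x * ((x * y) ^ k)⁻¹ by group, qe_conj (n (p k)) (n hx), q, e]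

theorem even_aux (h : TH A) (ab : Abel W) (hc : c ∈ 𝐍 W) (c2 : c * c ∈ 𝐂 W)
    (e : x⁻¹ * (c * x * c⁻¹) ∈ 𝐂 W) (f : Fx A W x) (f' : Fx A W (c * x)) (ht : t ∈ W) (i : Iv t)
    (k : Commute x t) (hw : w ∈ W) (l : Commute x w) : Commute c w := by
  have m := conj_mem_of_norm hc ht
  obtain ⟨s, hs, n, k1, k2⟩ : ∃ s ∈ W, s ≠ 1 ∧ Commute x s ∧ Commute c s := by
    by_cases q : t * (c * t * c⁻¹) = 1
    · refine ⟨t, ht, i.ne, k, ?_⟩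
      rw [commute_iff_eq, ← mul_inv_eq_iff_eq_mul, eq_inv_of_mul_eq_one_right q, i.inv]
    · refine ⟨_, mul_mem ht m, q, k.mul_right ((comm_of e m).2 (k.conj c)), ?_⟩
      rw [commute_iff_eq, ← mul_inv_eq_iff_eq_mul, ← conj_mul, ab.mul_comm ht m,
        show c * (c * t * c⁻¹) * c⁻¹ = c * c * t * (c * c)⁻¹ by group,
        conj_fix (mem_cent.1 c2 t ht).symm]
  simpa using (f.uniq h f' hs n k1 (k2.mul_left k1) hw l).mul_left l.inv_left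

namespace NF
variable (h : NF A A' S)
include h

theorem abelW : Abel (S ⊓ A' ⊔ S ⊓ A) :=
  let ⟨_, r⟩ := h.exR; let ⟨_, r'⟩ := h.symm.exR
  (h.abelT r).sup (h.symm.abelT r') (cent_symm h.UC)

theorem exW (hw : w ∈ S ⊓ A' ⊔ S ⊓ A) : ∃ t ∈ S ⊓ A', ∃ u ∈ S ⊓ A, t * u = w :=
  (mem_sup_norm' (norm_of_cent h.UC)).1 hw

variable (r : RS A A' S R) (hx : x ∈ N1 A A' S R) (nx : x ∉ S ⊓ A')
include r hx nx

theorem fixW (hw : w ∈ S ⊓ A' ⊔ S ⊓ A) (c : Commute x w) : w ∈ S ⊓ A' := by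
  obtain ⟨t, ht, u, hu, rfl⟩ := h.exW hw
  have : Commute u x := by simpa using ((h.cenT r hx ht).inv_right.mul_right c).symm
  rwa [show u = 1 from by_contra fun n => nx (h.cu r hu n hx.1 this), mul_one]

theorem fx : Fx A (S ⊓ A' ⊔ S ⊓ A) x := by
  refine ⟨A', h.conj, fun w hw n => ⟨fun c => ?_, fun d => ?_⟩⟩
  · have := h.fixW r hx nx hw c
    exact h.th'.inD_self this.2 ⟨n, h.elemT this⟩
  obtain ⟨t, ht, u, hu, rfl⟩ := h.exW hw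
  obtain ⟨B, m, c⟩ := d.ex
  by_cases e : B = A'
  · exact mem_cent.1 (e ▸ c) x (r.hR.le hx.1)
  · rw [h.toDP.symm.eq_one' m (.refl _) ((mul_mem_cancel_left (m.cent' e ht.2)).1 c) hu.2
      (h.pi hu.1), mul_one]
    exact h.cenT r hx ht

theorem sqW : x * x ∈ 𝐂 (S ⊓ A' ⊔ S ⊓ A) := h.abelW (mem_sup_left (h.sqN r hx))

theorem refl (r' : RS A' A S R') (hy : y ∈ N1 A' A S R') (ny : y ∉ S ⊓ A) :
    ∃ i ∈ 𝐍 (S ⊓ A' ⊔ S ⊓ A), Fx A (S ⊓ A' ⊔ S ⊓ A) i ∧ i * i ∈ 𝐂 (S ⊓ A' ⊔ S ⊓ A) ∧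
      (i * x * i⁻¹)⁻¹ * y ∈ 𝐂 (S ⊓ A' ⊔ S ⊓ A) ∧ ∀ z, Commute x z → Commute y z → Commute i z := by
  have fx := h.fx r hx nx
  have fy : Fx A (S ⊓ A' ⊔ S ⊓ A) y := by
    obtain ⟨B, c, f⟩ := h.symm.fx r' hy ny
    exact ⟨B, h.conj.trans c, sup_comm (S ⊓ A) _ ▸ f⟩
  refine (dih_cases hx.2 (sup_comm (S ⊓ A) _ ▸ hy.2) (h.sqW r hx nx)
    (sup_comm (S ⊓ A) _ ▸ h.symm.sqW r' hy ny) fx fy).resolve_right ?_
  rintro ⟨c, hc, nc, c2, e1, e2, f1, f2⟩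
  obtain ⟨t, ht, it⟩ := h.exT
  obtain ⟨u, hu, iu⟩ := h.symm.exT
  refine nc (le_cent1_iff.1 (sup_le (fun w hw => mem_cent1.2 (Commute.symm ?_))
    fun w hw => mem_cent1.2 (Commute.symm ?_)))
  · exact even_aux h.th h.abelW hc c2 e1 fx f1 (mem_sup_left ht) it (h.cenT r hx ht)
      (mem_sup_left hw) (h.cenT r hx hw)
  · exact even_aux h.th h.abelW hc c2 e2 fy f2 (mem_sup_right hu) iu (h.symm.cenT r' hy hu)
      (mem_sup_right hw) (h.symm.cenT r' hy hw)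

end NF

theorem NF.cenU (h : NF A A' S) : S ⊓ A ≤ 𝐂 A := by
  by_contra nc
  obtain ⟨R, r⟩ := h.exR
  obtain ⟨R', y, Y⟩ := h.symm.exXX
  have hy := Y.n1 h.toLS.symm
  have ny := Y.nT h.toLS.symm
  obtain ⟨B', m', nB, cB⟩ := h.th'.partner (.refl A')
  have h2 := h.of_mem (.refl _) m'
  obtain ⟨t0, ht0, it0⟩ := h.exT
  have WS : S ⊓ A' ⊔ S ⊓ A ≤ S := sup_le inf_le_left inf_le_left
  have par : ∀ t ∈ S ⊓ A', ∃ s ∈ S ⊓ B', Commute y (s⁻¹ * t) := fun t ht => by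
    obtain ⟨s, hs, e⟩ := surj_of_inj h2.card_le (fun s => y⁻¹ * (s * y * s⁻¹))
      (fun s hs => Y.m s hs.1 (h2.TN hs)) (fun _ a _ b => h2.toLS.symm.finj (by
        rw [h.th'.MM_eq m']; exact Y.nx) a b) (Y.m t ht.1 (h.TN ht))
    refine ⟨s, hs, ?_⟩
    rw [mul_right_inj] at e
    calc y * (s⁻¹ * t) = s⁻¹ * (s * y * s⁻¹) * t := by group
      _ = s⁻¹ * t * y := by rw [e]; group
  have key : ∀ {x}, x ∈ N1 A A' S R → x ∉ S ⊓ A' → ∃ i ∈ 𝐍 (S ⊓ A' ⊔ S ⊓ A),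
      Fx A (S ⊓ A' ⊔ S ⊓ A) i ∧ i * i ∈ 𝐂 (S ⊓ A' ⊔ S ⊓ A) ∧
      (i * x * i⁻¹)⁻¹ * y ∈ 𝐂 (S ⊓ A' ⊔ S ⊓ A) ∧ (∀ t ∈ S ⊓ A', i * t * i⁻¹ ∈ S ⊓ A) ∧
      (∀ u ∈ S ⊓ A, ∃ t ∈ S ⊓ A', i * t * i⁻¹ = u) ∧ ∀ t ∈ S ⊓ A', ∀ s ∈ S ⊓ B',
        Commute y (s⁻¹ * t) → t⁻¹ * s * (i * t * i⁻¹) ∈ 𝐂 A := fun {x} hx nx => by
    obtain ⟨i, hi, f, i2, e, z⟩ := h.refl r hx nx Y.toRS hy ny
    have a : ∀ t ∈ S ⊓ A', i * t * i⁻¹ ∈ S ⊓ A := fun t ht => by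
      have m := conj_mem_of_norm hi (mem_sup_left ht)
      exact h.symm.fixW Y.toRS hy ny (sup_comm (S ⊓ A') _ ▸ m)
        ((comm_of e m).1 ((h.cenT r hx ht).conj i))
    have b : ∀ u ∈ S ⊓ A, ∃ t ∈ S ⊓ A', i * t * i⁻¹ = u := fun u =>
      surj_of_inj h.card_le (fun t => i * t * i⁻¹) a fun _ _ _ _ e => by simpa using e
    refine ⟨i, hi, f, i2, e, a, b, fun t ht s hs c => ?_⟩
    have m := h.th.uniq (h.conj.trans (conj_cj A' i)) (h.th.inD_self (a _ ht0).2 (it0.conj i))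
      ((h.th'.inD_self ht0.2 it0).cj i)
    have q : cj i A' = A := by_contra fun q => nc fun u hu =>
      let ⟨t, ht, e⟩ := b u hu; m.cent q (e ▸ conj_mem_cj.2 ht.2)
    have c' := z _ ((Commute.inv_right (mem_cent.1 (cB hs.2) x (r.hR.le hx.1))).mul_right
      (h.cenT r hx ht)) c
    have : i * s * i⁻¹ ∈ 𝐂 A := by rw [← q, ← cj_cent]; exact conj_mem_cj.2 (cB hs.2)
    rwa [show i * s * i⁻¹ = i * t * i⁻¹ * (i * (s⁻¹ * t) * i⁻¹)⁻¹ by group, conj_fix c'.eq,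
      mul_inv_rev, inv_inv, (h.TU (inv_mem ht) (a t ht)).symm.mul_right
        (h2.TU hs (a t ht)).symm |>.eq] at this
  obtain ⟨x, hx, x', hx', nx, nx', n⟩ := h.ex2 r
  obtain ⟨i, hi, f, i2, e, a, b, c⟩ := key hx nx
  obtain ⟨j, hj, f', j2, e', a', b', c'⟩ := key hx' nx'
  have aU := h.symm.abelT Y.toRS
  have fix : ∀ {i t}, i * i ∈ 𝐂 (S ⊓ A' ⊔ S ⊓ A) → t ∈ S ⊓ A' → i * (i * t * i⁻¹) * i⁻¹ = t :=
    fun {i t} k ht => by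
      rw [show i * (i * t * i⁻¹) * i⁻¹ = i * i * t * (i * i)⁻¹ by group,
        conj_fix (mem_cent.1 k t (mem_sup_left ht)).symm]
  have cm : ∀ {i t}, i * i ∈ 𝐂 (S ⊓ A' ⊔ S ⊓ A) → t ∈ S ⊓ A' → i * t * i⁻¹ ∈ S ⊓ A →
      Commute i (t * (i * t * i⁻¹)) := fun {i t} k ht m => by
    rw [commute_iff_eq, ← mul_inv_eq_iff_eq_mul, ← conj_mul, fix k ht, (h.TU ht m).eq]
  have inj : ∀ t ∈ S ⊓ A', i * t * i⁻¹ = j * t * j⁻¹ → t = 1 := fun t ht q => by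
    by_contra t1
    have w1 : t * (i * t * i⁻¹) ≠ 1 := fun w => t1 (h.eq_one'' (.refl _) (.refl _)
      (eq_inv_of_mul_eq_one_left w ▸ inv_mem (mem_inf.1 (a t ht)).2) ht.2 (h.pi ht.1))
    have all : ∀ s ∈ S ⊓ A', j * s * j⁻¹ = i * s * i⁻¹ := fun s hs => by
      have k := f.uniq h.th f' (mul_mem_sup ht (a t ht)) w1 (cm i2 ht (a t ht))
        (q ▸ cm j2 ht (a' t ht)) (mul_mem_sup hs (a s hs)) (cm i2 hs (a s hs))
      obtain ⟨s', hs', e1⟩ := b' _ (a s hs)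
      have k' := conj_fix k.eq
      rw [← conj_mul, ← e1, fix j2 hs', e1, (h.TU hs (a s hs)).eq] at k'
      have m := mul_mem (inv_mem (a s hs)) (a' s hs)
      refine (inv_mul_eq_one.1 (h.eq_one'' (.refl _) (.refl _) m.2 ?_ (h.pi m.1))).symm
      rw [eq_mul_inv_of_mul_eq k', mul_assoc (i * s * i⁻¹), inv_mul_cancel_left]
      exact (mul_mem hs (inv_mem hs')).2
    have cij : ∀ {w}, j * w * j⁻¹ = i * w * i⁻¹ → w ∈ 𝐂₁ (i⁻¹ * j) := fun {w} q => mem_cent1.2 (by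
      calc w * (i⁻¹ * j) = i⁻¹ * (i * w * i⁻¹) * j := by group
        _ = i⁻¹ * j * w := by rw [← q]; group)
    have ij : i⁻¹ * j ∈ 𝐂 (S ⊓ A' ⊔ S ⊓ A) := le_cent1_iff.1 (sup_le (fun s hs => cij (all s hs))
      fun u hu => by
        obtain ⟨s, hs, rfl⟩ := b u hu
        exact cij (by rw [fix i2 hs, ← all s hs, fix j2 hs]))
    have nW := norm_le_norm_cent (S ⊓ A' ⊔ S ⊓ A)
    have k := mul_mem (inv_mem (conj_mem_of_norm' (nW hx.2) ij))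
      (mul_mem (conj_mem_of_norm' (nW hi) (mul_mem e (inv_mem e'))) ij)
    rw [show (x⁻¹ * (i⁻¹ * j) * x)⁻¹ * (i⁻¹ * ((i * x * i⁻¹)⁻¹ * y * ((j * x' * j⁻¹)⁻¹ * y)⁻¹) * i *
      (i⁻¹ * j)) = x⁻¹ * x' by group] at k
    obtain ⟨u, hu, iu⟩ := h.symm.exT
    exact n (by simpa [mul_assoc] using mul_mem (h.sqN r hx) (h.cu r hu iu.ne
      (mul_mem (inv_mem (mem_inf.1 hx).1) hx'.1) (mem_cent.1 k u (mem_sup_right hu))))
  refine nc (inf_eq_left.1 (eq_of_card_le inf_le_left (h.card_le.trans (card_le_of_inj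
    (fun t => (j * t * j⁻¹)⁻¹ * (i * t * i⁻¹)) (fun t ht => mem_inf.2
      ⟨mul_mem (inv_mem (a' t ht)) (a t ht), ?_⟩)
    fun t ht s hs q => mul_inv_eq_one.1 (inj _ (mul_mem ht (inv_mem hs)) ?_)))))
  · obtain ⟨s, hs, k⟩ := par t ht
    simpa [mul_assoc] using mul_mem (inv_mem (c' t ht s hs k)) (c t ht s hs k)
  · calc _ = j * t * j⁻¹ * ((j * t * j⁻¹)⁻¹ * (i * t * i⁻¹)) * (i * s * i⁻¹)⁻¹ := by group
      _ = _ := by rw [q]; group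

end CF.CmpT
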