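-- copy of `Known.Q16.Exc` avoiding a name clash (`Comp.syl_inf`) with `Sig.S4D`
/-
Quasithin groups of even type: no pump-up of a 2-central component is exceptional.
-/
import Cfsg.Agent.NCq.Q16Pu
set_option autoImplicit false
set_option linter.unusedSectionVars false

namespace CF.Q16
open Subgroup Cfsg CF.BG CF.Sig CF.CT CF.CmpT CF.PG CF.Bender CF.SM
open CF.ZD (iv_pi)
open scoped commutatorElement

variable {G : Type*} [Group G] [Finite G]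
variable {A B D E H J K L M N P Q R S T U W Y : Subgroup G}
  {a b d e g h k l r s t u v w x y z α : G} {p : ℕ} {F : Prop}

theorem mem_Ep (hx : x ∈ A) (e : x ^ p = 1) : x ∈ Ep p A := subset_closure ⟨hx, e⟩

theorem Ep_le : Ep p A ≤ B ↔ ∀ x ∈ A, x ^ p = 1 → x ∈ B :=
  (closure_le _).trans ⟨fun h x a b => h ⟨a, b⟩, fun h x a => h x a.1 a.2⟩

theorem dg_comp {ν : D →* G} (g : Dg 2 x D ν) (h : Comp D H) (hx : x ∈ 𝐍 H) :
    Comp ν.range (H ⊓ 𝐂₁ x) := by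
  have n : orbJ (zpowers x) D ⊴ Lay H := ⟨iSup_le fun r =>
    (h.cj_of_norm (zpowers_le.2 hx r.2)).le_Lay, norm_iSup fun r =>
      (h.cj_of_norm (zpowers_le.2 hx r.2)).Lay_norm⟩
  have a := (n.inf_right (inf_le_left (b := 𝐂₁ x)))
  rw [← inf_assoc, inf_eq_left.2 n.le] at a
  have b := (Lay_normal H).inf_right (inf_le_left (b := 𝐂₁ x))
  rw [← inf_assoc, inf_eq_left.2 (Lay_le H)] at b
  exact comp_iff.2 ⟨((normalIn_of_der_le g.le (g.der_le h hx)).subN.trans a.subN).trans b.subN, g.qs h⟩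

theorem F4.rot (f : F4 L t a b l) : F4 L t b (a * b) l :=
  ⟨f.hb, mul_mem f.ha f.hb, f.hl, f.ib, iv_mul f.ia f.ib f.ne f.ab,
    fun e => f.ia.ne (by simpa using e), by rw [← mul_assoc, ← f.ab], f.tb, mul_mem f.ta f.tb, f.l3,
    f.lb, by rw [← conj_mul, f.la, f.lb]⟩

/-- an element of order `p` inducing an inner automorphism commuting with `t` -/
theorem cent_of_fix (hp : p.Prime) (h2 : p ≠ 2) (k : PiGrp {2} (𝐙 M)) (n : t ∈ 𝐍 M)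
    (f : ∀ x ∈ M, x ^ p = 1 → x ∈ 𝐂₁ t → x = 1) (hx : x ∈ M ⊔ 𝐂 M) (c : x ∈ 𝐂₁ t) (e : x ^ p = 1) :
    x ∈ 𝐂 M := by
  obtain ⟨a, ha, b, hb, rfl⟩ := (mem_sup_norm' (cent_le_norm M)).1 hx
  have cm : Commute a b := mem_cent.1 hb a ha
  have ap : a ^ p ∈ 𝐂 M := by
    rw [cm.mul_pow] at e
    rw [eq_inv_of_mul_eq_one_left e]; exact inv_mem (pow_mem hb _)
  obtain ⟨j, hj⟩ := k.card_pow
  have pw : ∀ x ∈ 𝐙 M, x ^ 2 ^ j = 1 := fun x hx =>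
    orderOf_dvd_iff_pow_eq_one.1 (hj ▸ orderOf_dvd_card' hx)
  have m : a⁻¹ * (t * a * t⁻¹) ∈ 𝐙 M := mem_inf.2 ⟨mul_mem (inv_mem ha) (conj_mem_of_norm n ha), by
    rw [show a⁻¹ * (t * a * t⁻¹) = a⁻¹ * (t * (a * b) * t⁻¹) * (t * b⁻¹ * t⁻¹) by group,
      conj_fix (mem_cent1.1 c).symm, inv_mul_cancel_left]
    exact mul_mem hb (conj_mem_of_norm (norm_le_norm_cent M n) (inv_mem hb))⟩
  have := f (a ^ 2 ^ j) (pow_mem ha _) (by rw [← pow_mul, mul_comm, pow_mul, pw _ ⟨pow_mem ha _, ap⟩])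
    (mem_cent1.2 (by
      have q := Commute.mul_pow (mem_cent.1 m.2 a ha) (2 ^ j)
      rw [pw _ m, mul_one, mul_inv_cancel_left, conj_pow] at q
      conv_lhs => rw [← q]
      group))
  exact mul_mem (mem_of_pow_pow ap (this ▸ one_mem _)
    (((Nat.coprime_primes hp p2).2 h2).pow_right _)) hb

/-- the configuration in the exceptional case -/
structure EX (p : ℕ) (F : Prop) (t α : G) (K M : Subgroup G) : Prop where
  c : Ctx G
  it : Iv t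
  ia : Iv α
  hK : Comp K (𝐂₁ t)
  hM : Comp M (𝐂₁ α)
  e : ExcK p F K
  s : Sm p F M
  tα : α ∈ 𝐂₁ t
  nc : α ∉ 𝐂 K
  cen : Cen p F K α

namespace EX
variable (X : EX p F t α K M)
include X

theorem hp : p.Prime := X.e.pr.1
theorem h2 : p ≠ 2 := X.e.pr.2
theorem nK (hx : x ∈ 𝐂₁ t) : x ∈ 𝐍 K := X.c.exc_norm X.it X.hK X.e hx

theorem no_comp (h : Comp L (𝐂₁ t ⊓ 𝐂₁ α)) (d : p ∣ ♯L) : False := by
  by_cases q : Comp L (𝐂₁ t)
  · exact X.nc (le_cent1_iff.1 (X.c.eq_of_rk X.it X.hK X.e q d ▸ h.le.trans inf_le_right))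
  obtain ⟨D, hD⟩ := X.c.exists_ps X.it X.ia X.tα h q
  obtain rfl := X.c.eq_of_rk X.it X.hK X.e hD.cD (d.trans hD.dvd)
  exact hD.cs.elim (fun v => X.cen.nc _ v.cp) fun v => v.1 (X.nK X.tα)

theorem tc : t ∉ 𝐂 M := fun q =>
  X.no_comp (X.hM.of_le (le_inf (le_cent1_iff.2 q) X.hM.le) inf_le_right) X.s.dv

theorem tn : t ∈ 𝐍 M := by_contra fun q => by
  have n := le_norm_self _ (mem_cent1_comm.1 X.tα)
  obtain ⟨ν, g⟩ := exists_dg X.hM p2 n (X.it.pow2 ▸ one_mem _) q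
  refine X.no_comp (inf_comm (𝐂₁ α) _ ▸ dg_comp g X.hM n) (.trans ?_ (nb_dvd _))
  rw [nb, g.relIndex X.hM]
  exact qs_dvd_relIndex X.hM.qs X.hp X.s.dv

theorem case1 (hx : x ∈ M) (x1 : x ≠ 1) (e : x ^ p = 1) (c : x ∈ 𝐂₁ t) : False := by
  have hp := X.hp
  have xA : x ∈ K ⊓ 𝐂₁ α := ⟨X.c.nk X.it X.hK X.e c e, X.hM.le hx⟩
  have o := orderOf_eq_of_pow hp e x1
  have nA : K ⊓ 𝐂₁ α ≤ 𝐍 M := fun g hg => by_contra fun n => by
    have m := cjc X.hM hg.2 n (conj_mem_cj.2 hx)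
    have e' : (g * x * g⁻¹) ^ p = 1 := by rw [conj_pow, e]; simp
    have := two_elem hp xA (mul_mem (mul_mem hg xA) (inv_mem hg)) x1 e e' (cent_le_cent1 hx m)
      fun j => x1 (conj_eq_one_iff.1 (one_of_two hp X.h2 (X.c.z2 X.ia X.hM) ⟨zpowers_le.2 hx j, m⟩ e'))
    exact X.cen.nd (this.card ▸ card_dvd this.le)
  have sy : Syl p (zpowers x) (K ⊓ 𝐂₁ α) := syl_mk hp (zpowers_le.2 xA)
    (piElt_of_pow_eq_one hp e).zpowers fun d => X.cen.nd (by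
      rw [← card_mul_relIndex (zpowers_le.2 xA), Nat.card_zpowers, o, pow_two]
      exact Nat.mul_dvd_mul_left _ d)
  have l : Ep p (K ⊓ 𝐂₁ α) ≤ M := Ep_le.2 fun y hy ey => by
    obtain ⟨g, hg, m⟩ := sy.syl_le_cj (zpowers_le.2 hy) (piElt_of_pow_eq_one hp ey).zpowers
    exact cj_le_of_norm (nA hg) (zpowers_le.2 hx) (m (mem_zpowers y))
  rcases X.e.p35 with q | q
  · exact (X.s.d3 q).elim (fun j => j ((X.cen.d3 q).1.trans (nb_dvd_nb l))) fun j =>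
      j.2 (((X.cen.d3 q).2 j.1).trans (card_dvd l))
  · exact X.s.d5 q ((X.cen.d5 q).trans (card_dvd l))

theorem cE : Ep p (K ⊓ 𝐂₁ α) ≤ 𝐂 M := Ep_le.2 fun x hx e =>
  cent_of_fix X.hp X.h2 (X.c.z2 X.ia X.hM) X.tn
    (fun _ a b c => by_contra fun n => X.case1 a n b c)
    (X.s.out x (i2_odd (X.c.i2 X.ia X.hM) X.hp X.h2 hx.2 e) e) (X.hK.le hx.1) e

theorem c1 (hb : b ∈ M) (c : b ∈ 𝐂₁ t) (k : PiElt {2} b) (q : p = 5 ∨ b * b = 1) :
    b ∈ 𝐂 K ∨ b * α ∈ 𝐂 K :=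
  X.cen.c1 b (X.nK c) k q (X.hM.le hb) (cent_symm X.cE hb)

theorem nl (i : Iv a) (ta : a ∈ 𝐂₁ t) (ca : a ∈ 𝐂 K) (tb : l * a * l⁻¹ ∈ 𝐂₁ t)
    (cb : l * a * l⁻¹ ∈ 𝐂 K) : l ∈ 𝐍 K :=
  cj_eq_self.1 (X.c.eq_of_rk (i.conj l) (X.c.term X.it X.hK X.e (i.conj l) tb cb) X.e
    (cj_cent1 l a ▸ (X.c.term X.it X.hK X.e i ta ca).cj l) (by rw [card_cj]; exact X.e.dv))

theorem two (f : F4 M t a b l) (ca : a * α ∈ 𝐂 K) (cb : b * α ∈ 𝐂 K) : False := by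
  have la : l * α * l⁻¹ = α := conj_fix (mem_cent1.1 (X.hM.le f.hl))
  have ab : a * α * (b * α) = a * b := by
    rw [mul_assoc, ← mul_assoc α, ← mem_cent1.1 (X.hM.le f.hb), mul_assoc b, X.ia.sq, mul_one]
  have n := X.nl (l := l) (iv_mul f.ia X.ia (fun e => f.ne (by rw [← f.la, e, la]))
    (mem_cent1.1 (X.hM.le f.ha))) (mul_mem f.ta X.tα) ca
    (by rw [← conj_mul, la, f.la]; exact mul_mem f.tb X.tα) (by rwa [← conj_mul, la, f.la])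
  have := conj_mem_of_norm (norm_le_norm_cent K n) cb
  rw [← conj_mul, la, f.lb, ← ab] at this
  exact X.nc ((mul_mem_cancel_left (mul_mem ca cb)).1 this)

theorem zero (q : p = 3) (f : F4 M t a b l) (ca : a ∈ 𝐂 K) (cb : b ∈ 𝐂 K) : False := by
  have n := X.nl (l := l) f.ia f.ta ca (f.la ▸ f.tb) (f.la ▸ cb)
  have := X.e.nk (X.c.sq (pi_two f.ia.pe f.ib.pe f.ab)
    (ne_bot_of_mem (mem_sup_left (mem_zpowers a)) f.ia.ne))
    (norm_of_cent' (sup_le (zpowers_le.2 ca) (zpowers_le.2 cb))) (X.c.z2 X.it X.hK)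
    (mem_norm_of_cj_le (by
      rw [cj_sup, cj_zpowers, cj_zpowers, f.la, f.lb]
      exact sup_le le_sup_right (zpowers_le.2 (mul_mem (mem_sup_left (mem_zpowers a))
        (mem_sup_right (mem_zpowers b)))))) n (q ▸ f.l3)
  exact f.ne (by rw [← f.la, conj_cent this ca])

theorem f4 (q : p = 3) (f : F4 M t a b l) : False := by
  have ab : a * α * b = a * b * α := by
    rw [mul_assoc, ← mem_cent1.1 (X.hM.le f.hb), mul_assoc]
  rcases X.c1 f.ha f.ta f.ia.pe (.inr f.ia.sq) with u | u <;>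
    rcases X.c1 f.hb f.tb f.ib.pe (.inr f.ib.sq) with v | v
  · exact X.zero q f u v
  · exact X.two f.rot v (by rw [mul_assoc]; exact mul_mem u v)
  · refine X.two f.rot.rot (ab ▸ mul_mem u v) ?_
    rwa [f.ab, ← mul_assoc b, f.ib.sq, one_mul]
  · exact X.two f u v

theorem big (q : p = 5) (l : B ≤ M ⊓ 𝐂₁ t) (k : PiGrp {2} B) (r : 8 < (𝐂 M).relIndex B) :
    4 < (𝐂 M).relIndex (𝐂 K ⊓ B) := by
  have i : I2 (𝐂 K) B := fun a ha b hb na nb => by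
    have := mul_mem ((X.c1 (l ha).1 (l ha).2 (k.elt ha) (.inl q)).resolve_left na)
      ((X.c1 (l hb).1 (l hb).2 (k.elt hb) (.inl q)).resolve_left nb)
    rwa [mul_assoc, ← mul_assoc α, ← mem_cent1.1 (X.hM.le (l hb).1), mul_assoc b, X.ia.sq,
      mul_one] at this
  have a := i.card
  rw [← card_inf_mul_relIndex (𝐂 M) B, ← card_inf_mul_relIndex (𝐂 M) (𝐂 K ⊓ B)] at a
  have b := card_le (inf_le_inf_left (𝐂 M) (inf_le_right : 𝐂 K ⊓ B ≤ B))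
  have c := card_pos' (𝐂 M ⊓ B)
  by_contra n
  nlinarith

end EX

theorem Ctx.exc (c : Ctx G) (hT : Syl 2 T ⊤) (cz : z ∈ 𝐂 T) (it : Iv t) (hK : Comp K (𝐂₁ t))
    (v : VP K z L) (hL : Comp L (𝐂₁ z)) (e : ExcK p F K) : False := by
  obtain ⟨Q, hQ, tQ⟩ := exists_syl_le (zpowers_le.2 (self_mem_cent1 t)) (iv_pi it)
  obtain ⟨h, -, l⟩ := hT.syl_le_cj le_top hQ.pi
  have cα : h * z * h⁻¹ ∈ 𝐂 Q := cent_anti l (cj_cent h T ▸ conj_mem_cj.2 cz)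
  have iα := v.iv.conj h
  have tα := cent_le_cent1 (tQ (mem_zpowers t)) cα
  have hM : Comp (cj h L) (𝐂₁ (h * z * h⁻¹)) := cj_cent1 h z ▸ hL.cj h
  have e3 := (e.e3 v).cj h
  have s := c.sm iα hM e3
  have nc : h * z * h⁻¹ ∉ 𝐂 K := fun q =>
    e3.not_big (c.eq_of_rk iα (c.term it hK e iα tα q) e hM s.dv ▸ e.big)
  have X : EX p F t _ K _ := ⟨c, it, iα, hK, hM, e, s, tα, nc, e.cen iα (c.exc_norm it hK e tα) nc
    (hK.syl_inf2 hQ) (cent_anti inf_le_left cα)⟩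
  rcases s.ty with r | ⟨q, r⟩ | ⟨q, r⟩
  · obtain ⟨x, hx, x1, ex⟩ := ex_ord X.hp X.cen.dv
    exact x1 (r3c (c.sq1 iα) X.hp X.h2 hM.le r (c.z2 iα hM) hx.2 ex (X.cE (mem_Ep hx ex)))
  · rcases r t it X.tn X.tc with ⟨x, hx, x1, ex, cx⟩ | ⟨a, b, l, f⟩
    exacts [X.case1 hx x1 (q ▸ ex) cx, X.f4 q f]
  obtain ⟨B, lB, k, r⟩ := r t it X.tn X.tc
  have b := X.big q lB k r
  have lL : cj h⁻¹ (𝐂 K ⊓ B) ≤ L := le_cj_iff.1 (inf_le_right.trans (lB.trans inf_le_left))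
  rw [← relIndex_cj h⁻¹, cj_cent, cj_inv_cj] at b
  have b' := b.trans_le (Nat.le_of_dvd (relIndex_pos _ _) (relIndex_dvd_left _ (cent_anti v.le)))
  obtain ⟨g, hg, ng⟩ := SetLike.not_le_iff_exists.1 fun j : cj h⁻¹ (𝐂 K ⊓ B) ≤ 𝐂 K => by
    rw [relIndex_eq_one.2 j] at b'; omega
  have kg := (k.inf_right.cj h⁻¹).elt hg
  obtain ⟨w, hw, nw, sw⟩ := exists_sq_mem kg ng
  have mw := mem_cj_inv.1 (zpowers_le.2 hg hw)
  have kw := kg.of_mem_zpowers hw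
  refine absurd (e.f5 q w (v.le (lL (zpowers_le.2 hg hw))) kw nw (pow_two w ▸ sw) _ (lL.trans v.le)
    (cent_symm (Ep_le.2 fun x hx ex => ?_))) (by omega)
  obtain ⟨u, hu, iu⟩ := ex_iv (kw.conj h) fun j => nw (conj_eq_one_iff.1 j ▸ one_mem _)
  have mu := zpowers_le.2 mw hu
  have := c.nk iu (c.term it hK e iu (lB mu.2).2 mu.1) e (x := h * x * h⁻¹)
    (cent_le_cent1 hu (by rw [cent_zpowers, ← cj_cent1]; exact conj_mem_cj.2 hx.2))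
    (by rw [conj_pow, ex]; simp)
  rw [← cj_cent, mem_cj_inv]
  exact cent_anti inf_le_left (cent_symm le_rfl this)

end CF.Q16
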