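-- copy of `Known.Q16.Gen` avoiding a name clash (`Comp.syl_inf`) with `Sig.S4D`
/-
Quasithin groups of even type: components of 2-central involutions are terminal.
-/
import Cfsg.Agent.NCq.Q16Exc
set_option autoImplicit false
set_option linter.unusedSectionVars false

namespace CF.Q16
open Subgroup Cfsg CF.BG CF.Sig CF.CT CF.CmpT CF.PG CF.Bender CF.SM
open CF.ZD (iv_pi)
open scoped commutatorElement

universe u
variable {G : Type u} [Group G] [Finite G]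
variable {A B D E H J K L M N P Q R S T U W Y : Subgroup G}
  {a b d e g h k l r s t u v w x y z : G} {p : ℕ} {F : Prop}

/-- the pump-up -/
def PJ (t : G) (L : Subgroup G) : Subgroup G := ⁅Lay (𝐂₁ t), L⁆

theorem cj_PJ (g t : G) (L : Subgroup G) : cj g (PJ t L) = PJ (g * t * g⁻¹) (cj g L) := by
  rw [PJ, cj_comm, cj_Lay, cj_cent1, PJ]

theorem PJ_comp (h : Comp L (𝐂₁ t)) : PJ t L = L :=
  le_antisymm (comm_le_right h.Lay_norm) (h.perfect.ge.trans (commutator_mono h.le_Lay le_rfl))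

theorem norm_PJ (a : g ∈ 𝐂₁ t) (b : g ∈ 𝐍 L) : g ∈ 𝐍 (PJ t L) := by
  rw [← cj_eq_self, cj_PJ, conj_fix (mem_cent1.1 a), cj_of_norm b]

theorem le_PJ (hD : Comp D (𝐂₁ t)) (l : D ≤ Lay (𝐂₁ w)) (m : L ≤ Lay (𝐂₁ t)) (n : ¬ L ≤ 𝐂 D) :
    D ≤ PJ w L :=
  ((hD.comm_eq_or (m.trans hD.Lay_norm)).resolve_right n).ge.trans (commutator_mono l le_rfl)

/-- a non-trivial pump-up -/
structure BP (t z : G) (L D : Subgroup G) : Prop extends PS t z L D where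
  c : Ctx G
  it : Iv t
  iz : Iv z
  tz : z ∈ 𝐂₁ t
  tL : t ∈ 𝐂 L
  hL : Comp L (𝐂₁ z)
  gen : VP D z L → GenK D

namespace BP
variable (X : BP t z L D)
include X

theorem nz : z ∈ 𝐍 (𝐂₁ t) := le_norm_self _ X.tz
theorem cD' : Comp (cj z D) (𝐂₁ t) := X.cD.cj_of_norm X.nz
theorem zL : z ∈ 𝐂 L := le_cent1_iff.1 X.hL.le
theorem nc' : ¬ L ≤ 𝐂 (cj z D) := fun q => X.nc (by rwa [← cj_of_cent X.zL, cj_cent_iff] at q)
theorem orb : orbJ (zpowers z) D = D ⊔ cj z D := orbJ_two (X.iz.pow2 ▸ one_mem _)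

theorem le : L ≤ D ⊔ cj z D := X.cs.elim (fun v => v.le.trans le_sup_left)
  fun ⟨_, _, g, r⟩ => r ▸ X.orb ▸ g.le.trans inf_le_left

theorem lay : D ⊔ cj z D ≤ Lay (𝐂₁ t) := sup_le X.cD.le_Lay X.cD'.le_Lay

theorem le_PJ (l : D ⊔ cj z D ≤ Lay (𝐂₁ w)) : D ⊔ cj z D ≤ PJ w L :=
  sup_le (Q16.le_PJ X.cD (le_sup_left.trans l) (X.le.trans X.lay) X.nc)
    (Q16.le_PJ X.cD' (le_sup_right.trans l) (X.le.trans X.lay) X.nc')

theorem eq : PJ t L = D ⊔ cj z D := le_antisymm (by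
  have := Lay_le_orbJ X.cD (zpowers_le.2 X.nz)
  rw [X.orb, sup_comm] at this
  refine (commutator_mono this le_rfl).trans ?_
  rw [comm_sup_cent (cent_anti X.le) (cent_le_norm _)]
  exact comm_le_left (norm_of_le X.le)) (X.le_PJ X.lay)

theorem leJ : L ≤ PJ t L := X.eq ▸ X.le
theorem tJ : t ∈ 𝐂 (PJ t L) := le_cent1_iff.1 (X.eq ▸ X.lay.trans (Lay_le _))
theorem cJ (a : w ∈ 𝐂 D) (b : w ∈ 𝐂₁ z) : w ∈ 𝐂 (PJ t L) := X.eq ▸ X.orb ▸ cent_orbJ D z ⟨a, b⟩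
theorem cDJ (a : w ∈ 𝐂 (PJ t L)) : w ∈ 𝐂 D := cent_anti (X.eq ▸ le_sup_left) a
theorem zJ : z ∉ 𝐂 (PJ t L) := fun q =>
  X.cs.elim (fun v => v.nc (X.cDJ q)) fun v => v.1 (cent_le_norm _ (X.cDJ q))

theorem ne : PJ t L ≠ L := fun e => X.zJ (e.symm ▸ X.zL)

theorem mono (i : Iv w) (a : w ∈ 𝐂₁ t) (b : w ∈ 𝐂 (PJ t L)) : PJ t L ≤ PJ w L := by
  have k : ∀ {E}, Comp E (𝐂₁ t) → E ≤ PJ t L → E ≤ Lay (𝐂₁ w) := fun h l =>
    (X.c.bal i X.it (mem_cent1_comm.1 a) (h.of_le (le_inf (le_cent1_iff.2 (cent_anti l b)) h.le)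
      inf_le_right)).le.trans inf_le_left
  rw [X.eq]
  exact X.le_PJ (sup_le (k X.cD (X.eq ▸ le_sup_left)) (k X.cD' (X.eq ▸ le_sup_right)))

theorem j3 (k : PiElt {2} w) (a : w ∈ 𝐂₁ t) (b : w ∈ 𝐂₁ z) (c : w ∈ 𝐂 L) :
    w ∈ 𝐂 (PJ t L) ∨ w * z ∈ 𝐂 (PJ t L) := by
  have bz := mul_mem b (self_mem_cent1 z)
  rcases X.cs with v | ⟨n, ν, g, r⟩
  · refine ((X.gen v).n3 v k (by_contra fun n => X.nc ?_) b c).imp (X.cJ · b) (X.cJ · bz)
    rw [← cj_of_cent c]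
    exact (cj_mono w v.le).trans (cjc X.cD a n)
  have q : ∀ {x}, x ∈ 𝐍 D → x ∈ 𝐂 L → x ∈ 𝐂 D := fun a b =>
    zpowers_le.1 (g.cent_of_norm X.cD (zpowers_le.2 a) (zpowers_le.2 (r ▸ b)))
  obtain ⟨s, hs, e⟩ := g.cj_eq X.cD X.nz (le_norm_self _ a) (r ▸ cent_le_norm _ c)
  rcases mem_zp2 X.iz.pow2 hs with rfl | rfl
  · exact .inl (X.cJ (q (cj_eq_self.1 (by simpa using e)) c) b)
  · refine .inr (X.cJ (q (cj_eq_self.1 ?_) (mul_mem c X.zL)) bz)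
    rw [mem_cent1.1 b, ← cj_cj, e, cj_cj, X.iz.sq, cj_one]

theorem dgc (n : z ∉ 𝐍 D) (a : w ∈ D) (b : w ∈ 𝐂₁ z) : w ∈ 𝐂 D := by
  refine cjc X.cD X.tz n ?_
  rw [← conj_fix (mem_cent1.1 b).symm]
  exact conj_mem_cj.2 a

theorem j4 (hQ : Syl 2 Q (𝐂₁ t)) (m : z ∈ Q) : ¬ I2 (𝐂₁ z) Q := fun i => by
  have hU := X.cD.syl_inf2 hQ
  rcases X.cs with v | ⟨n, -⟩
  · exact (X.gen v).n2 v hU (zpowers_le.1 (norm_inf (zpowers_le.2 (le_norm_self _ m))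
      (zpowers_le.2 v.nm))) (i.mono le_rfl inf_le_left)
  · exact no_i2 X.cD.perfect (X.c.four X.it X.cD) hU
      ((i.mono le_rfl inf_le_left).inf.mono (fun _ a => X.dgc n a.2.2 a.1) le_rfl)

/-- the final contradiction from a large normal cyclic subgroup -/
theorem fin (hQ : Syl 2 Q (𝐂₁ t)) (m : z ∈ Q) (c : Cyc Y) (n : Y ⊴ Q)
    (l : ♯Q ≤ ♯(𝐂₁ z ⊓ Q) * ♯Y) (q : ∀ s ∈ Y, Iv s → s ∉ 𝐂 (PJ t L)) : False := by
  obtain ⟨y, rfl⟩ := c.exists_gen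
  have yQ := n.le (mem_zpowers y)
  have hU := X.cD.syl_inf2 hQ
  have f := X.c.four X.it X.cD
  have nD := nc_norm X.cD f hQ yQ n.norm
  have k := hQ.pi.elt yQ
  obtain ⟨j, hj⟩ := PiNat.exists_pow k (orderOf_pos _).ne'
  rw [Nat.card_zpowers] at l
  by_cases j2 : j ≤ 1
  · refine X.j4 hQ m ((i2_of_card inf_le_right (l.trans ?_)).mono inf_le_left le_rfl)
    rw [mul_comm, hj]
    exact Nat.mul_le_mul_right _ (Nat.pow_le_pow_right (by norm_num) j2)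
  have zc : ∀ s ∈ zpowers y, Iv s → s ∈ 𝐂₁ z := fun s hs i => mem_cent1.2 (by
    have := Cyc.iv_eq c (n.conj_mem m hs) hs (i.conj z) i
    conv_lhs => rw [← this]
    group)
  rcases X.cs with v | ⟨nz, -⟩
  · obtain ⟨j, rfl⟩ : ∃ i, j = i + 2 := ⟨j - 2, by omega⟩
    have m0 : y ^ 2 ^ j ∈ zpowers y := pow_mem (mem_zpowers y) _
    have e4 : (y ^ 2 ^ j) ^ 4 = 1 := by
      rw [← pow_mul, ← pow_orderOf_eq_one y, hj, pow_add]; rfl
    have i : Iv ((y ^ 2 ^ j) ^ 2) := ⟨fun e => by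
      have := Nat.le_of_dvd (by positivity) (hj ▸ orderOf_dvd_of_pow_eq_one (pow_mul y _ 2 ▸ e))
      rw [pow_add] at this
      have := Nat.pos_of_ne_zero (pow_ne_zero j two_ne_zero)
      omega, by rw [← pow_add, e4]⟩
    exact q _ (pow_mem m0 2) i (X.cJ ((X.gen v).n1 v hU (pow_mem nD _)
      (zpowers_le.1 (norm_inf (zpowers_le.2 (le_norm_self _ (n.le m0))) (zpowers_le.2 (pow_mem nD _))))
      (inf_le_left.trans (c.le_norm (zpowers_le.2 m0) n.norm)) e4) (zc _ (pow_mem m0 2) i))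
  have b : ∀ {A}, (∀ s ∈ A, s ∈ 𝐂₁ z → s ∈ 𝐂 D) → zpowers y ⊓ A = ⊥ := fun h =>
    eq_bot_iff.2 fun x hx => by_contra fun x1 => by
      obtain ⟨s, hs, i⟩ := ex_iv (k.of_mem_zpowers hx.1) x1
      have ms := zpowers_le.2 hx hs
      exact q s ms.1 i (X.cJ (h s ms.2 (zc s ms.1 i)) (zc s ms.1 i))
  refine zi X.cD f hU nD (zpowers_le.1 (cent_of_inf_eq_bot (norm_inf (n.le.trans (le_norm_self _))
    (zpowers_le.2 nD)) (inf_le_left.trans n.norm) (b fun s a => X.dgc nz a.2))) k (b fun _ a _ => a) ?_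
  rw [← card_inf_mul_relIndex (𝐂₁ z) Q] at l
  refine le_trans ?_ (Nat.le_of_mul_le_mul_left l (card_pos' _))
  refine le_trans ?_ (relIndex_le_of_le_right (inf_le_left : Q ⊓ D ≤ Q) (relIndex_ne_zero' _ _))
  rw [← inf_relIndex_right (𝐂₁ z)]
  exact Nat.le_of_dvd (relIndex_pos _ _) (relIndex_dvd_left _ fun _ a => X.dgc nz a.2.2 a.1)

end BP

/-- a cyclic subgroup of index two in a 2-group with a small centralizer -/
theorem ex_cyc (k : PiGrp {2} S) (iz : Iv z) (it : Iv t) (n : t ≠ z) (hz : z ∈ S) (cz : z ∈ 𝐂 S)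
    (ht : t ∈ S) (c : ∀ x ∈ S, x ∈ 𝐂₁ t → x ∈ zpowers z ∨ t * x ∈ zpowers z) :
    ∃ a ∈ S, I2 (zpowers a) S ∧ z ∈ zpowers a ∧ t ∉ zpowers a ∧
      𝐍 S ⊓ 𝐂₁ z ≤ 𝐍 (zpowers a) := by
  have i0 : I2 (zpowers z) (S ⊓ 𝐂₁ t) := i2_of_cov (c := t) ⟨ht, self_mem_cent1 t⟩ fun x hx =>
    (c x hx.1 hx.2).symm.imp_left fun q => (mem_cent1.1 hx.2).symm ▸ q
  by_cases ab : Abel S
  · refine ⟨z, hz, i0.mono le_rfl (le_inf le_rfl (le_cent1_iff.2 (ab ht))), mem_zpowers z,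
      fun q => (mem_zp2 iz.pow2 q).elim it.ne n, inf_le_right.trans (cent_zpowers z ▸ cent_le_norm _)⟩
  obtain ⟨a, ha, -, -, i, -⟩ := maxc k ht (i0.card.trans (by
    have := (card_le (inf_le_left : zpowers z ⊓ (S ⊓ 𝐂₁ t) ≤ _)).trans iz.card.le
    omega)) ab
  have cen : ∀ x ∈ S, x ∈ 𝐂₁ a → x ∉ zpowers a → False := fun x hx cx nx => by
    have l : S ≤ zpowers a ⊔ zpowers x := fun y hy => by_contra fun m => m (by
      simpa using mul_mem (mem_sup_left (i.mul_inv hy hx (fun j => m (mem_sup_left j)) nx))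
        (mem_sup_right (S := zpowers a) (mem_zpowers x)))
    exact ab (((abel_zpowers a).sup (abel_zpowers x) (cent_symm (cent_zpowers a ▸ zpowers_le.2 cx))).mono l)
  have za : z ∈ zpowers a := by_contra (cen z hz (cent_le_cent1 ha cz))
  have ta : t ∉ zpowers a := fun q => n (Cyc.iv_eq (cyc_zpowers a) q za it iz)
  refine ⟨a, ha, i, za, ta, fun g hg => mem_norm_of_cj_le ?_⟩
  rw [cj_zpowers, zpowers_le]
  by_contra nb
  have hb := conj_mem_of_norm hg.1 ha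
  set b := g * a * g⁻¹ with hb'
  have m := i.inv_mul ht hb ta nb
  have b2 := i.sq hb
  have e : b * b ∈ zpowers z := by
    have cb : b * b ∈ 𝐂₁ t := by
      rw [mem_cent1_comm, show t = b * (t⁻¹ * b)⁻¹ by group]
      exact mul_mem (mem_cent1.2 (mul_assoc _ _ _).symm)
        (inv_mem (mem_cent1.2 ((abel_zpowers a).mul_comm m b2)))
    exact (c _ (mul_mem hb hb) cb).resolve_right fun q =>
      ta ((mul_mem_cancel_right b2).1 (zpowers_le.2 za q))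
  have a2 : a * a = z := by
    have : a * a = g⁻¹ * (b * b) * g := by rw [hb']; group
    rcases mem_zp2 iz.pow2 e with q | q
    · rw [q] at this
      have q : z = a := (mem_zp2 (by simpa [pow_two] using this) za).resolve_left iz.ne
      exact (cen t ht (mem_cent1.2 (q ▸ mem_cent.1 cz t ht)) ta).elim
    · rw [this, q, mul_assoc, ← mem_cent1.1 hg.2, inv_mul_cancel_left]
  have inv : t * a * t⁻¹ = a⁻¹ := by
    rcases zp4 iz a2 (i.conj ht ha (mem_zpowers a)) (by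
      rw [conj_mul, a2, conj_fix (mem_cent.1 cz t ht)]) with q | q
    · exact (cen t ht (mem_cent1.2 (by conv_rhs => rw [← q]
                                       group)) ta).elim
    · rw [q, eq_inv_iff_mul_eq_one, mul_assoc, ← mem_cent.1 cz a ha, ← mul_assoc, a2, iz.sq]
  obtain ⟨j, hj⟩ := m
  have bb : b * b = z := by rw [hb', conj_mul, a2, conj_fix (mem_cent1.1 hg.2)]
  refine iz.ne ?_
  rw [← bb, show b = t * a ^ j by simp only at hj; rw [hj]; group,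
    show t * a ^ j * (t * a ^ j) = t * a ^ j * t⁻¹ * (t * t) * a ^ j by group, it.sq, ← conj_zpow, inv]
  group

end CF.Q16
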