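-- copy of `Known.Q16.Lie1` avoiding a name clash (`Comp.syl_inf`) with `Sig.S4D`
/-
Quasithin groups of even type: coordinates in the unipotent subgroup of a group of Lie type.
-/
import Cfsg.Agent.NCq.Q16Lab
import Cfsg.Agent.Chev.Coord
import Cfsg.Agent.KG.Fld7
import Cfsg.Agent.BN.TwMaxD4
set_option autoImplicit false
set_option linter.unusedSectionVars false

namespace CF.Q16
open Subgroup Cfsg CF.Chev CF.BN CF.Chev.StRep

variable {B ι : Type} [Fintype B] [DecidableEq B] [Fintype ι] [DecidableEq ι]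
  {C : ChevBasis B ι} {K : Type*} [Field K] {G : Type*} [Group G] {ρ : StRep C K G}
  {r s c d : ι} {t a b : K} {u u' v v' x y z : G} {k : ℤ} {W : Subgroup G}

variable (ρ) in
/-- the leading coordinate -/
def Ld (r : ι) (t : K) (v : G) : Prop := (ρ.x r t)⁻¹ * v ∈ ρ.U (C.nbl r)
/-- commutator -/
def cm (u v : G) : G := u⁻¹ * v⁻¹ * u * v
variable (ρ) in
/-- height filtration -/
abbrev Fl (k : ℤ) : Subgroup G := ρ.U {r | k ≤ hgt C r}

theorem ld_zero : Ld ρ r 0 v ↔ v ∈ ρ.U (C.nbl r) := by simp [Ld]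
theorem ld_x : Ld ρ r t (ρ.x r t) := by simp [Ld]
theorem ld_x' (h : s ∈ C.nbl r) : Ld ρ r 0 (ρ.x s t) := ld_zero.2 (ρ.x_mem_U h t)
theorem Ld.mul (hr : C.Pos r) (h : Ld ρ r a v) (h' : Ld ρ r b v') : Ld ρ r (a + b) (v * v') := by
  simpa [Ld, ρ.x_add, mul_assoc] using mul_mem (conj_lo (ρ.x_mem_Bo hr b) h) h'
theorem Ld.up (hr : C.Pos r) (h : Ld ρ r t v) : v ∈ ρ.Up := by
  simpa using mul_mem (ρ.x_mem_U (S := {r | C.Pos r}) hr t) (ρ.U_mono (fun _ h => h.1) h)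
theorem Ld.eq (hρ : ρ.Faithful) (h : Ld ρ r a v) (h' : Ld ρ r b v) : a = b := coord_unique hρ h h'
theorem Ld.conj (hr : C.Pos r) (hu : u ∈ ρ.Up) (h : Ld ρ r t v) : Ld ρ r t (u⁻¹ * v * u) := by
  have := comm_lo (c := r) (S := {r}) (T := {a | C.Pos a}) (fun _ e => e ▸ hr) (fun _ h => h)
    (fun b hb c' e e' => C.vec_ne_zero b (le_antisymm
      (by rwa [show c' = r from e, add_le_iff_nonpos_left] at e') hb))
    (ρ.x_mem_U (Set.mem_singleton r) t) hu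
  simpa [Ld, mul_assoc] using mul_mem this (conj_lo (ρ.Up_le_Bo hu) h)
theorem ld_Bo (hr : C.Pos r) (hx : x ∈ ρ.Bo) :
    ∃ e : Kˣ, ∀ t v, Ld ρ r t v → Ld ρ r (e * t) (x * v * x⁻¹) := by
  obtain ⟨u, hu, h, hh, rfl⟩ := mem_Bo.1 hx
  obtain ⟨χ, -, e, -⟩ := exists_actsT_of_mem_H hh
  refine ⟨χ.ev (C.vec r), fun t v q => ?_⟩
  have : Ld ρ r (χ.ev (C.vec r) * t) (h * v * h⁻¹) := by
    rw [Ld, ← e]; simpa [mul_assoc] using H_conj_mem_U hh q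
  simpa [mul_assoc] using this.conj hr (inv_mem hu)
theorem Ld.cm (hr : C.Pos r) (hs : C.Pos s) (e : C.vec c = C.vec s + C.vec r) (h : Ld ρ r t v) (a : K) :
    Ld ρ c (C.N r s * (-t) * a) (cm (ρ.x s a) v) := coord_comm hr hs e h a
theorem ld_cm0 (hs : C.Pos s) (hk : 0 < k) (hv : v ∈ Fl ρ k)
    (h : ∀ b, k ≤ hgt C b → ¬ C.vec b + C.vec s ≤ C.vec c) : Ld ρ c 0 (cm (ρ.x s a) v) :=
  ld_zero.2 (comm_lo (S := {s}) (fun _ e => e ▸ hs) (fun b h => (upC_le hk b h).1)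
    (fun b hb _ e => e ▸ h b hb) (ρ.x_mem_U (Set.mem_singleton s) a) hv)
theorem Ld.cm_mul (hc : C.Pos c) (hu : u' ∈ ρ.Up) (h : Ld ρ c a (Q16.cm u v)) (h' : Ld ρ c b (Q16.cm u' v)) :
    Ld ρ c (a + b) (Q16.cm (u * u') v) := by
  simpa [Q16.cm, mul_assoc] using (h.conj hc hu).mul hc h'

theorem eq_of_le (h : C.vec s ≤ C.vec r) (e : hgt C r ≤ hgt C s) : s = r :=
  C.vec_inj (funext fun i => (Finset.sum_eq_sum_iff_of_le fun j _ => h j).1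
    (le_antisymm (Finset.sum_le_sum fun j _ => h j) e) i (Finset.mem_univ i))

theorem ex_ld (hr : C.Pos r) (e : hgt C r = k) (hv : v ∈ Fl ρ k) : ∃ t, Ld ρ r t v := by
  refine ρ.U_induction (p := fun v => ∃ t, Ld ρ r t v) ⟨0, ld_zero.2 (one_mem _)⟩
    (fun g s t _ hs ⟨a, h⟩ => ?_) hv
  by_cases q : s = r
  · exact ⟨_, h.mul hr (b := t) (q ▸ ld_x)⟩
  · exact ⟨_, h.mul hr (ld_x' ⟨(upC_le (e ▸ pos_iff_hgt.1 hr) s hs).1, fun l => q (eq_of_le l (e ▸ hs))⟩)⟩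

theorem fl_one : Fl ρ 1 = ρ.Up := congrArg ρ.U (Set.ext fun _ => pos_iff_hgt.symm)

theorem fl_cm (hu : u ∈ Fl ρ 1) (hv : v ∈ Fl ρ 1) : cm u v ∈ Fl ρ (1 + 1) :=
  ρ.U_mono (fun _ h => h.2) (ρ.commutator_level (φ := RootSys.ht) C.closed_pos (fun _ h => h.ht_pos)
    (ρ.U_mono (fun _ h => And.intro (pos_iff_hgt.2 h) h) hu)
    (ρ.U_mono (fun _ h => And.intro (pos_iff_hgt.2 h) h) hv))

theorem mem_fl (hρ : ρ.Faithful) (hv : v ∈ ρ.Up)
    (h : ∀ r, C.Pos r → hgt C r < k → v ∈ Fl ρ (hgt C r) → Ld ρ r 0 v) : v ∈ Fl ρ k := by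
  refine up_induction (C := C) (π := 1) (p := fun S => v ∈ ρ.U S → v ∈ Fl ρ k)
    (fun _ => rfl) (fun _ => Or.inl rfl) (fun e => ρ.U_mono (Set.empty_subset _) e)
    (fun S hS _ r hr hm _ ih e => ?_) hv
  by_cases hk : k ≤ hgt C r
  · exact ρ.U_mono (fun s hs => hk.trans (hm s hs)) e
  refine ih (ρ.U_mono (fun s q => And.intro q.1 ?_) ((hρ.U_inf_U hS.closed (ρ.bst_lo r).closed
    (C.isNil_pos.mono fun a q => q.elim (fun q => (hS a q).1) fun q => q.1)).le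
      ⟨e, ld_zero.1 (h r (hS r hr).1 (not_le.1 hk) (ρ.U_mono hm e))⟩))
  simpa using fun e : s = r => C.notMem_lo r (e ▸ q.2)

variable (W) in
/-- an element with a small class -/
structure HB (y z : G) : Prop where
  c : ∀ u ∈ W, cm u z = 1
  h : ∀ u ∈ W, cm u y = 1 ∨ cm u y = z

theorem HB.self (h : HB W y z) : HB W z 1 := ⟨fun _ _ => by simp [cm], fun u a => .inl (h.c u a)⟩

theorem HB.cen (h : HB W y z) (hρ : ρ.Faithful) (hu : u ∈ W) (l : Ld ρ c a (cm u y)) (n : a ≠ 0) :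
    cm u y = z := (h.h u hu).resolve_left fun e => n (l.eq hρ (e ▸ ld_zero.2 (one_mem _)))

theorem HB.two (h : HB W y z) (hρ : ρ.Faithful) (hu : u ∈ W) (hu' : u' ∈ W) (l : Ld ρ c a (cm u y))
    (l' : Ld ρ c b (cm u' y)) (n : a ≠ 0) (n' : b ≠ 0) : a = b :=
  l.eq hρ (h.cen hρ hu l n ▸ h.cen hρ hu' l' n' ▸ l')

theorem sq_fl [CharP K 2] (hk : 0 < k) (h : ∀ r s, k ≤ hgt C r → k ≤ hgt C s → ∀ t u, Commute (ρ.x r t) (ρ.x s u))
    (hv : v ∈ Fl ρ k) : v ^ 2 = 1 := by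
  refine ρ.U_induction (p := fun v => v ^ 2 = 1) (one_pow 2) (fun g s t a hs q => ?_) hv
  have : Commute g (ρ.x s t) := ρ.U_induction (p := fun v => Commute v (ρ.x s t)) (.one_left _)
    (fun _ r _ _ hr q => q.mul_left (h r s hr hs _ _)) a
  rw [this.mul_pow, q, one_mul, pow_two, ← ρ.x_add, CharTwo.add_self_eq_zero, ρ.x_zero]

theorem comm_hgt (hk : 0 < k) (h : ∀ r, hgt C r < 2 * k) (r s : ι) (a : k ≤ hgt C r) (b : k ≤ hgt C s)
    (t u : K) : Commute (ρ.x r t) (ρ.x s u) :=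
  ρ.commute_of_none ((upC_le hk r a).1.ne_neg (upC_le hk s b).1) (fun v e => by
    have := h v
    have : hgt C v = hgt C s + hgt C r := by simp [hgt, e]
    omega) t u

/-- the untwisted case -/
theorem HB.fl (hρ : ρ.Faithful) (h : HB ρ.Up y z) (hy : y ∈ ρ.Up) (e : ∀ r, C.Pos r → hgt C r < k →
    ∃ c, Step C K r c ∧ ((∃ l : K, l ≠ 0 ∧ l ≠ 1) ∨ ∃ d, Step C K c d)) : y ∈ Fl ρ k := by
  refine mem_fl hρ hy fun r hr a b => ?_
  obtain ⟨t, l⟩ := ex_ld hr rfl b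
  obtain ⟨c, ⟨-, s, hs, e, n⟩, q⟩ := e r hr a
  by_contra m
  have t0 : -t ≠ 0 := neg_ne_zero.2 fun e => m (e ▸ l)
  have k := fun a => l.cm hr hs e a
  have n1 := mul_ne_zero (mul_ne_zero n t0) one_ne_zero
  rcases q with ⟨j, j0, j1⟩ | ⟨d, hc, s', hs', e', n'⟩
  · exact j1 (mul_left_cancel₀ (mul_ne_zero n t0) (h.two hρ (ρ.x_mem_U hs _) (ρ.x_mem_U hs _) (k j) (k 1)
      (mul_ne_zero (mul_ne_zero n t0) j0) n1))
  · have := (k 1).cm hc hs' e' 1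
    rw [h.cen hρ (ρ.x_mem_U hs _) (k 1) n1, h.c _ (ρ.x_mem_U hs' _)] at this
    exact mul_ne_zero (mul_ne_zero n' (neg_ne_zero.2 n1)) one_ne_zero (this.eq hρ (ld_zero.2 (one_mem _)))

end CF.Q16
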