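-- copy of `Known.Q16.Lie3` avoiding a name clash (`Comp.syl_inf`) with `Sig.S4D`
/-
Quasithin groups of even type: the action of 2-elements on the unipotent subgroup.
-/
import Cfsg.Agent.NCq.Q16Lie2
set_option autoImplicit false
set_option linter.unusedSectionVars false

namespace CF.Q16
open Subgroup Cfsg CF.BG CF.Chev CF.BN CF.Chev.StRep CF.KG
open CF.CT (p2)

variable {B ι : Type} [Fintype B] [DecidableEq B] [Fintype ι] [DecidableEq ι]
  {C : ChevBasis B ι} {K : Type*} [Field K] {G : Type*} [Group G] {ρ : StRep C K G}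
  {T : Tw ρ} {G1 : Subgroup G} {ω : ι → ℝ} {y w : MulAut G1} {θ η : MulAut G} {π π' : Equiv.Perm B}
  {a a' : B → Kˣ} {f f' : B → K ≃+* K} {P : Equiv.Perm B → Prop} {υ τ : RingAut K} {i j : B} {r s c δ : ι}

theorem pe2 {H : Type*} [Group H] {x : H} (h : x * x = 1) : PiElt {2} x :=
  piElt_of_pow_eq_one p2 ((pow_two x).trans h)

theorem sq_mul {H : Type*} [Group H] {x z : H} (a : x * x = 1) (b : z * z = 1) (c : z * x = x * z) :
    x * z * (x * z) = 1 := by rw [mul_assoc, ← mul_assoc z, c, mul_assoc, b, mul_one, a]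

theorem nbl_simple (h : i ≠ j) : C.simple i ∈ C.nbl (C.simple j) :=
  C.lo_simple j ▸ ⟨C.pos_simple i, C.simple_injective.ne h⟩

theorem ld_cm1 {v : G} {t : K} (hv : v ∈ ρ.Up) (h : c = C.simple i ∨ C.vec c i = 0) :
    Ld ρ c 0 (cm (ρ.x (C.simple i) t) v) :=
  ld_cm0 (C.pos_simple i) one_pos (fl_one.ge hv) fun b hb e => by
    have hb := pos_iff_hgt.2 hb
    rcases h with rfl | h
    · exact C.vec_ne_zero b (le_antisymm (by simpa using e) hb)
    · have := e i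
      have := hb i
      simp_all [C.vec_simple]
      omega

theorem ld_top (h : C.Top δ) {t : K} {v : G} : Ld ρ δ t v ↔ v = ρ.x δ t := by
  rw [Ld, h.lo, ρ.U_empty, mem_bot, inv_mul_eq_one, eq_comm]

namespace LM
section
variable (M : LM T G1 ω P)
include M

theorem fa : ρ.Faithful := M.adj.faithful

theorem a1 (h : ∀ t, Crd ρ G1 i t) (c : 4 < Nat.card K) (k : PiElt {2} y) (r : Rp ρ y θ) (s : ρ.Std θ 1 a f)
    (q : ∀ a b : G1, a.1 ∈ ρ.Up → b.1 ∈ ρ.Up → y a = a ∨ y b = b ∨ y (a * b) = a * b) : y ∈ Inn G1 := by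
  have := M.lt.fin; have := M.lt.char
  obtain ⟨e, l⟩ := r.ld M.fa s i
  refine M.key1 r s (i := i) (eq_one_of_three (e := e) c fun t u => ?_) k
  obtain ⟨g, a⟩ := ld_crd (h t)
  obtain ⟨g', b⟩ := ld_crd (h u)
  have p := C.pos_simple i
  have m : ∀ {t g}, Ld ρ (C.simple i) t g.1 → y g = g → e * f i t = t := fun a q => (q ▸ l _ _ a :).eq M.fa a
  exact (q g g' (a.up p) (b.up p)).imp (m a) (.imp (m b) (m (a.mul p b)))

theorem c1 (h : C.Top δ) (h1 : ρ.x δ 1 ∈ G1) (h6 : ∀ υ : RingAut K, (∀ t, ρ.x δ t ∈ G1 → υ t = t) → υ ^ 6 = 1)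
    (k : PiElt {2} y) (r : Rp ρ y θ) (s : ρ.Std θ 1 a f) (q : ∀ e : G1, e.1 ∈ ρ.Up →
      (∀ u ∈ ρ.Up, Commute e.1 u) → e.1 ^ 2 = 1 → y e = e) : y ^ 2 ∈ Inn G1 := by
  have := M.lt.char
  have s := M.sf s (Classical.choice M.lt.ne)
  obtain ⟨e, l⟩ := r.ld1 M.adj s h.pos
  have m := fun t (m : ρ.x δ t ∈ G1) => (q ⟨_, m⟩ (ρ.x_mem_U h.pos t) (fun u a => commute_top h a t)
    (by rw [pow_two, ← ρ.x_add, CharTwo.add_self_eq_zero, ρ.x_zero]) ▸ l t ⟨_, m⟩ ld_x :).eq M.fa ld_x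
  have e1 := m 1 h1
  rw [map_one, mul_one] at e1
  obtain ⟨b, s2⟩ := std_pow M.adj s 2
  exact M.key (r.pow M.adj 2) s2 ((pow_mul _ 2 3).symm.trans (h6 _ fun t a => by simpa [e1] using m t a)) (k.pow 2)

theorem d0 (r : Rp ρ y θ) (s : ρ.Std θ π a fun _ => υ) (r' : Rp ρ w η) (s' : ρ.Std η π' a' fun _ => τ)
    (a : y * y = 1) (b : w * w = 1) (c : w * y = y * w) (p : π * π' = 1) (e : υ * τ = 1) : y * w ∈ Inn G1 :=
  M.key1 (r.mul M.adj r') (p ▸ s.mul s' :) (i := Classical.choice M.lt.ne) e (pe2 (sq_mul a b c))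

theorem d1 (h : ∀ t, Crd ρ G1 i t) (a1 : y * y = 1) (a2 : w * w = 1) (c : w * y = y * w) (r : Rp ρ y θ)
    (s : ρ.Std θ 1 a f) (r' : Rp ρ w η) (s' : ρ.Std η 1 a' f') (n : y ∉ Inn G1) (n' : w ∉ Inn G1) :
    y * w ∈ Inn G1 := by
  have := M.lt.fin
  have k : ∀ {y : MulAut G1} {θ a f}, y * y = 1 → Rp ρ y θ → ρ.Std θ 1 a f → (f i : RingAut K) ^ 2 = 1 :=
    fun q r s => by
      obtain ⟨e, l⟩ := (r.mul M.adj r).ld M.fa ((M.sf s i).mul (M.sf s i)) i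
      refine (pow_two _).trans (eq_one_of_sl (e := e) fun t => ?_)
      obtain ⟨g, a⟩ := ld_crd (h t)
      exact (q ▸ l t g a :).eq M.fa a
  exact M.d0 r (M.sf s i) r' (M.sf s' i) a1 a2 c rfl (by
    rw [← eq_of_sq (k a1 r s) (k a2 r' s') (fun e => n (M.key1 r s e (pe2 a1)))
      fun e => n' (M.key1 r' s' e (pe2 a2)), ← pow_two, k a1 r s])

theorem c3 (r : Rp ρ y θ) (s : ρ.Std θ π a f) (k : PiElt {2} y) (p : π * π = 1) (e : ∀ i, f i = .refl K) :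
    y ^ 2 ∈ Inn G1 :=
  M.key1 (pow_two y ▸ r.mul M.adj r) (p ▸ s.mul s :) (i := Classical.choice M.lt.ne) (by rw [e, e]; rfl) (k.pow 2)
end

variable {y w : MulAut (⊤ : Subgroup G)} (M : LM T ⊤ ω P)
include M

theorem mv (r : Rp ρ y θ) (s : ρ.Std θ π a f) {t : K} {g : (⊤ : Subgroup G)} (h : Ld ρ (C.simple i) t g.1)
    (h' : Ld ρ (C.simple (π i)) 0 g.1) (n : t ≠ 0) : y g ≠ g := fun q => by
  obtain ⟨e, l⟩ := r.ld M.fa s i
  simpa [n] using (q ▸ l t g h :).eq M.fa h'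

theorem a2 [Nontrivial B] (h : ∃ l : K, l ≠ 0 ∧ l ≠ 1) (k : PiElt {2} y) (r : Rp ρ y θ) (s : ρ.Std θ π a f)
    (q : ∀ a b : (⊤ : Subgroup G), a.1 ∈ ρ.Up → b.1 ∈ ρ.Up → y a = a ∨ y b = b ∨ y (a * b) = a * b) :
    y ∈ Inn (⊤ : Subgroup G) := by
  have := M.lt.char
  have p := C.pos_simple
  have q := fun i j t u => q ⟨ρ.x (C.simple i) t, trivial⟩ ⟨ρ.x (C.simple j) u, trivial⟩
    (ρ.x_mem_U (p i) t) (ρ.x_mem_U (p j) u)
  by_cases e : π = 1
  · subst e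
    obtain ⟨i, j, n⟩ := exists_pair_ne B
    have s := M.sf s i
    by_contra m
    have m : f i ≠ 1 := fun e => m (M.key1 r s (i := i) e k)
    obtain ⟨e, l⟩ := r.ld M.fa s i
    obtain ⟨e', l'⟩ := r.ld M.fa s j
    obtain ⟨t, a⟩ := not_forall.1 (mt (eq_one_of_sl (e := e)) m)
    obtain ⟨u, b⟩ := not_forall.1 (mt (eq_one_of_sl (e := e')) m)
    have z := add_zero t ▸ (ld_x (ρ := ρ) (t := t)).mul (p i) (ld_x' (t := u) (nbl_simple n.symm))
    rcases q i j t u with q | q | q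
    exacts [a ((q ▸ l t _ ld_x :).eq M.fa ld_x), b ((q ▸ l' u _ ld_x :).eq M.fa ld_x),
      a ((q ▸ l t _ z :).eq M.fa z)]
  obtain ⟨i, n⟩ := not_forall.1 (mt Equiv.ext e)
  obtain ⟨l, l0, l1⟩ := h
  have z := fun t => ld_x' (ρ := ρ) (t := t) (nbl_simple (Ne.symm n))
  rcases q i i l 1 with q | q | q
  exacts [absurd q (M.mv r s ld_x (z _) l0), absurd q (M.mv r s ld_x (z _) one_ne_zero), absurd q
    (M.mv r s (ld_x.mul (p i) ld_x) (add_zero (0 : K) ▸ (z _).mul (p _) (z _)) (mt CharTwo.add_eq_zero.1 l1))]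

theorem a3 (r : Rp ρ y θ) (s : ρ.Std θ π a f) (n : π i ≠ i) (n' : π j ≠ i)
    (e : C.vec c = C.vec (C.simple (π i)) + C.vec (C.simple (π j)))
    (N : (C.N (C.simple (π j)) (C.simple (π i)) : K) ≠ 0)
    (q : ∀ a b : (⊤ : Subgroup G), a.1 ∈ ρ.Up → b.1 ∈ ρ.Up → y a = a ∨ y b = b ∨ y (a * b) = a * b) :
    False := by
  have p := C.pos_simple
  have u := ρ.x_mem_U (S := {r | C.Pos r}) (p j) 1
  have z := ld_x' (ρ := ρ) (t := 1) (nbl_simple n.symm)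
  have b := ld_cm1 (i := i) (t := 1) u (.inl rfl)
  rcases q ⟨ρ.x (C.simple i) 1, trivial⟩ ⟨_, trivial⟩ (ρ.x_mem_U (p i) 1) (b.up (p i)) with q | q | q
  · exact M.mv r s ld_x z one_ne_zero q
  · obtain ⟨d, l⟩ := r.bo ((add_nonneg (p _) (p _)).trans e.ge)
    have := l _ ⟨cm (ρ.x (C.simple i) 1) (ρ.x (C.simple j) 1), trivial⟩ (by
      simpa [cm, s.pos] using (ld_x (t := (a j : K))).cm (p _) (p _) e (a i))
    simpa [N] using (q ▸ this :).eq M.fa (ld_cm1 u (.inr (by simp [e, C.vec_simple, n.symm, n'.symm])))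
  · exact M.mv r s (ld_x.mul (p i) b) (add_zero (0 : K) ▸ z.mul (p _) (ld_cm1 u (.inr (by
      simp [C.vec_simple, n.symm])))) (by simp) q

end LM

variable (C K i j c) in
/-- rank two -/
structure R2 : Prop where
  ne : i ≠ j
  all : ∀ k, k = i ∨ k = j
  add : C.vec c = C.vec (C.simple j) + C.vec (C.simple i)
  N : (C.N (C.simple i) (C.simple j) : K) = 1

namespace R2
variable [CharP K 2] (R : R2 C K i j c) {y w : MulAut (⊤ : Subgroup G)}
include R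
theorem symm : R2 C K j i c := ⟨R.ne.symm, fun k => (R.all k).symm, R.add.trans (add_comm _ _), by
  rw [C.N_anti R.add, Int.cast_neg, R.N, CharTwo.neg_eq]⟩
theorem pos : C.Pos c := (add_nonneg (C.pos_simple _) (C.pos_simple _)).trans R.add.ge
theorem ld (t u : K) : Ld ρ c (t * u) (cm (ρ.x (C.simple j) u) (ρ.x (C.simple i) t)) := by
  simpa [R.N, CharTwo.neg_eq] using (ld_x (t := t)).cm (C.pos_simple _) (C.pos_simple _) R.add u
theorem perm (π : Equiv.Perm B) : π = 1 ∨ π i = j ∧ π j = i := by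
  rcases R.all (π i) with a | a <;> rcases R.all (π j) with b | b
  · exact absurd (π.injective (a.trans b.symm)) R.ne
  · exact .inl (Equiv.ext fun k => by rcases R.all k with rfl | rfl <;> assumption)
  · exact .inr ⟨a, b⟩
  · exact absurd (π.injective (a.trans b.symm)) R.ne
theorem mul (a : π ≠ 1) (b : π' ≠ 1) : π * π' = 1 := by
  obtain ⟨c, d⟩ := (R.perm π).resolve_left a
  obtain ⟨e, f⟩ := (R.perm π').resolve_left b
  exact Equiv.ext fun k => by rcases R.all k with rfl | rfl <;> simp [*]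
theorem act (r : Rp ρ y θ) (s : ρ.Std θ π a f) : ∃ e : Kˣ, ∀ t u, Ld ρ c (e * (f i t * f j u))
    (y ⟨cm (ρ.x (C.simple j) u) (ρ.x (C.simple i) t), trivial⟩) := by
  obtain ⟨e, l⟩ := r.bo R.pos
  refine ⟨e * (a i * a j), fun t u => ?_⟩
  rw [show (e * (a i * a j) : Kˣ) * (f i t * f j u) = e * (a i * f i t * (a j * f j u)) by push_cast; ring]
  refine l _ _ ?_
  simp only [cm, map_mul, map_inv, s.pos]
  rcases R.perm π with rfl | ⟨a, b⟩
  · exact R.ld _ _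
  · rw [a, b]; exact R.symm.ld _ _

theorem c2 (M : LM T ⊤ ω P) (z : ∀ v ∈ Fl ρ 2, (∀ u ∈ ρ.Up, Commute v u) ∧ v ^ 2 = 1) (k : PiElt {2} y)
    (r : Rp ρ y θ) (s : ρ.Std θ π a f) (q : ∀ e : (⊤ : Subgroup G), e.1 ∈ ρ.Up →
      (∀ u ∈ ρ.Up, Commute e.1 u) → e.1 ^ 2 = 1 → y e = e) : y ^ 2 ∈ Inn (⊤ : Subgroup G) := by
  obtain ⟨e, l⟩ := R.act r s
  have m := fun t u => by
    have a := fl_cm (ρ := ρ) (fl_one.ge (ρ.x_mem_U (C.pos_simple j) u)) (fl_one.ge (ρ.x_mem_U (C.pos_simple i) t))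
    exact (q ⟨_, trivial⟩ ((R.ld t u).up R.pos) (z _ a).1 (z _ a).2 ▸ l t u :).eq M.fa (R.ld t u)
  refine M.c3 r s k ((em _).elim (fun e => by simp [e]) fun e => R.mul e e) fun k => ?_
  rcases R.all k with rfl | rfl
  exacts [eq_one_of_sl (e := e) fun t => by simpa using m t 1, eq_one_of_sl (e := e) fun t => by simpa using m 1 t]

variable (M : LM T ⊤ ω P) (h : C.Top c)
include M h

theorem top (r : Rp ρ y θ) (s : ρ.Std θ π a fun _ => υ) :
    ∃ e : Kˣ, ∀ t, y ⟨ρ.x c t, trivial⟩ = ⟨ρ.x c (e * υ t), trivial⟩ := by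
  obtain ⟨e, l⟩ := R.act r s
  exact ⟨e, fun t => Subtype.ext (by simpa [ld_top h, (ld_top h).1 (R.ld t 1)] using l t 1)⟩

theorem gr (q : y * y = 1) (r : Rp ρ y θ) (s : ρ.Std θ π a fun _ => υ) (n : υ ≠ 1) (u2 : υ ^ 2 = 1)
    (r' : Rp ρ w η) (s' : ρ.Std η π' a' fun _ => (1 : RingAut K)) (n' : π' ≠ 1) :
    ∃ e : (⊤ : Subgroup G), e.1 ∈ ρ.Up ∧ y e = e ∧ w e ≠ e := by
  by_contra! m
  have p := C.pos_simple
  have q' : ∀ g, y (y g) = g := DFunLike.congr_fun q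
  obtain ⟨e, l⟩ := R.top M h r s
  obtain ⟨d, ld⟩ := r'.ld M.fa s' i
  obtain ⟨e1, l1⟩ := r.ld M.fa s i
  obtain ⟨e2, l2⟩ := r.ld M.fa s j
  obtain ⟨o, ho⟩ := not_forall.1 (mt RingEquiv.ext n)
  have hc : hgt C c = 1 + 1 := by simp [hgt, R.add, C.ht_simple]
  have z : ∀ k t, Ld ρ (C.simple k) 0 (ρ.x c t) := fun k t => ld_x' (C.lo_simple k ▸ ⟨R.pos, fun e => by
    simp [e, hgt, C.ht_simple] at hc⟩)
  have key : ∀ t a b, Ld ρ (C.simple i) a (y ⟨ρ.x (C.simple i) t, trivial⟩) →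
      Ld ρ (C.simple j) b (y ⟨ρ.x (C.simple i) t, trivial⟩) → d * (t + a) = b := fun t a b ha hb => by
    set v : (⊤ : Subgroup G) := ⟨ρ.x (C.simple i) t, trivial⟩
    obtain ⟨x, hx⟩ := ex_ld R.pos hc (fl_cm (fl_one.ge (ha.up (p i))) (fl_one.ge (ρ.x_mem_U (p i) t)))
    have e1 : y v * v = v * y v * ⟨ρ.x c x, trivial⟩ := Subtype.ext (by
      simp [← (ld_top h).1 hx, cm, mul_assoc, v])
    have e2 : e * υ x = x := by
      have := congrArg y e1
      rw [map_mul, map_mul, map_mul, q', e1, l, mul_assoc, left_eq_mul, Subtype.ext_iff] at this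
      exact (CharTwo.add_eq_zero.1 (M.fa.x_eq_one_iff.1 ((ρ.x_add _ _ _).trans this))).symm
    have e3 : ∀ t, υ (υ t) = t := DFunLike.congr_fun ((pow_two υ).symm.trans u2)
    have e4 : o + υ o ≠ 0 := fun k => ho (CharTwo.add_eq_zero.1 k).symm
    have a1 := ((ld_x (t := t)).mul (p i) ha).mul (p i) (z i (x * o / (o + υ o)))
    have a2 := ((ld_x' (t := t) (nbl_simple R.ne)).mul (p j) hb).mul (p j) (z j (x * o / (o + υ o)))
    have := ld _ (v * y v * ⟨_, trivial⟩) a1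
    rw [m _ (a1.up (p i)) (by
      rw [map_mul, map_mul, q', e1, l, mul_assoc (v * y v)]
      refine congrArg _ (Subtype.ext ((ρ.x_add _ _ _).symm.trans (congrArg _ ?_)))
      rw [map_div₀, map_mul, map_add, e3, ← mul_div_assoc, ← mul_assoc, e2, add_comm (υ o), eq_div_iff e4,
        add_mul, div_mul_cancel₀ _ e4, mul_add, CharTwo.add_cancel_right]),
      ((R.perm π').resolve_left n').1] at this
    simpa using this.eq M.fa a2
  have z0 := fun t => l2 0 ⟨_, trivial⟩ (ld_x' (t := t) (nbl_simple R.ne))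
  rcases R.perm π with rfl | ⟨a, b⟩
  · exact n (eq_one_of_sl (e := e1) fun t => (CharTwo.add_eq_zero.1 (by
      simpa using key t _ _ (l1 t _ ld_x) (z0 t))).symm)
  · refine n (eq_one_of_sl (e := d⁻¹ * e1) fun t => ?_)
    rw [Units.val_mul, mul_assoc, ← key t _ _ (b ▸ z0 t :) (a ▸ l1 t ⟨_, trivial⟩ ld_x :)]
    simp

theorem d4 (a1 : y * y = 1) (a2 : w * w = 1) (c : w * y = y * w) (r : Rp ρ y θ)
    (s : ρ.Std θ π a fun _ => υ) (r' : Rp ρ w η) (s' : ρ.Std η π' a' fun _ => τ)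
    (n : y ∉ Inn (⊤ : Subgroup G)) (n' : w ∉ Inn (⊤ : Subgroup G)) (n'' : y * w ∉ Inn (⊤ : Subgroup G)) :
    ∃ e : (⊤ : Subgroup G), e.1 ∈ ρ.Up ∧ y e = e ∧ w e ≠ e := by
  have := M.lt.fin
  have k : ∀ {y : MulAut (⊤ : Subgroup G)} {θ π a υ}, y * y = 1 → Rp ρ y θ → ρ.Std θ π a (fun _ => υ) →
      y ∉ Inn _ → ∃ e : Kˣ, (∀ t, y ⟨ρ.x _ t, trivial⟩ = ⟨ρ.x _ (e * υ t), trivial⟩) ∧ e * υ e = 1 ∧
        (υ : RingAut K) ^ 2 = 1 ∧ (υ = 1 → π ≠ 1) := fun {y θ π a υ} q r s n => by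
    obtain ⟨e, l⟩ := R.top M h r s
    have m := fun t => M.fa.x_injective _ (congrArg Subtype.val ((l _).symm.trans
      ((congrArg y (l t).symm).trans (DFunLike.congr_fun q _))))
    exact ⟨e, l, by simpa using m 1, (pow_two _).trans (eq_one_of_sl (e := e * Units.map (υ : K →* K) e)
      fun t => by simpa [mul_assoc] using m t), fun a b => n (M.key1 r (b ▸ s :) (i := i) a (pe2 q))⟩
  obtain ⟨e, l, e1, u, p⟩ := k a1 r s n
  obtain ⟨e', l', -, u', p'⟩ := k a2 r' s' n'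
  by_cases q : υ = 1
  · have : τ ≠ 1 := fun q' => n'' (M.d0 r s r' s' a1 a2 c (R.mul (p q) (p' q')) (by simp [q, q']))
    obtain ⟨t, a⟩ := not_forall.1 (mt (eq_one_of_sl (e := e')) this)
    subst q
    have : (e : K) = 1 := by simpa [← pow_two, CharTwo.neg_eq] using e1
    exact ⟨⟨_, trivial⟩, ρ.x_mem_U h.pos t, by simp [l, this], fun m => a (M.fa.x_injective _
      (congrArg Subtype.val ((l' t).symm.trans m)))⟩
  by_cases q' : τ = 1
  · exact R.gr M h a1 r s q u r' (q' ▸ s' :) (p' q')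
  have z : υ * τ = 1 := by rw [← eq_of_sq u u' q q', ← pow_two, u]
  obtain ⟨g, a, b, d⟩ := R.gr M h a1 r s q u (r.mul M.adj r') (by
    have := s.mul s'; rwa [show RingEquiv.trans τ υ = (1 : RingAut K) from z] at this)
    fun m => n'' (M.d0 r s r' s' a1 a2 c m z)
  exact ⟨g, a, b, fun m => d (by rw [MulAut.mul_apply, m, b])⟩

end R2
end CF.Q16
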