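-- copy of `Known.Q16.Nc` avoiding a name clash (`Comp.syl_inf`) with `Sig.S4D`
/-
Quasithin groups of even type: components whose involutory automorphisms have centralizers without components.
-/
import Cfsg.Agent.NCq.Q16Lie4
import Cfsg.Agent.S0496
import Cfsg.Agent.S0983
import Cfsg.Agent.Spec.Sym
import Cfsg.Agent.GW.Gam
import Cfsg.Agent.Classical.MaxL2
import Cfsg.Agent.Known.Inv.Gen2
import Cfsg.Agent.J4F.T
import Cfsg.Agent.Bt.Blk.M24
import Cfsg.Agent.Bt.Out.Tits
import Cfsg.Agent.Bt.Out.M24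
import Cfsg.Agent.S2068
import Cfsg.Agent.S2126
import Cfsg.Agent.S2128
import Cfsg.Agent.S2185
import Cfsg.Agent.S2602
import Cfsg.Agent.S2603
import Cfsg.Agent.S1057
import Cfsg.Agent.S1074
set_option autoImplicit false
set_option linter.unusedSectionVars false

namespace CF.Q16
open Subgroup Cfsg CF.BG CF.Sig CF.CT CF.CmpT CF.PG CF.Bender CF.SM
open CF.Loc (LocChar IsCharP)
open scoped commutatorElement MatrixGroups

universe u

section
variable {H : Type*} [Group H] [Finite H] {L M Y : Subgroup H} {θ t : H}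

theorem comp_nc (h : Comp L M) : ¬ IsMulCommutative (L ⧸ center L) := fun c => by
  have := h.qs.1
  have := h.qs.2
  have z := Group.IsPerfect.center_quotient_center_eq_bot (G := L)
  exact bot_ne_top (z.symm.trans (eq_top_iff.2 fun x _ => mem_center_iff.2 fun y => c.is_comm.comm y x))

theorem comp_list (h : Comp L M) (b : nb L < 6000) :
    nb L ∈ [60, 168, 360, 504, 660, 1092, 1800, 2448, 2520, 2700, 3420, 3600, 4080, 5616] := by
  have := h.qs.2
  have n := comp_nc h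
  rw [nb_eq] at b ⊢
  simp only [List.mem_cons, List.not_mem_nil, or_false]
  by_cases a : Nat.card (L ⧸ center L) ≤ 1092
  · have := Cfsg.Agent.S0496.result n a
    omega
  by_cases c : 3640 < Nat.card (L ⧸ center L)
  · have := Cfsg.Agent.S0983.result n c (by omega)
    omega
  have := CF.Small.mem_surv n (a := 1093) (n := 2548) (by omega) (by omega) (by omega)
  simp only [(by decide +kernel : CF.Small.surv 1093 2548 = [1800, 2448, 2520, 2700, 3600]), List.mem_cons,
    List.not_mem_nil, or_false] at this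
  omega

theorem VP.top [n : Y.Normal] (v : VP Y θ L) : Comp L (𝐂₁ θ) :=
  v.cp.trans (by simpa using subN_inf (normalIn_top.2 n).subN (𝐂₁ θ))

theorem gen_loc [Y.Normal] (h : ∀ t : H, Iv t → ∀ L, ¬ Comp L (𝐂₁ t)) : GenK Y :=
  gen_of_nc fun θ L v => h θ v.iv L v.top

theorem nc_of (h : IsCharP 2 (𝐂₁ t)) (L : Subgroup H) : ¬ Comp L (𝐂₁ t) :=
  Lay_eq_bot_iff.1 (charP_of h).Lay L

theorem VP.lt (v : VP Y θ L) : ♯(Y ⊓ 𝐂₁ θ) < ♯Y := lt_of_not_ge fun c =>
  v.nc (le_cent1_iff.1 ((eq_of_card_le inf_le_left c).ge.trans inf_le_right))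

/-- two conjugates of the centralizer meet in a large subgroup -/
theorem VP.count (v : VP Y θ L) : ∃ x ∈ Y, x ≠ 1 ∧ ♯(Y ⊓ 𝐂₁ θ) ^ 2 ≤ ♯(Y ⊓ 𝐂₁ x) * ♯Y := by
  obtain ⟨g, hg, n⟩ := SetLike.not_le_iff_exists.1 (mt le_cent1_iff.1 v.nc)
  refine ⟨θ * g * θ⁻¹ * g⁻¹, mul_mem (conj_mem_of_norm v.nm hg) (inv_mem hg), fun e => n (mem_cent1.2 ?_), ?_⟩
  · rw [← mul_inv_eq_one, ← inv_eq_one, ← e]; group
  · rw [sq, ← card_mul_relIndex (inf_le_left : Y ⊓ 𝐂₁ θ ≤ Y), mul_left_comm]
    refine Nat.mul_le_mul_left _ ?_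
    rw [← card_inf_mul_relIndex (cj g (Y ⊓ 𝐂₁ θ)) (Y ⊓ 𝐂₁ θ)]
    refine Nat.mul_le_mul (card_le_of_le fun y hy => ⟨hy.2.1, ?_⟩) ?_
    · have a := (cj_cent1 g θ).le (cj_mono g inf_le_right hy.1)
      simpa [mul_assoc] using mem_cent1_comm.1 (mul_mem (mem_cent1_comm.1 hy.2.2) (inv_mem (mem_cent1_comm.1 a)))
    · conv_rhs => rw [← relIndex_cj g, cj_eq_self.2 (le_norm_self Y hg)]
      exact relIndex_le_of_le_right inf_le_left (relIndex_pos _ _).ne'

end

section
variable {X : Type*} [Group X] [Finite X]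

theorem gd_z (h : center X = ⊥ → Gd.{u} X) : Gd.{u} X := fun G _ _ K a b ⟨e⟩ => by
  have : Group.IsPerfect K := isPerfect_iff.2 a
  refine h (eq_bot_iff.2 fun x m => ?_) G K a b ⟨e⟩
  obtain ⟨x, rfl⟩ := e.surjective x
  exact (congrArg e ((Group.IsPerfect.center_quotient_center_eq_bot (G := K)).le (mem_center_iff.2 fun y =>
    e.injective (by simpa using mem_center_iff.1 m (e y))))).trans (map_one e)

theorem gd_mdl {H : Type*} [Group H] [Finite H] {Y : Subgroup H} [Y.Normal] (e : X ≃* Y)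
    (c : Y ⊓ 𝐂 Y = ⊥ → 𝐂 Y = ⊥) (o : Nat.card H = Nat.card X * Nat.card (Out X))
    (h : 𝐂 Y = ⊥ → GenK Y ∨ ∃ p F, ExcK p F Y) : Gd.{u} X := gd_z fun z G _ _ K a b ⟨f⟩ => by
  have c := c (eq_bot_iff.2 fun x m => by
    obtain ⟨y, q⟩ := e.surjective ⟨x, m.1⟩
    have : y = 1 := z.le (mem_center_iff.2 fun g => e.injective (by
      simpa [q] using mem_center_iff.1 ((mem_ctr ⟨x, m.1⟩).2 m.2) (e g)))
    simpa [this] using congrArg Subtype.val q.symm)
  obtain ⟨φ, k⟩ := exists_act c (by rwa [← Nat.card_congr e.toEquiv, ← Bt.card_out_congr e]) a b (f.trans e)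
  exact (h c).imp k.gen fun ⟨p, F, q⟩ => ⟨p, F, k.exc q⟩

theorem gd_top (o : Nat.card (Out X) = 1) (h : center X = ⊥ → GenK (⊤ : Subgroup X) ∨
    ∃ p F, ExcK p F (⊤ : Subgroup X)) : Gd.{u} X := gd_z fun z =>
  gd_mdl topEquiv.symm (by simp) (by simp [o]) fun _ => h z

theorem gd_odd (h : LocChar 2 X) (o : Odd (Nat.card (Out X))) : Gd.{u} X := gd_z fun z =>
  gd_inn ((lc_of (conj_inj' z) (innNormal X) h).gen_odd fun θ i => (QuotientGroup.eq_one_iff θ).1
    (orderOf_eq_one_iff.1 (Nat.eq_one_of_dvd_coprimes o.coprime_two_left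
      (orderOf_dvd_of_pow_eq_one (congrArg _ i.pow2)) (orderOf_dvd_natCard _))))

theorem card_inn (z : center X = ⊥) : ♯(Inn X) = Nat.card X :=
  (Nat.card_congr (MonoidHom.ofInjective (conj_inj' z)).toEquiv).symm

theorem gd_ord (h : Nat.card X = 60 ∨ Nat.card X = 168 ∨ Nat.card X = 5616) : Gd.{u} X := gd_z fun z =>
  gd_inn (gen_of_nc fun θ L v => by
    have a := v.lt
    have b := (nb_dvd L).trans (card_dvd v.cp.le)
    have c := Nat.le_of_dvd (card_pos' _) b
    have d := b.trans (card_dvd inf_le_left)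
    rw [card_inn z] at a d
    have := comp_list v.cp (by omega)
    generalize nb L = n at *
    rcases h with h | h | h <;> rw [h] at a d <;> fin_cases this <;> omega)

theorem gd_A6 : Gd.{u} (alternatingGroup (Fin 6)) := gd_z fun z => gd_inn (gen_of_nc fun θ L v => by
  have i := conj_inj' z
  have o : ♯(Inn (alternatingGroup (Fin 6))) = 360 := by
    rw [card_inn z, nat_card_alternatingGroup, Nat.card_fin]; decide
  obtain ⟨x, hx, x1, c⟩ := v.count
  have a := Nat.le_of_dvd (card_pos' _) ((nb_dvd L).trans (card_dvd v.cp.le))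
  have b := comp_list v.cp (by have := v.lt; omega)
  simp only [List.mem_cons, List.not_mem_nil, or_false] at b
  obtain ⟨r, hr, d⟩ := Nat.exists_prime_and_dvd (mt orderOf_eq_one_iff.1 x1)
  obtain ⟨y, hy, e⟩ := exists_mem_orderOf_eq (H := zpowers x) hr (Nat.card_zpowers x ▸ d)
  have k : PiGrp {r} (Inn _ ⊓ 𝐂₁ x) := fun s hs m => by_contra fun n => by
    obtain ⟨w, hw, f⟩ := exists_mem_orderOf_eq hs m
    have q := (Commute.orderOf_mul_eq_mul_orderOf_of_coprime (mem_cent1.1 (cent_le_cent1 hy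
      (cent_zpowers x ▸ hw.2))) (e ▸ f ▸ (Nat.coprime_primes hs hr).2 n))
    obtain ⟨g, q'⟩ := mul_mem hw.1 (zpowers_le.2 hx hy)
    obtain ⟨j, hj, l⟩ := Spec.spA6.ub g
    rw [← orderOf_dvd_iff_pow_eq_one, ← orderOf_injective _ i, q', q, e, f] at l
    have s2 := hs.two_le
    have r2 := hr.two_le
    have := Nat.le_of_dvd (by simp at hj; omega) l
    have : s ≠ r := n
    simp at hj
    have : 6 ≤ s * r := by rcases Nat.lt_or_gt_of_ne this with h | h <;> nlinarith
    omega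
  obtain ⟨j, hj⟩ := k.card_pow
  have l := card_dvd (inf_le_left : Inn _ ⊓ 𝐂₁ x ≤ _)
  rw [o, hj] at c l
  have m : 10 ≤ r ^ j := by
    have := (Nat.pow_le_pow_left (show 60 ≤ _ by omega) 2).trans ((Nat.pow_le_pow_left a 2).trans c)
    omega
  have := hr.two_le
  have : r ≤ 5 := by
    obtain ⟨g, q⟩ := zpowers_le.2 hx hy
    obtain ⟨j, hj, l⟩ := Spec.spA6.ub g
    rw [← orderOf_dvd_iff_pow_eq_one, ← orderOf_injective _ i, q, e] at l
    simp at hj
    have := Nat.le_of_dvd (by omega) l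
    omega
  have : j ≤ 3 := le_of_not_gt fun h => by
    have := (pow_dvd_pow r h).trans l
    interval_cases r <;> exact absurd this (by decide)
  interval_cases r <;> interval_cases j <;> omega)

theorem gd_PSL2 {F : Type*} [Field F] [Fintype F] (p : (Fintype.card F).Prime) (h : 4 ≤ Fintype.card F) :
    Gd.{u} PSL(2, F) := by
  have o := p.odd_of_ne_two (by omega)
  have h2 := GW.two_ne_zero_of_odd o
  have := Fact.mk p
  obtain ⟨φ, -, -, c⟩ := Cfsg.Agent.S2602.result (F := F) (p := Fintype.card F) le_rfl (pow_one _).symm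
    (by rwa [pow_one])
  refine gd_mdl (Classical.pslEquiv F) (fun _ => eq_bot_iff.2 fun g m => SemidirectProduct.inl_injective
    ((GW.cent_Lg h2).le (mem_cent.2 ?_))) ?_ fun _ => .inl (gen_loc fun t i L q => ?_)
  · rintro _ ⟨y, a, rfl⟩
    rw [← map_mul, mem_cent.1 m y a, map_mul]
  · rw [← (Classical.psl F).card_mul_index, Classical.card_psl, Classical.index_psl_of_odd h2, ← card_top (G := Out _),
      ← show φ.ker = ⊤ from eq_top_iff.2 fun _ _ => Subsingleton.elim _ _, c, pow_one,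
      Nat.gcd_eq_left (Nat.Odd.sub_odd o odd_one).two_dvd]
  · obtain ⟨x, y, n, m⟩ := (Classical.isL2_PGL F (AlgebraicClosure F)).exists_torus_of_mul_self h2 i.sq
    exact q.not_sol (Sol.mono (Classical.isSolvable_pairStab n)
      (q.le.trans (Classical.centralizer_le_pairStab n i.ne m)))

theorem gd_loc (h : ∀ t : X, orderOf t = 2 → IsCharP 2 (𝐂₁ t)) (o : Nat.card (Out X) = 1) : Gd.{u} X :=
  gd_odd (Bt.Blk.locChar_of_elts h) (o ▸ odd_one)

end

theorem gd_M24 : Gd.{u} M24 := gd_odd Leech.M.locChar24 (Bt.OutM24.out ▸ odd_one)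

open J4F Dce.J4 in
theorem gd_J4 : Gd.{u} Spor.J4 := by
  have : Finite Spor.J4 := .of_equiv _ eJ.symm.toEquiv
  refine gd_odd (Chev.locChar_of_equiv eJ (Bt.Blk.locChar_of_elts fun t ht => ?_))
    (Cfsg.Agent.S2068.result ▸ odd_one)
  have k : ∀ {s}, IsCharP 2 (𝐂₁ s) → IsConj s t → IsCharP 2 (𝐂₁ t) := fun a b => by
    obtain ⟨g, rfl⟩ := isConj_iff.1 b
    exact cj_cent1 g _ ▸ a.cj g
  refine (inv_two ht).elim (k ?_) (k ?_)
  · obtain ⟨Φ, h⟩ := jh
    exact h.isCharP
  · obtain ⟨p, Φ, π, f, U, ν, κ, h⟩ := jk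
    obtain ⟨k, e⟩ := h.exists_cj eaV card_V.ge
    refine KI.charP_of_ab eaV.pgroup (fun y hy => mem_centralizer_singleton_iff.2 (eaV.comm _ hy _ u_V))
      (cent_u.1.trans H_norm) (inf_le_right.trans ?_)
    rw [e, ← Loc.cj_centralizer]
    exact map_mono h.cent_V

theorem gd_Sz {X : Type*} [Group X] [Finite X] (h : Lie.IsoSuzuki X) : Gd.{u} X := by
  obtain ⟨F, _, _, m, a, b, ⟨e⟩⟩ := id h
  exact gd_odd (Chev.locChar_chev (.inl (by simp [IsLieTypeChar, h])))
    (by rw [Bt.card_out_congr e, Cfsg.Agent.S2126.result a b]; exact odd_two_mul_add_one m)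

theorem gd_2F4 {X : Type*} [Group X] [Finite X] (h : Lie.Iso2F4 X) : Gd.{u} X := by
  obtain ⟨F, _, _, m, a, b, ⟨e⟩⟩ := id h
  exact gd_odd (Chev.locChar_chev (.inl (by simp [IsLieTypeChar, h])))
    (by rw [Bt.card_out_congr e, Cfsg.Agent.S2128.result a b]; exact odd_two_mul_add_one m)

theorem i2_idx {H : Type*} [Group H] [Finite H] {Y : Subgroup H} (h : Y.index = 2) : I2 Y ⊤ :=
  i2_of (by rw [relIndex_top_right, h])

theorem gd_Tits : Gd.{u} Lie.TitsGroup := by
  obtain ⟨a, -, -, b⟩ := Cfsg.Agent.S1074.result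
  have : Finite (Lie.twistedF4 (ZMod 2) 1) := Nat.finite_of_card_ne_zero (by
    rw [← (_root_.commutator _).card_mul_index, a, b]; decide)
  have k : ∀ θ, Iv θ → θ ∈ _root_.commutator (Lie.twistedF4 (ZMod 2) 1) := fun θ i =>
    Cfsg.Agent.S2185.result θ i.orderOf
  refine gd_mdl (.refl _) (fun z => eq_bot_iff.2 fun x m => by_contra fun n => n (z.le ⟨k x
    ⟨n, z.le ⟨(i2_idx a).sq trivial, mul_mem m m⟩⟩, m⟩)) (by rw [Bt.OutTits.out, ← (_root_.commutator _).card_mul_index, a]) fun _ => .inl ?_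
  have := lc_of (subtype_injective _) (by rw [range_subtype]; infer_instance)
    (Chev.locChar_chev (X := Lie.TitsGroup) (.inr (.inl ⟨rfl, .inr (.inr ⟨.refl _⟩)⟩)))
  rw [range_subtype] at this
  exact this.gen_odd k

open CF.Chev CF.BN CF.KG in
theorem gd_U33 {K : Type*} [Field K] [Fintype K] (h : Fintype.card K = 9) : Gd.{u} (PSU 3 K 3) := by
  obtain ⟨e⟩ := Cfsg.Agent.S1057.result (ZMod.card 2) h
  let ρ : StRep cG2 (ZMod 2) (Lie.chevG2.group (ZMod 2)) := linkG2.gpRep (ZMod 2)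
  have A : ρ.IsAdj := linkG2.isAdj (ZMod 2)
  have M := lt_triv A.faithful A.gp goodG2.conn A.r3
  have := M.finite
  have : Finite (Lie.chevG2.group (ZMod 2)) := .of_equiv _ topEquiv.toEquiv
  have : Finite (PSU 3 K 3) := .of_equiv _ e.toEquiv
  have z := linkG2.center_group (ZMod 2)
  have i := G22.code.idx
  have : Fact (Nat.Prime 3) := ⟨Nat.prime_three⟩
  obtain ⟨φ, s, -, c⟩ := Cfsg.Agent.S2603.result (p := 3) (n := 3) le_rfl (pow_one 3).symm h le_rfl (by simp)
  refine gd_mdl e.symm (fun q => eq_bot_iff.2 fun x m => by_contra fun n => n (z.le (mem_center_iff.2 fun g =>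
    by_contra fun r => ?_))) ?_ fun _ => .inl (gen_loc fun t j => nc_of ?_)
  · have := mem_cent.1 m _ (i2_idx i g trivial x trivial (fun a => r (mem_cent.1 m g a)) fun a => n (q.le ⟨a, m⟩))
    exact r (mul_right_cancel (this.trans (mul_assoc _ _ _).symm))
  · rw [← φ.ker.card_mul_index, c, index_ker, MonoidHom.range_eq_top.2 s, ← Nat.card_congr e.toEquiv,
      ← (_root_.commutator _).card_mul_index, i]
    simp
  · have := (locChar_of_equiv topEquiv.symm (M.locChar z) _ j.pe.zpowers.isPGroup (by simpa using j.ne)).centralizer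
      j.pe.zpowers.isPGroup le_normalizer
    rwa [inf_of_le_right (centralizer_le_normalizer _), cent_zpowers] at this

end CF.Q16
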