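-- copy of `Known.Q16.Ex` avoiding a name clash (`Comp.syl_inf`) with `Sig.S4D`
/-
Quasithin groups of even type: the exceptional components from the classes of involutions.
-/
import Cfsg.Agent.NCq.Q16Nc
import Cfsg.Agent.Classical.SL25
set_option autoImplicit false
set_option linter.unusedSectionVars false

namespace CF.Q16
open Subgroup Cfsg CF.BG CF.Sig CF.CT CF.CmpT CF.PG CF.Bender CF.SM
open scoped commutatorElement

universe u
variable {H : Type*} [Group H] [Finite H] {A L M Y : Subgroup H} {a g s t u w x y z : H} {p l : ℕ} {F : Prop}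

theorem cj_Ep (g : H) : cj g (Ep p A) = Ep p (cj g A) := by
  have k : ∀ (g : H) (A : Subgroup H), cj g (Ep p A) ≤ Ep p (cj g A) := fun g A =>
    map_le_iff_le_comap.2 (Ep_le.2 fun x m e => mem_Ep (conj_mem_cj.2 m) (by
      simp only [MonoidHom.coe_coe, MulAut.conj_apply, MulEquiv.coe_toMonoidHom, conj_pow, e]; simp))
  exact (k g A).antisymm (by simpa using cj_mono g (k g⁻¹ (cj g A)))

/-- the 2-central class -/
structure CZ (p : ℕ) (F : Prop) (z : H) : Prop where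
  nc : ∀ L, ¬ Comp L (𝐂₁ z)
  nd : ¬ p ^ 2 ∣ ♯(𝐂₁ z)
  ex : ∃ E w, E ≤ Ep p (𝐂₁ z) ∧ 𝐂 E ≤ zpowers w ∧ z ∈ zpowers w ∧
    (p = 3 → 16 * orderOf w ∣ ♯E ∧ (F → 128 ∣ ♯E)) ∧ (p = 5 → w = z ∧ 3 ∣ ♯E)

/-- the other classes -/
structure PQ (p : ℕ) (F : Prop) (l : ℕ) (t : H) : Prop where
  nd : ¬ 2 ^ l ∣ ♯(𝐂₁ t)
  e3 : ∀ L, Comp L (𝐂₁ t) → E3 p F L
  f5 : p = 5 → ♯(𝐂 (Ep p (𝐂₁ t))) ≤ 4

theorem comp_unconj (h : Comp L (𝐂₁ (g * t * g⁻¹))) : Comp (cj g⁻¹ L) (𝐂₁ t) := by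
  simpa [← cj_cent1] using h.cj g⁻¹

theorem nc_conj (h : ∀ L, ¬ Comp L (𝐂₁ s)) (e : IsConj s t) (L : Subgroup H) : ¬ Comp L (𝐂₁ t) := by
  obtain ⟨g, rfl⟩ := isConj_iff.1 e
  exact fun q => h _ (comp_unconj q)

theorem card_conj (e : IsConj s t) : ♯(𝐂₁ t) = ♯(𝐂₁ s) := by
  obtain ⟨g, rfl⟩ := isConj_iff.1 e
  rw [← cj_cent1, card_cj]

theorem CZ.conj (h : CZ p F s) (e : IsConj s t) : CZ p F t := by
  refine ⟨nc_conj h.nc e, card_conj e ▸ h.nd, ?_⟩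
  obtain ⟨g, rfl⟩ := isConj_iff.1 e
  obtain ⟨E, w, a, b, c, d, e⟩ := h.ex
  refine ⟨cj g E, g * w * g⁻¹, by rw [← cj_cent1, ← cj_Ep]; exact cj_mono g a,
    by rw [← cj_cent, ← cj_zpowers]; exact cj_mono g b, cj_zpowers g w ▸ conj_mem_cj.2 c, ?_, ?_⟩
  · rwa [card_cj, orderOf_conj']
  · rw [card_cj]; exact fun q => ⟨(e q).1 ▸ rfl, (e q).2⟩

theorem PQ.conj (h : PQ p F l s) (e : IsConj s t) : PQ p F l t := by
  have n := card_conj e ▸ h.nd
  obtain ⟨g, rfl⟩ := isConj_iff.1 e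
  exact ⟨n, fun L q => by simpa using (h.e3 _ (comp_unconj q)).cj g,
    by rw [← cj_cent1, ← cj_Ep, ← cj_cent, card_cj]; exact h.f5⟩

theorem exc_of (i : I2 Y ⊤) (c : 𝐂 Y = ⊥) (p35 : p = 3 ∨ p = 5) (cl : ∀ t : H, Iv t → CZ p F t ∨ PQ p F l t)
    (hl : 2 ^ l ∣ ♯Y) (rk : ∃ x y : H, x ≠ 1 ∧ x ^ p = 1 ∧ y ^ p = 1 ∧ y ∈ 𝐂₁ x ∧ y ∉ zpowers x)
    (big : 95040 ≤ ♯Y ∧ 3 ∣ ♯Y) (e5 : ∃ a ∈ Y, Iv a ∧ ∃ M, Comp M (Y ⊓ 𝐂₁ a)) : ExcK p F Y := by
  have n : Y.Normal := normalIn_top.1 ⟨le_top, i.norm le_top⟩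
  have ⟨hp, h2⟩ : p.Prime ∧ p ≠ 2 := by rcases p35 with rfl | rfl <;> norm_num
  have o : ∀ {x : H}, x ^ p = 1 → x ∈ Y := fun e => i2_odd i hp h2 trivial e
  have ep : ∀ t : H, Ep p (Y ⊓ 𝐂₁ t) = Ep p (𝐂₁ t) := fun t => le_antisymm
    (Ep_le.2 fun x m e => mem_Ep m.2 e) (Ep_le.2 fun x m e => mem_Ep ⟨o e, m⟩ e)
  refine ⟨p35, ?_, by rwa [nb, c, relIndex_bot_left], fun x _ e => mem_sup_left (o e), ?_,
    fun {α U} j _ _ s m => ?_, fun v => (cl _ v.iv).elim (fun q => (q.nc _ v.top).elim) fun q => q.e3 _ v.top,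
    fun q v _ _ a b B _ d => ?_⟩
  · obtain ⟨x, y, a, b, c, d, e⟩ := rk
    exact (two_elem hp (o b) (o c) a b c d e).le_pRank
  · obtain ⟨a, m, j, q⟩ := e5
    exact ⟨a, m, j.pe, c ▸ j.ne, q⟩
  · have k := (cl α j).resolve_right fun q => q.nd ((s.dvd_card hl (piNat_pow_self p2 l)).trans (card_dvd (le_cent1_iff.2 m)))
    obtain ⟨E, w, a, b, d, e, f⟩ := k.ex
    have r := card_dvd a
    rw [← ep] at a r
    refine ⟨fun M q => k.nc M (q.trans (by simpa using subN_inf (normalIn_top.2 n).subN (𝐂₁ α))), ?_,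
      fun q => k.nd (q.trans (card_dvd inf_le_right)), fun β _ _ u _ v => ?_, fun q => ⟨?_, fun m =>
      ((e q).2 m).trans r⟩, fun q => (f q).2.trans r⟩
    · by_contra q
      have : E = ⊥ := le_bot_iff.1 (a.trans (Ep_le.2 fun x m e => by_contra fun n =>
        q (orderOf_eq_of_pow hp e n ▸ orderOf_dvd_card' m)))
      rw [this, card_bot] at e f
      rcases p35 with h | h
      · have := Nat.le_of_dvd one_pos (e h).1
        have := orderOf_pos w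
        omega
      · exact absurd (f h).2 (by decide)
    · have m := b (cent_anti a v)
      rw [c]
      refine (show β = 1 ∨ β = α from ?_).imp id fun q => by rw [q]; exact j.sq
      rcases u with u | u
      · exact mem_zp2 j.pow2 ((f u).1 ▸ m)
      · exact (em _).imp id fun n => Cyc.iv_eq (cyc_zpowers w) m d ⟨n, u⟩ j
    · refine .trans ?_ (nb_dvd_nb a)
      have k := (e q).1
      obtain ⟨r, hr⟩ := card_dvd (inf_le_left.trans b : 𝐂 E ⊓ E ≤ _)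
      rw [← card_inf_mul_relIndex (𝐂 E) E, ← Nat.card_zpowers, hr, mul_left_comm] at k
      exact (Dvd.intro _ rfl).trans (Nat.dvd_of_mul_dvd_mul_left (card_pos' _) k)
  · rw [c] at a b ⊢
    rw [relIndex_bot_left]
    rw [ep] at d
    refine (card_le_of_le d).trans ((cl v ⟨a, b⟩).elim (fun k => ?_) fun k => k.f5 q)
    obtain ⟨E, w, a', b', -, -, f⟩ := k.ex
    refine (card_le_of_le ((cent_anti a').trans b')).trans ?_
    rw [(f q).1, Iv.card ⟨a, b⟩]; decide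

theorem e3_of {m : ℕ} (h : ♯(𝐂₁ t) = m) (b : m < 6000) {P : ℕ → Prop}
    (k : ∀ d ∈ [60, 168, 360, 504, 660, 1092, 1800, 2448, 2520, 2700, 3420, 3600, 4080, 5616], d ∣ m → P d)
    (q : Comp L (𝐂₁ t)) : P (nb L) :=
  have d := (nb_dvd L).trans (card_dvd q.le)
  k _ (comp_list q ((Nat.le_of_dvd (card_pos' _) d).trans_lt (h ▸ b))) (h ▸ d)

theorem pq_small {m : ℕ} (h : ♯(𝐂₁ t) = m) (k : m < 6000 ∧ ¬ 2 ^ l ∣ m ∧
    ∀ d ∈ [60, 168, 360, 504, 660, 1092, 1800, 2448, 2520, 2700, 3420, 3600, 4080, 5616], d ∣ m →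
      d = 60 ∨ d = 168 ∨ d = 360) : PQ 3 F l t :=
  ⟨h ▸ k.2.1, fun _ q => .inl ⟨rfl, (e3_of h k.1 k.2.2 q).imp_right fun a => a.imp_right .inl⟩,
    fun q => absurd q (by decide)⟩

theorem iso_simple {K X : Type*} [Group K] [Finite K] [Group X] [Nontrivial X] (h : IsQuasisimple K) {f : K →* X}
    (s : Function.Surjective f) (z : center X = ⊥) : Nonempty (K ⧸ center K ≃* X) :=
  iso_of_ker_eq (QuotientGroup.mk'_surjective _) s (by
    rw [QuotientGroup.ker_mk']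
    refine le_antisymm (fun x m => z.le (mem_center_iff.2 fun y => ?_)) ((qs_normal h _ inferInstance).resolve_left
      fun e => ?_)
    · obtain ⟨y, rfl⟩ := s y
      rw [← map_mul, mem_center_iff.1 m, map_mul]
    · obtain ⟨y, n⟩ := exists_ne (1 : X)
      obtain ⟨y, rfl⟩ := s y
      exact n (e.ge (mem_top y)))

theorem pq_A8 (h : ♯(𝐂₁ t) = 80640) (a : A ≤ 𝐂₁ t) {ψ : A →* Equiv.Perm (Fin 8)}
    (s : Function.Surjective ψ) : PQ 3 True 9 t := by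
  refine ⟨by rw [h]; decide, fun L q => .inl ⟨rfl, .inr (.inr (.inr ⟨trivial, ?_⟩))⟩, fun q => absurd q (by decide)⟩
  have k := ψ.ker.card_mul_index
  rw [index_ker, MonoidHom.range_eq_top.2 s, card_top, Nat.card_perm, Nat.card_fin, show Nat.factorial 8 = 40320 from rfl] at k
  have k0 := card_pos' ψ.ker
  have k1 := card_le_of_le a
  have l : L ≤ A := perf_le q.perfect (i2_of_card a (by omega)) q.le
  have r := (q.of_le l a).subgroupOf l
  rw [subgroupOf_self] at r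
  have r' := r.map ψ fun e => r.not_sol (by
    have := card_le_of_le ((Subgroup.map_eq_bot_iff _).1 e)
    exact CF.Classical.isSolvable_of_card_lt_sixty _ (by omega) _ rfl)
  have l' : (L.subgroupOf A).map ψ ≤ alternatingGroup (Fin 8) := r'.perfect.ge.trans
    (commutator_le.2 fun _ _ _ _ => by simp [Equiv.Perm.mem_alternatingGroup, commutatorElement_def, mul_right_comm])
  have e := (IsSubnormal.eq_bot_or_top_of_isSimpleGroup (alternatingGroup.isSimpleGroup (α := Fin 8) (by simp))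
    (subN_iff.1 (subN_of_le r'.subN l' (by rw [← MonoidHom.range_eq_map, MonoidHom.range_eq_top.2 s]; simp))).2).resolve_left
      fun e => r'.ne_bot (by simpa [inf_eq_left.2 l'] using congrArg (map (alternatingGroup (Fin 8)).subtype) e)
  refine iso_simple q.qs (f := (ψ.comp (inclusion l)).codRestrict _ fun x => l' ⟨_, x.2, rfl⟩) (fun y => ?_)
    (alternatingGroup.center_eq_bot (by simp))
  obtain ⟨x, a, b⟩ := e.ge (mem_top y)
  exact ⟨⟨x, a⟩, Subtype.ext b⟩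

theorem e5_of (o : 𝐎 {2}ᶜ (𝐂₁ a) = ⊥) (i : Iv a) (hx : x ∈ 𝐂₁ a) (hp : p.Prime) (h2 : p ≠ 2)
    (ox : orderOf x = p) {k : ℕ} (hk : ∀ j < k, 0 < j → ¬ p ∣ 2 ^ j - 1)
    (n : ¬ 2 ^ (k + 1) ∣ ♯(𝐎 {2} (𝐂₁ a))) : ∃ M, Comp M (𝐂₁ a) := by_contra fun q => by
  have c : CharP 2 (𝐂₁ a) := charP_iff.2 ⟨Lay_eq_bot_iff.2 (by simpa using q), o⟩
  have π := O_pi {2} (𝐂₁ a)
  have e := CF.Ab2.card_modEq hp (piGrp_zpowers.2 (show PiNat {p} (orderOf x) from ox.symm ▸ piNat_self hp)) (zpowers_le.2 ((O_normal {2} _).norm hx))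
  obtain ⟨s, hs⟩ := π.card_pow
  obtain ⟨r, hr⟩ := (π.inf_left (K := 𝐂 (zpowers x))).card_pow
  have l : 𝐎 {2} (𝐂₁ a) ⊓ 𝐂 (zpowers x) < 𝐎 {2} (𝐂₁ a) := inf_lt_left.2 fun m => ne_one_of hp ox
    (one_of_two hp h2 π (c ⟨hx, cent_symm m (mem_zpowers x)⟩) (pow_of ox))
  have m : a ∈ 𝐎 {2} (𝐂₁ a) ⊓ 𝐂 (zpowers x) :=
    have := le_cent1_iff.1 (le_refl (𝐂₁ a))
    ⟨c ⟨self_mem_cent1 a, cent_anti (O_le _ _) this⟩, cent_anti (zpowers_le.2 hx) this⟩
  have r0 : r ≠ 0 := by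
    rintro rfl
    exact i.ne ((card_eq_one'.1 hr).le m)
  have rs := card_lt l
  rw [hs, hr] at e rs
  obtain ⟨j, rfl⟩ := Nat.exists_eq_add_of_lt ((Nat.pow_lt_pow_iff_right one_lt_two).1 rs)
  have d := (Nat.modEq_iff_dvd' rs.le).1 e.symm
  rw [add_assoc, pow_add, ← Nat.mul_sub_one] at d
  exact n (hs ▸ pow_dvd_pow 2 (by_contra fun b => hk (j + 1) (by omega) (by omega)
    ((((Nat.coprime_primes hp p2).2 h2).pow_right r).dvd_of_dvd_mul_left d)))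

theorem gd_ext {X : Type*} [Group X] [Finite X] {ι : X →* H} (j : Function.Injective ι) (i : I2 ι.range ⊤)
    (o : Nat.card (Out X) = 2) (c : Nat.card H = Nat.card X * 2) (cl : ∀ t : H, Iv t → ♯(𝐂₁ t) < Nat.card X)
    (h : ι.range.Normal → ♯ι.range = Nat.card X → 𝐂 ι.range = ⊥ → GenK ι.range ∨ ∃ p F, ExcK p F ι.range) :
    Gd.{u} X := by
  have n : ι.range.Normal := normalIn_top.1 ⟨le_top, i.norm le_top⟩
  have e := (Nat.card_congr (MonoidHom.ofInjective j).toEquiv).symm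
  exact gd_mdl (MonoidHom.ofInjective j) (fun q => eq_bot_iff.2 fun x m => by_contra fun r =>
    (cl x ⟨r, q.le ⟨i.sq trivial, mul_mem m m⟩⟩).not_ge (e ▸ card_le_of_le (le_cent1_iff.2 m))) (o ▸ c) (h n e)

theorem e5_map {X : Type*} [Group X] [Finite X] {ι : X →* H} (j : Function.Injective ι)
    (h : ∃ a : X, Iv a ∧ ∃ M, Comp M (𝐂₁ a)) : ∃ a ∈ ι.range, Iv a ∧ ∃ M, Comp M (ι.range ⊓ 𝐂₁ a) := by
  obtain ⟨a, i, M, q⟩ := h
  refine ⟨ι a, ⟨a, rfl⟩, ⟨mt (map_eq_one_iff ι j).1 i.ne, by rw [← map_mul, i.sq, map_one]⟩, M.map ι, ?_⟩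
  rw [MonoidHom.range_eq_map, ← map_inf_cent1 j, top_inf_eq]
  exact q.map ι (by rw [ne_eq, map_eq_bot_iff_of_injective _ j]; exact q.ne_bot)

end CF.Q16
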