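-- copy of `Known.Q16.Cer` avoiding a name clash (`Comp.syl_inf`) with `Sig.S4D`
/-
Quasithin groups of even type: certificates in permutation models.
-/
import Cfsg.Agent.NCq.Q16Ex
import Cfsg.Agent.Known.Inv.Cert2
import Cfsg.Agent.Fisch.St.Ext
set_option autoImplicit false
set_option linter.unusedSectionVars false

namespace CF.Q16
open Subgroup Cfsg CF.BG CF.Sig CF.CT CF.CmpT CF.Bender CF.Comp CF.Fisch CF.KI
open CF.Loc (IsCharP)

variable {G Ω : Type*} [Group G] [MulAction G Ω] {n k : ℕ} {D : Dom Ω n} {N : List Net} {f : ℕ → G}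
  {e : Fisch.Sm} {gs : List (List ℕ)} {c : List Lvl}

/-- the square of the net is the word `v` -/
noncomputable def sqOK (N : List Net) (n k : ℕ) (π : Net) (v : List ℕ) : Bool :=
  bnd (lettersLe (llen N) [v]) (sameW (lapp N [π]) n k [2 * llen N + 1, 2 * llen N + 1] v)

theorem model (hE : Exact D N f c ⊤) {m : ℕ} (hg : clo f (gensW m) = ⊤) (hk : n ≤ 2 ^ k) {π : Net}
    {ys : List (List ℕ)} (h : Bt.autOK N n k m π ys = true) {v : List ℕ} (h' : sqOK N n k π v = true) :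
    Wf n (lapp N [π]) ∧ ∃ ι : G →* Fisch.PG (lapp N [π]), Function.Injective ι ∧ I2 ι.range ⊤ := by
  unfold Bt.autOK at h
  rw [force_eq, brec_and, brec_and, brec_and, allFrom_zero, ble_iff, llen_eq] at h
  obtain ⟨h1, h2, h3, h4⟩ := h
  obtain ⟨h5, h6⟩ := brec_and.1 h'
  rw [llen_eq] at h5 h6
  have hw := wf_lapp hE.reps.wf (wf_of_wfAll h1)
  have := Fisch.PG.finite hw
  obtain ⟨ψ, q⟩ := Fisch.Reps.toPG hE.reps (top_le_iff.1 (Bt.Exact.le_range hE))
  have a : ∀ i < N.length, pf (lapp N [π]) i = pf N i := fun i hi => by rw [pf, pf, nth_lapp_lt _ _ hi]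
  have l : Fisch.PG N ≤ Fisch.PG (lapp N [π]) := (closure_le _).2 (by
    rintro _ ⟨i, rfl⟩
    exact (lt_or_ge i N.length).elim (fun hi => subset_closure ⟨i, a i hi⟩) fun hi => pf_eq_one hi ▸ one_mem _)
  set ι := (inclusion l).comp ψ
  set g := Fisch.pg (lapp N [π])
  have b : ∀ u w, ev (pf (lapp N [π])) u = ev (pf (lapp N [π])) w → ev g u = ev g w := fun u w e =>
    Subtype.ext ((map_ev (Subgroup.subtype _) g u).trans (e.trans (map_ev (Subgroup.subtype _) g w).symm))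
  have d : ∀ {ws w}, lettersLe N.length ws = true → w ∈ ws → ev g w ∈ ι.range := fun {ws w} x y =>
    ⟨ev f w, Subtype.ext ((congrArg Subtype.val (q.ev w)).trans ((map_ev (Subgroup.subtype _) _ w).trans
      ((ev_pf_lapp _ rfl x y).symm.trans (map_ev (Subgroup.subtype _) g w).symm)))⟩
  have r : ∀ i < N.length, ι (f i) = g i := fun i hi =>
    Subtype.ext ((congrArg Subtype.val (q.gen i)).trans (a i hi).symm)
  refine ⟨hw, ι, (injective_iff_map_eq_one _).2 fun x e => hE.faithful x trivial (q.eq_one.1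
    (inclusion_injective l (e.trans (map_one _).symm))), (i2_sup (u := g N.length) ?_ ?_).mono le_rfl ?_⟩
  · have := b _ _ (hw.sameW hk h6)
    rw [ev_cons, ev_single, evL_odd] at this
    exact this ▸ d h5 (List.mem_singleton_self _)
  · refine cj_eq_self.1 (eq_of_card_le ?_ (card_cj _ _).ge)
    conv_lhs => rw [MonoidHom.range_eq_map, ← hg, map_clo]
    refine map_le_iff_le_comap.2 (clo_le.2 fun w hw' => ?_)
    obtain ⟨i, hi, rfl⟩ := Bt.of_mem_gensW hw'
    have := b _ _ (hw.sameW hk (h4 i hi))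
    rw [ev_lapp, show Nat.succ (Nat.mul (nat_lit 2) N.length) = 2 * N.length + 1 from rfl,
      show Nat.succ (Nat.mul (nat_lit 2) i) = 2 * i + 1 from rfl, ev_cons, ev_cons, ev_single, evL_odd,
      ev_nil, mul_one, ← r i (hi.trans_le h2)] at this
    rw [ev_single, mem_comap]
    show g N.length * ι (f i) * (g N.length)⁻¹ ∈ _
    rw [← this, mul_inv_cancel_right]
    exact (nth_mem_or [] ys i).elim (d h3) fun e => by rw [e]; exact one_mem _
  · refine Fisch.pg_top.ge.trans ((closure_le _).2 ?_)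
    rintro _ ⟨i, rfl⟩
    rcases lt_trichotomy i N.length with hi | rfl | hi
    · exact mem_sup_left ⟨_, r i hi⟩
    · exact mem_sup_right (mem_zpowers _)
    · change g i ∈ _
      rw [show g i = 1 from Subtype.ext (pf_eq_one (by rw [lapp_eq]; simpa using hi))]
      exact one_mem _

theorem fresh' [Finite G] (hR : Reps D N f) (hn : n < 16777215) (hk : n ≤ 2 ^ k) {ws W : List (List ℕ)}
    {X X1 : List Net} (h1 : Bt.evsOK N n k X ws = true) {m : ℕ} (hl : llen ws = m)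
    (h2 : slpOK (lapp X X1) n k W m = true) {s : ℕ} (hs : Nat.card G ≤ s)
    (ok : Bt.geOK (lapp X X1) n c s = true) :
    Exact D (lapp X X1) (slp (evs f ws) W m) c ⊤ ∧ Nat.card G = s := by
  have e : X.length = m := by
    rw [← hl, ← llen_eq]; exact beq_iff.1 (brec_and.1 h1).1
  have h0 : ∀ i, m ≤ i → evs f ws i = 1 := fun i hi => evs_eq_one (by rwa [← llen_eq, hl])
  have hR := (Bt.reps_evs hR hk h1).extend hk (e ▸ h0) (e ▸ slp_of_slpOK h2)
  rw [e] at hR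
  exact ⟨Bt.exact_of_ge hR hn (fun _ _ => trivial) (card_top.trans_le hs) ok,
    hs.antisymm (card_top (G := G) ▸ ge_card hR hn (fun _ _ => mem_top _) ok)⟩

theorem card_i2 {X : Type*} [Group X] [Finite G] {ι : X →* G} (j : Function.Injective ι) (i : I2 ι.range ⊤) :
    Nat.card G ≤ Nat.card X * 2 := by
  have := i.card
  rwa [inf_top_eq, card_top, ← Nat.card_congr (MonoidHom.ofInjective j).toEquiv, mul_comm] at this

theorem cls_of [Finite G] (he : IsSm f e) (hS : CenS f 2 gs) {l m : ℕ} (hl : gs.length = l)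
    (hc : Nat.card G = 2 ^ l * m) (hm : ¬ 2 ∣ m) {X reps : List (List ℕ)} (hC : Cl f 2 gs ⊤ l X)
    {Ts : List To} (h : finOK e gs X ([] :: reps) Ts = true) {t : G} (i : Iv t) :
    ∃ r ∈ reps, IsConj (ev f r) t := by
  obtain ⟨x, -, r, hr, k⟩ := classes_of_sylow (P := clo f gs) (H := ⊤) le_top Nat.prime_two
    (by rw [card_top, hS.card0, hl, hc]) hm (R := fun y => ∃ r ∈ [] :: reps, y = ev f r)
    (hC.fin he (fun _ => mem_top _) hl h) t trivial i.pow2
  rcases List.mem_cons.1 hr with rfl | hr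
  · exact (i.ne (conj_eq_one_iff.1 k)).elim
  · exact ⟨r, hr, (isConj_iff.2 ⟨x, k⟩).symm⟩

variable [Finite G] (hE : Exact D N f c ⊤) (he : IsSm f e)
include hE he

theorem rk_cert {p b : ℕ} (hp : p.Prime) {x y : List ℕ} (hb : b < n) (h : lall (fun t => t) [ordOK e p x, ordOK e p y,
    comOK e [y] [x], fixW N b x, Bool.rec true false (fixW N b y)] = true) :
    ∃ x y : G, x ≠ 1 ∧ x ^ p = 1 ∧ y ^ p = 1 ∧ y ∈ 𝐂₁ x ∧ y ∉ zpowers x := by
  simp only [lall_iff (f := fun t => t), List.mem_cons, List.not_mem_nil, or_false, forall_eq_or_imp, forall_eq] at h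
  obtain ⟨a, b', c, d, g⟩ := h
  exact ⟨ev f x, ev f y, ne_one_of hp (he.ord hp a), pow_of (he.ord hp a), pow_of (he.ord hp b'),
    he.com_le1 c (ev_mem_clo f (List.mem_singleton_self _)), fun q => hE.reps.not_fixW hb
      (by revert g; cases fixW N b y <;> simp) (zpowers_le.2 (hE.reps.fixW hb d) q)⟩

theorem dvd_ge {xs us : List (List ℕ)} {c' : List Lvl} {s r m : ℕ} (h1 : memOK e xs (cgens c') us = true)
    (h2 : Bt.geOK N n c' s = true) (d : ♯(clo f xs) ∣ m) (h : m ≠ 0 ∧ ∀ d ∈ m.divisors, s ≤ d → r ∣ d) :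
    r ∣ ♯(clo f xs) := h.2 _ (Nat.mem_divisors.2 ⟨d, h.1⟩) (ge_card hE.reps hE.lt (he.mem h1) h2)

omit hE in
theorem ep_cert {p : ℕ} {xs : List (List ℕ)} {a : List ℕ} (q1 : powOK e p xs = true) (q2 : comOK e xs [a] = true) :
    clo f xs ≤ Ep p (𝐂₁ (ev f a)) :=
  clo_le.2 fun w m => mem_Ep (he.com_le1 q2 (ev_mem_clo f m)) (he.pow q1 w m)

variable (h0 : 0 < n) (hk : n ≤ 2 ^ k) {a : List ℕ} {fw kg : List (List ℕ)} {T : Bt.Tr}
  {m : ℕ} (h1 : Bt.stdS N n k c [a] [a] [] [] fw kg T m = true) {c' : List Lvl}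
  (h2 : comOK e (cgens c') [a] = true) (h3 : Bt.geOK N n c' m = true)
include h0 hk h1 h2 h3

theorem cp_two (hS : CenS f 2 gs) {qs us : List (List ℕ)} (q1 : memOK e gs qs us = true)
    (q2 : comOK e qs [a] = true) {vs : List (List (List ℕ))} (q3 : nrmOK e (cgens c') qs vs = true)
    {fw' kg' : List (List ℕ)} {T' : Bt.Tr} {m' : ℕ}
    (q4 : Bt.stdS N n k c qs qs [] [] fw' kg' T' m' = true) {cz : List Lvl} {ws : List (List ℕ)}
    (q5 : memOK e qs (cgens cz) ws = true) (q6 : comOK e (cgens cz) qs = true)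
    (q7 : Bt.geOK N n cz m' = true) : ∀ L, ¬ Comp L (𝐂₁ (ev f a)) :=
  nc_of (Bt.Blk.isCharP_of_self ((IsPGroup.of_card hS.card0).to_le (he.le q1)) (he.com_le1 q2)
    ((cent_exact hE he h0 hk h1 h2 h3).1.ge.trans (he.nrm q3))
    ((Bt.exact_of_ge hE.reps hE.lt (clo_le.1 (he.com_le q6)) (Bt.card_cent_clo_le hE h0 hk
      (Bt.std_of_S q4)) q7).eq_clo.ge.trans (he.le q5)))

theorem cz_cert {p j : ℕ} {F : Prop} (nc : ∀ L, ¬ Comp L (𝐂₁ (ev f a))) (hp : ¬ p ^ 2 ∣ m) (hj : j = 1 ∨ j = 2)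
    {xs : List (List ℕ)} {w : List ℕ} (q : lall (fun t => t) [powOK e p xs, comOK e xs [a], comOK e [w] xs,
      e (wpow w j) a, ordOK e 2 a] = true) {fw' kg' : List (List ℕ)} {T' : Bt.Tr}
    (q3 : Bt.stdS N n k c xs xs [] [] fw' kg' T' (2 * j) = true) (d : ♯(clo f xs) ∣ m →
      (p = 3 → 16 * (2 * j) ∣ ♯(clo f xs) ∧ (F → 128 ∣ ♯(clo f xs))) ∧ (p = 5 → j = 1 ∧ 3 ∣ ♯(clo f xs))) :
    CZ p F (ev f a) := by
  simp only [lall_iff (f := fun t => t), List.mem_cons, List.not_mem_nil, or_false, forall_eq_or_imp, forall_eq] at q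
  obtain ⟨q1, q2, q4, q5, q6⟩ := q
  have cm := (cent_exact hE he h0 hk h1 h2 h3).2
  have i := iv_of (he.ord p2 q6)
  have e1 := he.eq q5
  rw [ev_wpow] at e1
  have o : orderOf (ev f w) = 2 * j := by
    rcases hj with rfl | rfl
    · rw [← pow_one (ev f w), e1, i.orderOf]
    · exact orderOf_eq_prime_pow (p := 2) (n := 1) (e1 ▸ i.ne) (by rw [sq, pow_mul, e1, i.pow2])
  have d := d (cm ▸ card_dvd (he.com_le1 q2))
  exact ⟨nc, cm ▸ hp, clo f xs, ev f w, ep_cert he q1 q2, (eq_of_card_le (zpowers_le.2 (he.com_le q4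
    (ev_mem_clo f (List.mem_singleton_self _)))) (by
      rw [Nat.card_zpowers, o]; exact Bt.card_cent_clo_le hE h0 hk (Bt.std_of_S q3))).ge,
    e1 ▸ pow_mem (mem_zpowers _) j, o ▸ d.1, fun q => ⟨by rw [← e1, (d.2 q).1, pow_one], (d.2 q).2⟩⟩

theorem e5_cert (ok : AOK G) {p j : ℕ} (hp : p.Prime) (hp2 : p ≠ 2) {x g : List ℕ} (q1 : ordOK e 2 a = true)
    (q2 : ordOK e p x = true) (q3 : comOK e [x, g] [a] = true) (hj : ∀ i < j, 0 < i → ¬ p ∣ 2 ^ i - 1)
    (h : ♯(𝐂₁ (ev f a)) = m → ¬ 2 ^ (j + 1) ∣ ♯(𝐎 {2} (𝐂₁ (ev f a)))) : ∃ a : G, Iv a ∧ ∃ M, Comp M (𝐂₁ a) :=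
  ⟨_, iv_of (he.ord p2 q1), e5_of (by rw [← map_oddCore, (ok _ (he.ord p2 q1)).1, Subgroup.map_bot])
    (iv_of (he.ord p2 q1)) (he.com_le1 q3 (ev_mem_clo f (w := x) (by simp))) hp hp2 (he.ord hp q2) hj
      (h (cent_exact hE he h0 hk h1 h2 h3).2)⟩

end CF.Q16
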