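-- copy of `Known.Q16.Lie5` avoiding a name clash (`Comp.syl_inf`) with `Sig.S4D`
/-
Quasithin groups of even type: the twisted groups of Lie type.
-/
import Cfsg.Agent.NCq.Q16Lie4
set_option autoImplicit false
set_option linter.unusedSectionVars false

namespace CF.Q16
open Subgroup Cfsg CF.BG CF.Chev CF.BN CF.Chev.StRep CF.KG
open CF.CT (p2)

universe u

section
variable {B ι : Type} [Fintype B] [DecidableEq B] [Fintype ι] [DecidableEq ι]
  {C : ChevBasis B ι} {K : Type} [Field K] {G : Type} [Group G] {ρ : StRep C K G}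
  {T : Tw ρ} {G1 W : Subgroup G} {ω : ι → ℝ} {r s c δ : ι} [CharP K 2] {v : G} {t : K} {k : ℤ}

theorem Ld.cm1 (a : Ld ρ r t v) (h : C.Pos r ∧ C.Pos s ∧ C.vec c = C.vec s + C.vec r ∧ (C.N r s).natAbs = 1)
    (u : K) : Ld ρ c (t * u) (Q16.cm (ρ.x s u) v) := by
  simpa [cast_eq_one_of_two h.2.2.2, CharTwo.neg_eq] using a.cm h.1 h.2.1 h.2.2.1 u

theorem ld_fl (hv : v ∈ Fl ρ (k + 1)) (k0 : 0 ≤ k) (e : hgt C c ≤ k) : Ld ρ c 0 v :=
  ld_zero.2 (ρ.U_mono (fun s hs => And.intro (upC_le (by omega) s hs).1 fun l => by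
    have : hgt C s ≤ hgt C c := Finset.sum_le_sum fun j _ => l j
    have : k + 1 ≤ hgt C s := hs
    omega) hv)

theorem lm_count (M : LT 2 T G1 ω) (A : ρ.IsAdj) (hc : ∀ i, T.c (C.simple i) = 1 ∨ T.c (C.simple i) = -1)
    (hK : ∃ i, ∀ t, Crd ρ G1 i t)
    (h : Nat.card (ρ.H ⊓ G1 : Subgroup G) * Nat.card (Out G1) ≤ Nat.card T.TF * Nat.card (RingAut K)) :
    LM T G1 ω (· = 1) := ⟨M, A, fun ψ m => by
  have : Fact (Nat.Prime 2) := ⟨p2⟩
  obtain ⟨χ, υ, e⟩ := aut_count M A hc hK h m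
  exact ⟨_, mul_mem (A.diagAut_mem_Stab χ) (A.fieldAut_mem_Stab υ), ⟨_, _, _, A.std_mul χ υ, rfl⟩, e⟩⟩

theorem gd_tw {i : B} (M : LM T G1 ω (· = 1)) (h : ∀ t, Crd ρ G1 i t) (c : 4 < Nat.card K) (d : C.Top δ)
    (e : T.π δ = δ) (e' : T.c δ = 1) (e6 : ∀ t, (T.φ δ)^[6] t = t)
    (hb : ∀ y z, y ∈ ρ.Up ⊓ G1 → z ∈ ρ.Up ⊓ G1 → HB (ρ.Up ⊓ G1) y z → y ^ 2 = 1) : Gd.{u} G1 := by
  have := M.lt.finite
  have := M.lt.fin
  refine gd_inn (M.ta (fun y θ π a f k r s p => M.a1 h c k r (p ▸ s)) hb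
    (fun y θ π a f k r s p => M.c1 d ((M.lt.form.x_mem e e').2 (map_one _)) (fun υ q => ?_) k r (p ▸ s))
    fun _ _ _ _ _ _ _ _ _ _ a b c r s p r' s' p' n n' m =>
      absurd (M.d1 h a b c r (p ▸ s) r' (p' ▸ s') n n') m).gen
  let α : RingAut K := RingEquiv.ofBijective (T.φ δ) (Finite.injective_iff_bijective.1 (T.φ δ).injective)
  obtain ⟨j, rfl⟩ := mem_of_fix (Γ := zpowers α) (τ := υ) fun x hx =>
    q x ((M.lt.form.x_mem e e').2 (hx α (mem_zpowers α)))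
  have : α ^ 6 = 1 := RingEquiv.ext e6
  rw [← zpow_natCast, ← zpow_mul, mul_comm, zpow_mul, zpow_natCast, this, one_zpow]

omit [CharP K 2] in
theorem ind2 {φ : K →+* K} {b x y : K} (hb : φ b ≠ b) (h : ∀ a, x * a + y * φ a = 0) : x = 0 ∧ y = 0 := by
  have e := h 1
  rw [map_one] at e
  have : y = 0 := (mul_eq_zero.1 (by linear_combination h b - b * e : y * (φ b - b) = 0)).resolve_right
    (sub_ne_zero.2 hb)
  exact ⟨by simpa [this] using e, this⟩

theorem fl_D4 {ρ : StRep cD4 K G} (hρ : ρ.Faithful) {φ : K →+* K} (h3 : ∀ t, φ (φ (φ t)) = t) {b : K}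
    (hb : φ b ≠ b) (h1 : ρ.x 14 1 ∈ W) (h2 : ∀ a, ρ.x 18 a * (ρ.x 13 (φ a) * ρ.x 12 (φ (φ a))) ∈ W)
    (hk : k ≤ 5) (hv : v ∈ ρ.Up) (h : ∀ u ∈ W, cm u v ∈ Fl ρ (k + 1)) : v ∈ Fl ρ k := by
  refine mem_fl hρ hv fun r hr a m => ?_
  have r0 := pos_iff_hgt.1 hr
  have z : ∀ {u c t}, u ∈ W → hgt cD4 c = hgt cD4 r + 1 → Ld ρ c t (cm u v) → t = 0 := fun hu e l =>
    l.eq hρ (ld_fl (h _ hu) (by omega) (by omega))
  choose! f hf using fun s (q : cD4.Pos s ∧ hgt cD4 s = hgt cD4 r) => ex_ld q.1 q.2 m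
  suffices f r = 0 from this ▸ hf r ⟨hr, rfl⟩
  have p : ∀ s ∈ [12, 13], ∀ t, ρ.x s t ∈ ρ.Up := fun s q t => ρ.x_mem_U (by revert s; decide +kernel) t
  have y : ∀ {c a x y w}, cD4.Pos c ∧ hgt cD4 c = hgt cD4 r + 1 → Ld ρ c x (cm (ρ.x 18 a) v) →
      Ld ρ c y (cm (ρ.x 13 (φ a)) v) → Ld ρ c w (cm (ρ.x 12 (φ (φ a))) v) → x + (y + w) = 0 :=
    fun e l1 l2 l3 => z (h2 _) e.2 (l1.cm_mul e.1 (mul_mem (p 13 (by simp) _) (p 12 (by simp) _))
      (l2.cm_mul e.1 (p 12 (by simp) _) l3))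
  have o : ∀ {s c t}, (cD4.Pos s ∧ ∀ b, 1 ≤ hgt cD4 b → ¬ ∀ i, cD4.vec b i + cD4.vec s i ≤ cD4.vec c i) →
      Ld ρ c 0 (cm (ρ.x s t) v) := fun q => ld_cm0 q.1 one_pos (fl_one.ge hv) q.2
  have s1 : ∀ c, hgt cD4 c = hgt cD4 r + 1 ∧ cD4.Pos r ∧ cD4.Pos 14 ∧ cD4.vec c = cD4.vec 14 + cD4.vec r ∧
      (cD4.N r 14).natAbs = 1 → f r = 0 := fun c q =>
    (mul_one _).symm.trans (z h1 q.1 ((hf r ⟨hr, rfl⟩).cm1 q.2 1))
  have b2 : φ (φ b) ≠ φ b := φ.injective.ne hb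
  have b3 : b ≠ φ (φ b) := fun e => hb (by rw [e, h3]; exact e)
  have : r ∈ [18, 13, 12, 22] ∨ r = 14 ∨ r ∈ [15, 16, 19] ∨ r ∈ [17, 20, 21] := by
    have : hgt cD4 r < 5 := by omega
    revert hr this; generalize r = r; revert r; decide +kernel
  rcases this with q | rfl | q | q
  · exact (by decide +kernel : ∀ r ∈ [18, 13, 12, 22], ∃ c, hgt cD4 c = hgt cD4 r + 1 ∧ cD4.Pos r ∧ cD4.Pos 14 ∧
      cD4.vec c = cD4.vec 14 + cD4.vec r ∧ (cD4.N r 14).natAbs = 1) r q |>.elim s1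
  · simpa using y (c := 19) (a := 1) (by decide +kernel) ((hf 14 ⟨hr, rfl⟩).cm1 (by decide +kernel) _)
      (o (by decide +kernel)) (o (by decide +kernel))
  · have e : hgt cD4 r = 2 := by revert q; generalize r = r; revert r; decide +kernel
    rw [e] at hf y
    obtain ⟨e1, e2⟩ := ind2 (φ := φ) (x := f 15) (y := f 16) hb fun a => by
      simpa [h3] using y (c := 17) (a := φ (φ a)) (by decide +kernel) (o (by decide +kernel))
        ((hf 15 (by decide +kernel)).cm1 (by decide +kernel) _) ((hf 16 (by decide +kernel)).cm1 (by decide +kernel) _)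
    have e3 := y (c := 20) (a := 1) (by decide +kernel) ((hf 15 (by decide +kernel)).cm1 (by decide +kernel) _)
      (o (by decide +kernel)) ((hf 19 (by decide +kernel)).cm1 (by decide +kernel) _)
    simp only [List.mem_cons, List.not_mem_nil, or_false] at q
    rcases q with rfl | rfl | rfl
    exacts [e1, e2, by simpa [e1] using e3]
  · have e : hgt cD4 r = 3 := by revert q; generalize r = r; revert r; decide +kernel
    rw [e] at hf y
    have R := fun a => y (c := 22) (a := a) (by decide +kernel) ((hf 17 (by decide +kernel)).cm1 (by decide +kernel) _)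
      ((hf 20 (by decide +kernel)).cm1 (by decide +kernel) _) ((hf 21 (by decide +kernel)).cm1 (by decide +kernel) _)
    obtain ⟨e1, e2⟩ := ind2 (φ := φ) (x := f 17 * (b - φ (φ b))) (y := f 20 * (φ b - φ (φ b))) hb fun a => by
      have := R (a * b)
      simp only [map_mul] at this
      linear_combination this - φ (φ b) * R a
    have e1 := (mul_eq_zero.1 e1).resolve_right (sub_ne_zero.2 b3)
    have e2 := (mul_eq_zero.1 e2).resolve_right (sub_ne_zero.2 b2.symm)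
    simp only [List.mem_cons, List.not_mem_nil, or_false] at q
    rcases q with rfl | rfl | rfl
    exacts [e1, e2, by simpa [e1, e2] using R 1]

theorem unit_two {e : Kˣ} (h : e * e = 1) : e = 1 := Units.ext (by
  simpa [CharTwo.neg_eq] using mul_self_eq_one_iff.1 (congrArg Units.val h))
end

variable {K : Type} [Field K] [Fintype K] [CharP K 2] {q : ℕ}

theorem gd_3D4 (hq : IsPrimePow q) (hK : Fintype.card K = q ^ 3) : Gd.{u} (Lie.twistedD4 K q) := by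
  obtain ⟨φ, hφ, h4⟩ := exists_frobD4 hq hK
  have h := isGr_twD4 φ
  have e0 : cD4.simple 0 = 18 := by decide +kernel
  have M := ltD4 (p := 2) hφ h4
  have A := linkD4.isAdj K
  have : Fact (Nat.Prime 2) := ⟨p2⟩
  have c : ∀ t, Crd (repD4 K) (gD4 (repD4 K) q) 0 t := fun t => ⟨_, mul_mem ((repD4 K).x_mem_U (r := 13)
    (by decide +kernel) (φ t)) ((repD4 K).x_mem_U (r := 12) (by decide +kernel) (φ (φ t))),
      e0 ▸ mem_gD4₃ (Or.inl rfl) hφ t⟩
  have q2 := hq.two_le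
  have c8 : q < Nat.card K ∧ 4 < Nat.card K := by
    rw [Nat.card_eq_fintype_card, hK]
    constructor <;> nlinarith [Nat.pow_le_pow_left q2 2, pow_succ q 2]
  obtain ⟨b, hb⟩ : ∃ b, φ b ≠ b := by
    by_contra! n
    have := CF.BN.card_fix hq.one_lt hK
    rw [Nat.card_congr (Equiv.subtypeUnivEquiv fun t => (hφ t).symm.trans (n t))] at this
    omega
  have f := fun {k v} (a : k ≤ 5) => fl_D4 (W := (repD4 K).Up ⊓ gD4 (repD4 K) q) (v := v) A.faithful h4 hb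
    ⟨(repD4 K).x_mem_U (by decide +kernel) 1, mem_gD4₁ (.inl rfl) (one_pow q)⟩ (fun a => ⟨mul_mem
      ((repD4 K).x_mem_U (by decide +kernel) _) (mul_mem ((repD4 K).x_mem_U (by decide +kernel) _)
      ((repD4 K).x_mem_U (by decide +kernel) _)), mem_gD4₃ (Or.inl rfl) hφ a⟩) a
  refine (gd_tw (δ := 23) (lm_count M A (fun i => .inl (h.c_eq i)) ⟨0, c⟩
    (count_one M A (outD4 2 hq.one_lt hK hφ h4))) c c8.2 (by simp only [RootSys.Top, Pi.le_def]; decide +kernel)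
    (by rw [mdD4.π_eq h]; rfl) (unit_two (Emb.eU_mul_self _ _)) (fun t => by simp [h.φ_eq, h4])
    fun y z a b m => ?_).congr (packD4 hφ h4).e
  have := f le_rfl b.1 fun u hu => m.c u hu ▸ one_mem _
  exact sq_fl (k := 4) (by omega) (comm_hgt (by omega) (by decide +kernel)) (f (by omega) a.1 fun u hu =>
    (m.h u hu).elim (fun e => e ▸ one_mem _) fun e => e ▸ this)

theorem hb_A2 {G : Type} [Group G] {ρ : StRep (cbA 2) K G} (hρ : ρ.Faithful) {φ : K →+* K} {b l : K}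
    (hb : φ b ≠ b) (hl : φ l = l ∧ l ≠ 0 ∧ l ≠ 1) {W : Subgroup G} (h : ∀ a, ∃ s, ρ.x ((cbA 2).simple 0) a *
      (ρ.x ((cbA 2).simple 1) (φ a) * ρ.x (tA 1) s) ∈ W) {y z : G} (hy : y ∈ ρ.Up) (m : HB W y z) : y ^ 2 = 1 := by
  have p := (cbA 2).pos_simple
  have R := r2A (K := K)
  have e : ∀ i, hgt (cbA 2) ((cbA 2).simple i) = 1 := by simp only [RootSys.Pos, RootSys.Top, hgt, RootSys.ht_apply, vecA, cbA_simple, cbA_car, Pi.le_def]; decide +kernel +revert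
  choose f hf using fun i => ex_ld (p i) (e i) (fl_one.ge hy)
  choose g hg using h
  have k : ∀ a, Ld ρ (tA 1) (f 1 * a + f 0 * φ a) (cm _ y) := fun a => by
    simpa [R.N, R.symm.N, CharTwo.neg_eq] using ((hf 1).cm (p _) (p _) R.symm.add a).cm_mul R.pos
      (mul_mem (ρ.x_mem_U (p 1) _) (ρ.x_mem_U R.pos _)) (((hf 0).cm (p _) (p _) R.add (φ a)).cm_mul R.pos
      (ρ.x_mem_U R.pos _) (ld_cm0 (a := g a) R.pos one_pos (fl_one.ge hy) (by simp only [RootSys.Pos, RootSys.Top, hgt, RootSys.ht_apply, vecA, cbA_simple, cbA_car, Pi.le_def]; decide +kernel +revert)))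
  obtain ⟨e1, e0⟩ := ind2 hb (x := f 1) (y := f 0) fun a => by_contra fun n => by
    have q : f 1 * (l * a) + f 0 * φ (l * a) = l * (f 1 * a + f 0 * φ a) := by rw [map_mul, hl.1]; ring
    exact hl.2.2 (mul_right_cancel₀ n ((q ▸ m.two hρ (hg _) (hg _) (k (l * a)) (k a)
      (q ▸ mul_ne_zero hl.2.1 n) n :).trans (one_mul _).symm))
  refine sq_fl two_pos (comm_hgt two_pos (by simp only [RootSys.Pos, RootSys.Top, hgt, RootSys.ht_apply, vecA, cbA_simple, cbA_car, Pi.le_def]; decide +kernel +revert)) (mem_fl hρ hy fun r a b c => ?_)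
  clear c
  obtain rfl | rfl : r = (cbA 2).simple 0 ∨ r = (cbA 2).simple 1 := by revert r; simp only [RootSys.Pos, RootSys.Top, hgt, RootSys.ht_apply, vecA, cbA_simple, cbA_car, Pi.le_def]; decide +kernel +revert
  exacts [e0 ▸ hf 0, e1 ▸ hf 1]

theorem gd_U3 (hK : Fintype.card K = q ^ 2) (h2 : q ≠ 2) : Gd.{u} (PSU 3 K q) := by
  have : Fact (Nat.Prime 2) := ⟨p2⟩
  obtain ⟨f, -, hF⟩ := FiniteField.card K 2
  obtain ⟨j, -, hq⟩ := (Nat.dvd_prime_pow p2).1 (show q ∣ 2 ^ f.1 from hF ▸ hK ▸ dvd_pow_self q two_ne_zero)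
  have q1 : 1 < q := by
    have := Fintype.one_lt_card (α := K)
    rw [hK] at this
    exact (Nat.one_lt_pow_iff two_ne_zero).1 this
  have h32 : ¬ (2 + 1 = 3 ∧ q = 2) := fun e => h2 e.2
  obtain ⟨ψ, h1, -, h7⟩ := Cfsg.Agent.S2603.result (f := j) (Nat.pos_of_ne_zero fun e => by
    simp [e, hq] at q1) hq hK le_rfl h32
  have o : Nat.card (Out (PSU 3 K q)) = Nat.gcd 3 (q + 1) * Nat.card (RingAut K) := by
    rw [card_of_surj h1, h7, card_ringAut' (p := 2) (hK.trans (by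
      rw [hq, ← pow_mul, mul_comm])), card_mult, Nat.card_zmod]
  obtain ⟨φ, h3, h4, h5⟩ := Geom.exists_conj hK
  have h6 : 1 ≤ 2 := by omega
  have L := lt0U h6 hK h3 h4 h5 (p := 2)
  obtain ⟨u⟩ := nonempty_SU_equiv hK h3 h5 h6
  have e' := (L.nonempty_equiv u).some
  have h8 := card_H_quot L (tor_injective_slRep 2 K)
  have h9 := Geom.card_center_su hK h3 (Geom.isHerm_hermSesq h4 h5) (Geom.hermSesq_nondegenerate φ)
    (by simp) ((Geom.suToUG_injective (2 + 1) h3).comp u.injective) (ρ := (Geom.suToUG _ h3).comp u.toMonoidHom)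
    (by rw [MonoidHom.range_comp, MonoidHom.range_eq_top.2 u.surjective, ← MonoidHom.range_eq_map,
      Geom.suToUG_range])
  rw [Module.finrank_fin_fun] at h9
  have A := adjA (K := K) 2 h6
  have hk : 2 * (0 : Fin 2).val + 2 = 2 := rfl
  obtain ⟨a5, a6, a7, a8, a9, -⟩ := heisU_aux hk
  have p := (cbA 2).pos_simple
  have R := r2A (K := K)
  let ρ := (slRep 2 K).quot
  have m : ∀ a, ∃ s, ρ.x ((cbA 2).simple 0) a * (ρ.x ((cbA 2).simple 1) (φ a) * ρ.x (tA 1) s) ∈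
      (twU h6 φ).Fix.map (QuotientGroup.mk' _) := fun t => by
    obtain ⟨s, hs⟩ := exists_trace_eq hK h3 (a := t * φ t) (by rw [map_mul, h5, mul_comm])
    refine ⟨s, _, (heis_mem_Fix a5 a6 a7 h6 a8 a9 (φ := φ) (t := t) (u := φ t) (s := s)).2
      ⟨by simp [h5, CharTwo.neg_eq], CharTwo.neg_eq _, by rw [h5, mul_comm, ← hs, CharTwo.neg_eq, CharTwo.sub_eq_add, add_comm s, CharTwo.add_cancel_left]⟩, ?_⟩
    rw [cbA_simple, cbA_simple, heis, map_mul, map_mul]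
    rfl
  have c : ∀ t, Crd ρ ((twU h6 φ).Fix.map (QuotientGroup.mk' _)) 0 t := fun t => (m t).elim fun s m =>
    ⟨_, mul_mem (ρ.x_mem_U (And.intro (p 1) (by simp only [RootSys.Pos, RootSys.Top, hgt, RootSys.ht_apply, vecA, cbA_simple, cbA_car, Pi.le_def]; decide +kernel +revert)) _) (ρ.x_mem_U (And.intro R.pos (by simp only [RootSys.Pos, RootSys.Top, hgt, RootSys.ht_apply, vecA, cbA_simple, cbA_car, Pi.le_def]; decide +kernel +revert)) _), m⟩
  obtain ⟨b, hb⟩ := not_forall.1 fun q : ∀ t, φ t = t => h4 (RingHom.ext q)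
  obtain ⟨l, hl⟩ := exists_fix_ne (τ := RingEquiv.ofBijective φ (Function.Involutive.bijective h5)) (by
    have := CF.BN.card_fix q1 hK
    simp only [← h3] at this
    exact (show 2 < q by omega).trans_eq this.symm)
  refine (gd_tw (δ := tA 1) (lm_count (L.quot (le_sup_of_le_left (genU h6 hK h3 h4 h5 le_rfl h32))) A
    (fun _ => .inr rfl) ⟨0, c⟩ (by rw [← Nat.card_congr (outCongr e').toEquiv, o, ← mul_assoc, ← h9, h8]; rfl)) c
    (by rw [Nat.card_eq_fintype_card, hK]; nlinarith [show 3 ≤ q by omega]) (by simp only [RootSys.Pos, RootSys.Top, hgt, RootSys.ht_apply, vecA, cbA_simple, cbA_car, Pi.le_def]; decide +kernel +revert) rfl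
    (unit_two (neg_mul_neg _ _ |>.trans (one_mul _))) (fun t => (h5 _).trans ((h5 _).trans (h5 _)))
    fun y z a _ => hb_A2 A.faithful hb hl (fun a => (m a).imp fun s m => mem_inf.2 ⟨mul_mem (ρ.x_mem_U (p 0) _)
      (mul_mem (ρ.x_mem_U (p 1) _) (ρ.x_mem_U R.pos _)), m⟩) a.1).congr e'

end CF.Q16
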