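-- copy of `Known.Q16.M11` avoiding a name clash (`Comp.syl_inf`) with `Sig.S4D`
/-
Quasithin groups of even type: `M11`, `M23`.
-/
import Cfsg.Agent.NCq.Q16Cer
import Cfsg.Agent.Known.Inv.Sp.M11
import Cfsg.Agent.Known.Inv.Sp.M23
import Cfsg.Agent.Bt.Out.M11
import Cfsg.Agent.Bt.Out.M23
set_option autoImplicit false
set_option maxRecDepth 1000000

namespace CF.Q16
open CF.Comp CF.Fisch CF.KI

universe u

open KI.M11 in
theorem gd_M11 : Gd.{u} Cfsg.Spor.M11 := by
  obtain ⟨hE, -⟩ := Bt.Exact.fresh Mat.iExact (by decide) (fun w _ => ev_mem Mat.iMem w) h1 (m := 2) rfl h2 Mat.card_M11 h3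
  have hf := slp_mem (Bt.evs_mem (ws := ws) (fun w _ => ev_mem Mat.iMem w)) W 2
  replace hE := Bt.exact_sub_top hE hf
  have := Bt.Exact.finite_top hE
  have he := isSm_eqM hE.reps (by decide) (Exact.based hE fun _ => trivial) e1 e2 e3
  have hS := cenS_of hE he rfl s1 s2 s3
  have h := Cl.st he hS (Cl.zero ⊤) l0
  replace h := Cl.st he hS h l1
  replace h := Cl.st he hS h l2
  replace h := Cl.st he hS h l3
  have cl := fun t => cls_of he hS (l := 4) rfl (m := 495) (Mat.card_M11.trans (by norm_num)) (by norm_num) h fin (t := t)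
  simp only [List.mem_cons, List.not_mem_nil, or_false, exists_eq_or_imp, exists_eq_left] at cl
  have n0 := cp_two hE he (by decide) (by decide) a01 a02 a03 hS a04 a05 a06 a07 a08 a09 a00
  exact gd_top Bt.OutM11.out fun _ => .inl (gen_loc fun t a => nc_conj n0 (cl t a))

open KI.M23 in
theorem gd_M23 : Gd.{u} Cfsg.Spor.M23 := by
  obtain ⟨hE, -⟩ := Bt.Exact.fresh Mat.cExact (by decide) (fun w _ => ev_mem Mat.cMem w) h1 (m := 2) rfl h2 Mat.card_M23 h3
  have hf := slp_mem (Bt.evs_mem (ws := ws) (fun w _ => ev_mem Mat.cMem w)) W 2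
  replace hE := Bt.exact_sub_top hE hf
  have := Bt.Exact.finite_top hE
  have he := isSm_eqM hE.reps (by decide) (Exact.based hE fun _ => trivial) e1 e2 e3
  have hS := cenS_of hE he rfl s1 s2 s3
  have h := Cl.st he hS (Cl.zero ⊤) l0
  replace h := Cl.st he hS h l1
  replace h := Cl.st he hS h l2
  replace h := Cl.st he hS h l3
  replace h := Cl.st he hS h l4
  replace h := Cl.st he hS h l5
  replace h := Cl.st he hS h l6
  have cl := fun t => cls_of he hS (l := 7) rfl (m := 79695) (Mat.card_M23.trans (by norm_num)) (by norm_num) h fin (t := t)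
  simp only [List.mem_cons, List.not_mem_nil, or_false, exists_eq_or_imp, exists_eq_left] at cl
  have n0 := cp_two hE he (by decide) (by decide) a01 a02 a03 hS a04 a05 a06 a07 a08 a09 a00
  exact gd_top Bt.OutM23.out fun _ => .inl (gen_loc fun t a => nc_conj n0 (cl t a))

end CF.Q16
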