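-- copy of `Known.Q16.Rk` avoiding a name clash (`Comp.syl_inf`) with `Sig.S4D`
/-
Quasithin groups of even type: groups of Lie type of large odd rank.
-/
import Cfsg.Agent.NCq.Q16Lie5
set_option autoImplicit false
set_option linter.unusedSectionVars false

namespace CF.Q16
open Subgroup Cfsg CF.BG CF.Chev CF.BN CF.Chev.StRep CF.KG Matrix
open CF.CT (p2)

/-- some odd rank is at least three -/
def RK (X : Type*) [Group X] : Prop := ∃ p : ℕ, p.Prime ∧ p ≠ 2 ∧ 3 ≤ BG.pRank p (⊤ : Subgroup X)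

section
variable {G X Y : Type*} [Group G] [Group X] [Group Y] {p : ℕ} {a b c x y z a' b' x' y' : G} {H : Subgroup G}

theorem RK.congr [Finite Y] (h : RK Y) (e : X ≃* Y) : RK X := h.imp fun p h =>
  have := Finite.of_equiv _ e.symm.toEquiv
  ⟨h.1, h.2.1, h.2.2.trans_eq (pRank_congr p ⟨(topEquiv.trans e).trans topEquiv.symm⟩).symm⟩

theorem RK.not_sq [Finite G] (h : RK X) (k : PiGrp {2} (𝐙 H)) (e : H ⧸ center H ≃* X) : ¬ SQ H := fun q => by
  obtain ⟨p, hp, h2, r⟩ := h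
  have z := (center_normal H).norm
  have := Finite.of_equiv _ e.toEquiv
  have e := e.trans topEquiv.symm
  have := q p hp h2
  rw [← pRank_qt z (k.of_single' (by simpa using h2.symm)), ← pRank_congr p (iso_of_ker_eq
    (f := e.toMonoidHom.comp (QuotientGroup.mk' _)) (e.surjective.comp (QuotientGroup.mk'_surjective _))
    (qtHom_surj z) (by
      ext x
      rw [qtHom_ker, mem_subgroupOf, MonoidHom.mem_ker]
      simpa [mem_ctr] using fun _ => x.2))] at this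
  omega

variable (p a x) in
/-- an element of order `p` not commuting with an involution -/
structure PX : Prop where
  e : a ^ p = 1
  x2 : x * x = 1
  nc : ¬ Commute a x

theorem PX.core (h : PX p a x) (hp : p.Prime ∧ p ≠ 2) (e : a * x = x * a * z) (c : Commute a z)
    (c' : Commute x z) : False := h.nc (by
  have e1 : z ^ 2 = 1 := by
    have := c'.mul_pow 2
    rwa [show x * z = a * x * a⁻¹ by rw [e, mul_assoc x, c.eq]; group, conj_pow, pow_two x, h.x2, mul_one,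
      mul_inv_cancel, one_mul, eq_comm] at this
  have e2 : z ^ p = 1 := by
    have := c.mul_pow p
    rwa [show a * z = x⁻¹ * a * x⁻¹⁻¹ by rw [inv_inv, mul_assoc, e]; group, conj_pow, h.e, mul_one,
      mul_inv_cancel, one_mul, eq_comm] at this
  have := pow_gcd_eq_one.2 ⟨e1, e2⟩
  rw [(Nat.coprime_primes p2 hp.1).2 hp.2.symm, pow_one] at this
  rwa [this, mul_one] at e)

theorem PX.map (h : PX p a x) (hp : p.Prime ∧ p ≠ 2) (f : G →* X) (k : f.ker ≤ center G) :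
    PX p (f a) (f x) := ⟨by rw [← map_pow, h.e, map_one], by rw [← map_mul, h.x2, map_one], fun q =>
  have z := mem_center_iff.1 (k (show f ((x * a)⁻¹ * (a * x)) = 1 by simp [q.eq]))
  h.core hp (by group) (z a) (z x)⟩

theorem PX.mul (h : PX p a x) (hp : p.Prime ∧ p ≠ 2) (h' : PX p b y) (c1 : Commute a b) (c2 : Commute a y)
    (c3 : Commute x b) (c4 : Commute x y) : PX p (a * b) (x * y) :=
  ⟨by rw [c1.mul_pow, h.e, h'.e, one_mul], sq_mul h.x2 h'.x2 c4.symm, fun q => h.core hp (z := y * b * (b * y)⁻¹)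
    (by rw [← mul_assoc, ← c2.symm.mul_mul_mul_comm, ← q.eq, c3.symm.mul_mul_mul_comm]; group)
    ((c2.mul_right c1).mul_right (c1.mul_right c2).inv_right) ((c4.mul_right c3).mul_right (c3.mul_right c4).inv_right)⟩

variable (p a b c x y z) in
/-- three independent elements -/
structure R3 : Prop where
  hp : p.Prime ∧ p ≠ 2
  h1 : PX p a x
  h2 : PX p b y
  h3 : PX p c z
  c : Commute b a ∧ Commute c a ∧ Commute c b ∧ Commute b x ∧ Commute c x ∧ Commute c y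

theorem R3.map (h : R3 p a b c x y z) (f : G →* X) (k : f.ker ≤ center G) :
    R3 p (f a) (f b) (f c) (f x) (f y) (f z) :=
  have ⟨c1, c2, c3, c4, c5, c6⟩ := h.c
  ⟨h.hp, h.h1.map h.hp f k, h.h2.map h.hp f k, h.h3.map h.hp f k,
    c1.map f, c2.map f, c3.map f, c4.map f, c5.map f, c6.map f⟩

theorem R3.rk [Finite G] (h : R3 p a b c x y z) (ha : a ∈ H) (hb : b ∈ H) (hc : c ∈ H) : RK H :=
  ⟨p, h.hp.1, h.hp.2, by
    rw [pRank_congr (H' := H) p ⟨topEquiv⟩]
    obtain ⟨c1, c2, c3, c4, c5, c6⟩ := h.c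
    have k : ∀ {u v : G}, Commute u v → zpowers u ≤ 𝐂₁ v := fun q => zpowers_le.2 (mem_cent1.2 q)
    have E := two_elem h.hp.1 hc hb (fun e => h.h3.nc (e ▸ .one_left _)) h.h3.e h.h2.e (mem_cent1.2 c3.symm)
      fun m => h.h2.nc (mem_cent1.1 (k c6 m))
    exact (E.sup_one (elem_zpowers' h.hp.1 ha h.h1.e fun e => h.h1.nc (e ▸ .one_left _))
      (zpowers_le.2 (le_cent1_iff.1 (sup_le (k c2) (k c1))))
      fun m => h.h1.nc (mem_cent1.1 (sup_le (k c5) (k c4) (zpowers_le.1 m)))).le_pRank⟩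

theorem R3.quot [Finite G] (h : R3 p a b c x y z) : RK (G ⧸ center G) :=
  ((h.map (QuotientGroup.mk' _) (QuotientGroup.ker_mk' _).le).rk (H := ⊤) trivial trivial trivial).congr
    topEquiv.symm

theorem R3.sub {a b c x y z : H} (h : R3 p a.1 b.1 c.1 x.1 y.1 z.1) : R3 p a b c x y z :=
  have k : ∀ {a x : H}, PX p a.1 x.1 → PX p a x := fun h =>
    ⟨Subtype.ext h.e, Subtype.ext h.x2, fun q => h.nc (congrArg Subtype.val q)⟩
  have ⟨c1, c2, c3, c4, c5, c6⟩ := h.c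
  ⟨h.hp, k h.h1, k h.h2, k h.h3, Subtype.ext c1, Subtype.ext c2, Subtype.ext c3, Subtype.ext c4, Subtype.ext c5,
    Subtype.ext c6⟩

end

section
variable {B ι : Type} [Fintype B] [DecidableEq B] [Fintype ι] [DecidableEq ι]
  {C : ChevBasis B ι} {K : Type} [Field K] {G : Type} [Group G] {ρ : StRep C K G}
  {T : Tw ρ} {G1 : Subgroup G} {r s t t' : ι} [CharP K 2] [Finite G]

theorem so_long (hl : ∀ z, C.len z ≤ C.len r) (h : C.A r s = 0) : SO C r s := by
  refine ⟨fun e => by simp [e] at h, fun e => by simp [e, RootSys.A_neg_right] at h, fun v => ⟨fun e => ?_, fun e => ?_⟩⟩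
  · have a := C.A_add e r
    obtain rfl : v = r := by_contra fun n => by have := RootSys.A_le_one_of_long hl n; simp [h] at a; omega
    exact C.vec_ne_zero s (by simpa using e)
  · have a := C.A_sub e r
    obtain rfl : v = C.neg r := by_contra fun n => by
      have := RootSys.neg_one_le_A_of_long hl n; simp [h] at a; omega
    exact C.vec_ne_zero s (by simpa [C.vec_neg, sub_eq_add_neg] using e)

variable (ρ) in
/-- an element of order three -/
abbrev e3 (r : ι) : G := ρ.x r 1 * ρ.x (C.neg r) 1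

theorem px (hρ : ρ.Faithful) (r : ι) : PX 3 (e3 ρ r) (ρ.x r 1) := by
  have q : ∀ r, ρ.x r 1 * ρ.x r 1 = 1 := fun r => by rw [← ρ.x_add, CharTwo.add_self_eq_zero, ρ.x_zero]
  have e := ρ.n_neg r 1
  simp only [PreSt.n, C.neg_neg, inv_one, Units.val_one, Units.val_neg, CharTwo.neg_eq, inv_neg] at e
  have e' : e3 ρ r ^ 3 = 1 := by
    rw [show ∀ a b : G, (a * b) ^ 3 = a * b * a * (b * a * b) from fun a b => by simp [pow_succ, mul_assoc], e,
      mul_assoc, ← mul_assoc (ρ.x r 1) (ρ.x r 1 * _), ← mul_assoc (ρ.x r 1) (ρ.x r 1), q, one_mul, mul_assoc,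
      ← mul_assoc (ρ.x (C.neg r) 1), q, one_mul, q]
  refine ⟨e', q r, fun c => ?_⟩
  have c : ρ.x (C.neg r) 1 * ρ.x r 1 = e3 ρ r := mul_left_cancel (a := ρ.x r 1) (by rw [← c.eq, mul_assoc])
  rw [pow_succ, pow_two, sq_mul (q _) (q _) c, one_mul, ← q r, mul_right_inj] at e'
  have k := x_mem_Bo_iff hρ (r := r) one_ne_zero
  rw [← e', x_mem_Bo_iff hρ one_ne_zero, C.pos_neg_iff] at k
  exact iff_not_self k.symm

theorem so_c (h : SO C r s) : (Commute (e3 ρ r) (e3 ρ s) ∧ Commute (e3 ρ r) (ρ.x s 1)) ∧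
    Commute (ρ.x r 1) (e3 ρ s) ∧ Commute (ρ.x r 1) (ρ.x s 1) :=
  have a : ∀ r, ρ.x r 1 ∈ ρ.U {r, C.neg r} := fun _ => ρ.x_mem_U (.inl rfl) 1
  have b : ∀ r, e3 ρ r ∈ ρ.U {r, C.neg r} := fun r => mul_mem (a r) (ρ.x_mem_U (.inr rfl) 1)
  ⟨⟨h.commute_U (b _) (b _), h.commute_U (b _) (a _)⟩, h.commute_U (a _) (b _), h.commute_U (a _) (a _)⟩

theorem p3 : Nat.Prime 3 ∧ 3 ≠ 2 := by norm_num

theorem rk_triv (A : ρ.IsAdj) (h : SO C s r ∧ SO C t r ∧ SO C t s) : RK G :=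
  (R3.rk (H := ⊤) ⟨p3, px A.faithful r, px A.faithful s, px A.faithful t, (so_c h.1).1.1, (so_c h.2.1).1.1,
    (so_c h.2.2).1.1, (so_c h.1).1.2, (so_c h.2.1).1.2, (so_c h.2.2).1.2⟩ trivial trivial trivial).congr topEquiv.symm

theorem rk_tw (F : T.Form G1) (c : ∀ r, T.c r = 1) (e : T.π r = r ∧ T.π s = s ∧ T.π t = t' ∧ T.π t' = t)
    (h : SO C s r ∧ SO C t r ∧ SO C t s ∧ SO C t' r ∧ SO C t' s ∧ SO C t t' ∧ C.Pos t ∧ C.Pos t') : RK G1 := by
  obtain ⟨h1, h2, h3, h4, h5, h6, h7, h8⟩ := h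
  have m : ∀ r, T.π r = r → e3 ρ r ∈ G1 := fun r e => mul_mem ((F.x_mem e (c _)).2 (map_one _))
    ((F.x_mem (by rw [T.π_neg, e]) (c _)).2 (map_one _))
  refine R3.rk ⟨p3, px T.faith r, px T.faith s, (px T.faith t).mul p3 (px T.faith t') (so_c h6).1.1 (so_c h6).1.2
    (so_c h6).2.1 (so_c h6).2.2, (so_c h1).1.1, (so_c h2).1.1.mul_left (so_c h4).1.1,
    (so_c h3).1.1.mul_left (so_c h5).1.1, (so_c h1).1.2, (so_c h2).1.2.mul_left (so_c h4).1.2,
    (so_c h3).1.2.mul_left (so_c h5).1.2⟩ (m r e.1) (m s e.2.1) ?_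
  rw [(h6.neg_left.commute _ _ _).mul_mul_mul_comm]
  exact mul_mem (F.Up_le ⟨mul_mem (ρ.x_mem_U h7 1) (ρ.x_mem_U h8 1), (T.fix₂ e.2.2.1 e.2.2.2 (c _) (c _) h6
    (isNil_of_pos' (by simp [h7, h8]))).2 ⟨map_one _, map_one _⟩⟩) (F.Um_le ⟨mul_mem
      (ρ.x_mem_U (by simpa [C.pos_neg_iff] using h7) 1) (ρ.x_mem_U (by simpa [C.pos_neg_iff] using h8) 1),
      (T.fix₂ (by rw [T.π_neg, e.2.2.1]) (by rw [T.π_neg, e.2.2.2]) (c _) (c _) h6.neg
        (isNil_of_pos' (by simp [h7, h8, C.pos_neg_iff]))).2 ⟨map_one _, map_one _⟩⟩)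

theorem rk_simple (A : ρ.IsAdj) {i j k : B} (h : (j ≠ i ∧ k ≠ i ∧ k ≠ j) ∧ C.car j i = 0 ∧ C.car k i = 0 ∧
    C.car k j = 0) : RK G :=
  have s := fun {i j} (a : i ≠ j) b => so_of_orth (C := C) a b ((C.car_eq_zero_comm _ _).1 b)
  rk_triv A ⟨s h.1.1 h.2.1, s h.1.2.1 h.2.2.1, s h.1.2.2 h.2.2.2⟩
end

variable {K : Type} [Field K] [Fintype K] [CharP K 2] {m n q : ℕ}

theorem fin_adj {B ι : Type} [Fintype B] [DecidableEq B] [Fintype ι] [DecidableEq ι] {C : ChevBasis B ι}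
    {G : Type} [Group G] {ρ : StRep C K G} (A : ρ.IsAdj) : Finite G := A.r3.finite A.faithful A.gp

theorem rk_A (h : 5 ≤ n) : RK (ProjectiveSpecialLinearGroup (Fin (n + 1)) K) :=
  rk_simple (adjA n (by omega)) (i := ⟨0, by omega⟩) (j := ⟨2, by omega⟩) (k := ⟨4, by omega⟩) (by simp [cbA_car])

theorem rk_C (h : 3 ≤ m) : RK (PSp m K) := by
  have A := adj_quot (faithful_spRep m K (by omega)) (spRep_Gp m K)
  have := fin_adj A
  choose r e using (baseBC (c := 1) (m := 2 * m) (n := m) (.inl rfl) rfl).exists_long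
  have s : ∀ a b : Fin (2 * m), a.val < 3 → b.val < 3 → a.val ≠ b → SO (cbC m) (r a) (r b) := fun a b x y z =>
    so_long (fun z => by
      rw [BaseO.cb_len, BaseO.cb_len, ← dot_eq_lenO (r a).2.1, show wtO _ - wtO _ = _ from e a,
        dot_eq_lenO (by simp [Fin.ext_iff]; omega)]
      simp only [lenO, Fin.val_rev]
      split_ifs <;> omega) (by
      rw [BaseO.A_long _ (e a) (e b)]
      simp only [dlt, Fin.val_rev]
      split_ifs <;> omega)
  exact rk_triv A (r := r ⟨0, by omega⟩) (s := r ⟨1, by omega⟩) (t := r ⟨2, by omega⟩)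
    ⟨s _ _ (by simp) (by simp) (by simp), s _ _ (by simp) (by simp) (by simp), s _ _ (by simp) (by simp) (by simp)⟩

theorem rk_D (h : 4 ≤ m) : RK (POmega K (quadFormPlus m K)) :=
  have A := adj_quot (faithful_omRepD K (n := m) (by omega)) (omRepD_Gp K (by omega))
  have := fin_adj A
  rk_simple A (i := ⟨0, by omega⟩) (j := ⟨m - 2, by omega⟩) (k := ⟨m - 1, by omega⟩) (by
    simp only [cbD_car, Ne, Fin.ext_iff]
    refine ⟨by omega, ?_, ?_, ?_⟩ <;> simp (disch := omega) only [if_neg])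

theorem rk_F4 : RK (Lie.chevF4.group K) :=
  have := fin_adj (linkF4.isAdj K)
  rk_triv (C := cF4) (linkF4.isAdj K) (r := 33) (s := 25) (t := 47) (by decide +kernel)

theorem rk_E6 : RK (Lie.chevE6.group K) :=
  have := fin_adj (linkE6.isAdj K)
  rk_simple (C := cE6) (linkE6.isAdj K) (i := 0) (j := 1) (k := 4) (by decide +kernel)

theorem rk_E7 : RK (Lie.chevE7.group K) :=
  have := fin_adj (goodE7.link.isAdj K)
  rk_simple (goodE7.link.isAdj K) (i := ⟨0, by decide⟩) (j := ⟨1, by decide⟩) (k := ⟨4, by decide⟩) (by decide +kernel)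

theorem rk_E8 : RK (Lie.chevE8.group K) :=
  have := fin_adj (goodE8.link.isAdj K)
  rk_simple (goodE8.link.isAdj K) (i := ⟨0, by decide⟩) (j := ⟨1, by decide⟩) (k := ⟨4, by decide⟩) (by decide +kernel)

theorem rk_2E6 (hq : IsPrimePow q) (hK : Fintype.card K = q ^ 2) : RK (Lie.twistedE6 K q) := by
  obtain ⟨φ, hφ, h4⟩ := exists_frobE6 hq hK
  have h := isGr_twE6 φ
  have M := ltE6 (p := 2) hφ h4
  have := M.finite
  have hp : (twE6 φ).p = pE6 := h.p_eq
  refine (rk_tw M.form (fun _ => unit_two (Emb.eU_mul_self _ _)) (r := 71) (s := cE6.simple 3) (t := cE6.simple 0)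
    (t' := cE6.simple 5) ⟨cE6.vec_inj (funext fun i => ?_), ?_⟩ (by decide +kernel)).congr (packE6 hφ h4).e
  · have v : ∀ i, cE6.vec ((twE6 φ).π 71) (pE6 i) = cE6.vec 71 i := fun i => by
      simpa [h.p_eq] using! h.compat (by simp only [carE6']; decide) 71 i
    rw [← pE6.apply_symm_apply i, v]
    revert i; decide +kernel
  · simp only [Tw.π_simple, hp]; decide +kernel

theorem rk_2D {a b : K} (hm : 4 ≤ m) (hab : ∀ z₁ z₂ : K, z₁ ^ 2 + a * z₁ * z₂ + b * z₂ ^ 2 = 0 → z₁ = 0 ∧ z₂ = 0) :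
    RK (POmega K (quadFormMinus (m - 1) K a b)) := by
  have : Fact (Nat.Prime 2) := ⟨p2⟩
  obtain ⟨L, _, _, i, φ, w, h1, h4, h5, h6, h7⟩ := exists_quadExt hab
  have : CharP L 2 := charP_of_injective_ringHom i.injective 2
  have hQ (v) : Geom.qMinus (m - 1) L (-(w + φ w)) (w * φ w) (i ∘ v) = i (Geom.qMinus (m - 1) K a b v) := by
    rw [h6, h7, qMinus_comp]
  have hn : 2 ≤ m - 1 := by omega
  obtain ⟨M, h8⟩ := lt0O' h1 h4 hn hab h5 hQ (p := 2)
  obtain ⟨e'⟩ := M.nonempty_equiv (MonoidHom.ofInjective (omMap_injective hQ)).symm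
  have M := M.quot (le_sup_of_le_left h8)
  have := M.finite
  have s : ∀ r s : RtO 2 (2 * (m - 1 + 1)), pairO s.1.1 r.1.1 r.1.2 - pairO s.1.2 r.1.1 r.1.2 = 0 →
      SO (cbD (m - 1 + 1) (by omega)) r s := fun r s e =>
    so_long (fun z => (sameLenD _ z r).le) ((BaseO.cb_A _ _ _).trans e)
  refine (rk_tw M.form (fun _ => rfl) (r := ⟨(⟨0, by omega⟩, ⟨1, by omega⟩), by simp; omega⟩)
    (s := ⟨(⟨0, by omega⟩, ⟨2 * m - 2, by omega⟩), by simp; omega⟩)
    (t := ⟨(⟨m - 2, by omega⟩, ⟨m - 1, by omega⟩), by simp; omega⟩)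
    (t' := ⟨(⟨m - 2, by omega⟩, ⟨m, by omega⟩), by simp; omega⟩) ⟨?_, ?_, ?_, ?_⟩
    ⟨s _ _ ?_, s _ _ ?_, s _ _ ?_, s _ _ ?_, s _ _ ?_, s _ _ ?_, ?_, ?_⟩).congr e'
  iterate 4
    refine Subtype.ext (Prod.ext (Fin.ext ((val_swM _).trans ?_)) (Fin.ext ((val_swM _).trans ?_))) <;>
      simp (disch := omega) only [if_neg, if_pos, if_true] <;> omega
  iterate 6 simp (disch := omega) only [pairO, dlt, if_neg, if_pos]; rfl
  all_goals rw [BaseO.cb_pos]; simp [Fin.lt_def]; omega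

section
variable (l : Kˣ)

/-- diagonal matrices -/
def dg (c : List ℤ) (h : ∏ k : Fin n, l ^ c.getD k 0 = 1) : SpecialLinearGroup (Fin n) K :=
  ⟨diagonal fun k => (l ^ c.getD k 0 : Kˣ), by rw [det_diagonal, ← Units.coe_prod, h, Units.val_one]⟩

/-- transpositions -/
def sw (i j : Fin n) : SpecialLinearGroup (Fin n) K := ⟨(Equiv.swap i j).permMatrix K, by
  rw [det_permutation]
  rcases Int.units_eq_one_or (Equiv.Perm.sign (Equiv.swap i j)) with e | e <;> simp [e, CharTwo.neg_eq]⟩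

variable {l} {c c' : List ℤ} {h : ∏ k : Fin n, l ^ c.getD k 0 = 1} {h' : ∏ k : Fin n, l ^ c'.getD k 0 = 1}
  {i j : Fin n} {p : ℕ}

theorem dg_val : (dg l c h).1 = diagonal fun k : Fin n => ((l ^ c.getD k 0 : Kˣ) : K) := rfl
theorem sw_val : (sw i j : SpecialLinearGroup (Fin n) K).1 = (Equiv.swap i j).permMatrix K := rfl

theorem dg_c : Commute (dg l c h) (dg l c' h') := Subtype.ext (by simp [dg_val, mul_comm])

theorem dg_sw : Commute (dg l c h) (sw i j) ↔ l ^ c.getD i 0 = l ^ c.getD j 0 := by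
  refine Iff.trans (b := (dg l c h).1 * (sw i j).1 = (sw i j).1 * (dg l c h).1) Subtype.ext_iff ?_
  rw [← Matrix.ext_iff]
  simp only [dg_val, sw_val, diagonal_mul, mul_diagonal, PEquiv.toMatrix_apply,
    Equiv.toPEquiv_apply, Option.mem_def, Option.some.injEq]
  refine ⟨fun q => Units.ext (by simpa using q i j), fun q a b => ?_⟩
  split_ifs with e
  · rw [← e, mul_one, one_mul, Equiv.swap_apply_def]
    split_ifs with e1 e2 <;> simp only [*]
  · simp

theorem dg_px (e : l ^ p = 1) (q : l ^ c.getD i 0 ≠ l ^ c.getD j 0) : PX p (dg l c h) (sw i j) :=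
  ⟨Subtype.ext (by
    show (dg l c h ^ p).1 = 1
    rw [Matrix.SpecialLinearGroup.coe_pow, dg_val, diagonal_pow, ← diagonal_one]
    congr 1
    ext k
    rw [Pi.pow_apply, ← Units.val_pow_eq_pow_val, ← zpow_natCast, ← _root_.zpow_mul, mul_comm, _root_.zpow_mul, zpow_natCast, e]
    simp), Subtype.ext (by simp [sw_val, ← permMatrix_mul]), mt dg_sw.1 q⟩

theorem r3_sl (hp : p.Prime) (e : orderOf l = p) : ∃ h1 h2 h3, R3 p (dg l [1, 0, 0, -1] h1)
    (dg l [1, 1, 0, -2] h2) (dg (n := n + 4) l [1, 1, 1, -3] h3) (sw 0 1) (sw 1 2) (sw 2 3) := by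
  have o : p.Coprime 2 := odd_units.coprime_dvd_left (e ▸ orderOf_dvd_natCard l)
  have n1 : l ≠ 1 := fun q => hp.ne_one (by simp [← e, q])
  have e' := e ▸ pow_orderOf_eq_one l
  have v : 2 % (n + 4) = 2 ∧ 3 % (n + 4) = 3 := ⟨Nat.mod_eq_of_lt (by omega), Nat.mod_eq_of_lt (by omega)⟩
  refine ⟨by simp [Fin.prod_univ_succ], by simp [Fin.prod_univ_succ, zpow_ofNat, pow_succ],
    by simp [Fin.prod_univ_succ, zpow_ofNat, pow_succ], ⟨hp, fun q => by simp [q] at o⟩, dg_px e' (by simpa using n1),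
    dg_px e' (by simpa [v] using n1), dg_px e' fun q => n1 ?_, dg_c, dg_c, dg_c, dg_sw.2 (by simp), dg_sw.2 (by simp),
    dg_sw.2 (by simp [v])⟩
  have : l ^ 2 ^ 2 = 1 := by
    simp only [Fin.coe_ofNat_eq_mod, v, List.getD_cons_succ, List.getD_cons_zero] at q
    rw [← zpow_natCast, show ((2 ^ 2 : ℕ) : ℤ) = 1 - -3 from rfl, _root_.zpow_sub, q, mul_inv_cancel]
  simpa [(o.pow_right 2).gcd_eq_one] using pow_gcd_eq_one.2 ⟨e', this⟩
end

theorem ex_unit {d : ℕ} (h : d ∣ Nat.card Kˣ) (h1 : d ≠ 1) : ∃ p, p.Prime ∧ p ∣ d ∧ ∃ l : Kˣ, orderOf l = p := by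
  obtain ⟨p, hp, e⟩ := Nat.exists_prime_and_dvd h1
  have := Fact.mk hp
  exact ⟨p, hp, e, exists_prime_orderOf_dvd_card' p (e.trans h)⟩

theorem rk_A' (h : 2 < Nat.card K) : RK (ProjectiveSpecialLinearGroup (Fin (n + 4)) K) := by
  obtain ⟨p, hp, -, l, e⟩ := ex_unit (K := K) dvd_rfl (by rw [Nat.card_units]; omega)
  obtain ⟨_, _, _, r⟩ := r3_sl (n := n) hp e
  exact r.quot

theorem rk_U (hK : Fintype.card K = q ^ 2) : RK (PSU (n + 4) K q) := by
  obtain ⟨φ, h3, -, -⟩ := Geom.exists_conj hK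
  have q0 : q ≠ 0 := fun e => by simp [e] at hK
  obtain ⟨p, hp, d, l, e⟩ := ex_unit (K := K) (d := q + 1) (by
    rw [Nat.card_units, Nat.card_eq_fintype_card, hK]; exact ⟨q - 1, (Nat.sq_sub_sq q 1 :)⟩) (by omega)
  obtain ⟨h1, h2, h4, r⟩ := r3_sl (n := n) hp e
  have a : ∀ c h, dg l c h ∈ SU (n + 4) K q := fun c h => (mem_SU_iff h3).2 (by
    show ((diagonal _).map φ)ᵀ * diagonal _ = 1
    rw [diagonal_map (map_zero φ), diagonal_transpose, diagonal_mul_diagonal, ← diagonal_one]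
    congr 1
    ext k
    rw [h3, ← pow_succ, ← Units.val_pow_eq_pow_val, ← zpow_natCast, ← _root_.zpow_mul, mul_comm, _root_.zpow_mul, zpow_natCast,
      orderOf_dvd_iff_pow_eq_one.1 (e ▸ d)]
    simp)
  have b : ∀ i j, sw i j ∈ SU (n + 4) K q := fun i j => (mem_SU_iff h3).2 (by
    show (((Equiv.swap i j).permMatrix K).map φ)ᵀ * (Equiv.swap i j).permMatrix K = 1
    rw [show ((Equiv.swap i j).permMatrix K).map φ = (Equiv.swap i j).permMatrix K by
      ext a b; simp [PEquiv.toMatrix_apply, apply_ite φ], transpose_permMatrix, ← permMatrix_mul]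
    simp)
  exact (R3.sub (a := ⟨_, a _ h1⟩) (b := ⟨_, a _ h2⟩) (c := ⟨_, a _ h4⟩) (x := ⟨_, b _ _⟩) (y := ⟨_, b _ _⟩)
    (z := ⟨_, b _ _⟩) r).quot

end CF.Q16
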