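-- copy of `Known.Q17.Ba` avoiding a name clash (`Comp.syl_inf`) with `Sig.S4D`
/-
Quasithin groups of even type: averaging, transfer, and the use of the rank condition.
-/
import Cfsg.Agent.NCq.Q17Md
import Cfsg.Agent.NCq.Q16Ex
import Cfsg.Agent.Loc.Xfer
set_option autoImplicit false
set_option linter.unusedSectionVars false

namespace CF.Q17
open Subgroup Cfsg CF.BG CF.Sig CF.CT CF.CmpT CF.PG CF.Bender CF.SM CF.Q16
open CF.ZD (iv_pi)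
open scoped commutatorElement

variable {G H : Type*} [Group G] [Group H] [Finite G] [Finite H] {P : Subgroup G → Prop}
  {A B C D E K L M N Q R S T U V W X : Subgroup G} {φ : 𝐍 A →* H} {Y : Subgroup H}
  {a b g j k l r s t u v w x y z σ : G} {p : ℕ}

theorem orb_fix (ab : Abel W) (n : N ≤ 𝐍 W) (hz : z ∈ W) (sq : z * z ∈ V) (h : ∀ g ∈ N, z⁻¹ * (g * z * g⁻¹) ∈ V)
    (o : ¬ 2 ∣ (𝐂₁ z).relIndex N) : ∃ x ∈ W, x ∈ 𝐂 N ∧ z⁻¹ * x ∈ V := by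
  classical
  letI : CommGroup W := { mul_comm := fun a b => Subtype.ext (mem_cent.1 (ab b.2) _ a.2) }
  haveI := Fintype.ofFinite (N ⧸ (𝐂₁ z).subgroupOf N)
  let f : N ⧸ (𝐂₁ z).subgroupOf N → W := fun q => ⟨q.out * z * q.out⁻¹, conj_mem_of_norm (n q.out.2) hz⟩
  have f1 : ∀ m : N, (f m : G) = m * z * m⁻¹ := fun m => by
    obtain ⟨c, e⟩ := QuotientGroup.mk_out_eq_mul ((𝐂₁ z).subgroupOf N) m
    simp only [f, e, coe_mul, mul_inv_rev, coe_inv]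
    rw [mul_assoc m.1, mul_assoc m.1, ← mul_assoc (_ * z), conj_fix (g := c.1.1) c.2, mul_assoc]
  refine ⟨_, (∏ q, f q).2, mem_cent.2 fun m hm => ?_, ?_⟩
  · let κ : W →* W := MonoidHom.mk' (fun u => ⟨m * u * m⁻¹, conj_mem_of_norm (n hm) u.2⟩) fun a b =>
      Subtype.ext (by simp [mul_assoc])
    have : κ (∏ q, f q) = ∏ q, f q := by
      rw [map_prod]
      refine Fintype.prod_equiv (MulAction.toPerm (⟨m, hm⟩ : N)) _ _ fun q => Subtype.ext ?_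
      obtain ⟨c, rfl⟩ := QuotientGroup.mk_surjective q
      refine .trans ?_ (f1 (⟨m, hm⟩ * c)).symm
      show m * f c * m⁻¹ = _
      rw [f1]; simp [mul_assoc]
    exact mul_inv_eq_iff_eq_mul.1 (congrArg Subtype.val this)
  · obtain ⟨i, hi⟩ := Nat.not_even_iff_odd.1 fun e => o e.two_dvd
    have := mul_mem (pow_mem (show (⟨z, hz⟩ * ⟨z, hz⟩ : W) ∈ V.subgroupOf W from sq) i)
      (prod_mem (t := Finset.univ) fun q _ => show (⟨z, hz⟩⁻¹ * f q : W) ∈ V.subgroupOf W from h _ q.out.2)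
    rwa [Finset.prod_mul_distrib, Finset.prod_const, Finset.card_univ, ← Nat.card_eq_fintype_card, ← index_eq_card,
      ← relIndex, hi, ← pow_two, ← pow_mul, pow_succ, inv_pow, ← mul_assoc, ← mul_assoc, mul_inv_cancel, one_mul] at this

theorem odd_rel (hT : Syl 2 T ⊤) (l : T ≤ N) (m : T ≤ M) : ¬ 2 ∣ M.relIndex N := fun d =>
  (hT.of_le l le_top).not_dvd p2 (d.trans (relIndex_dvd_of_le_left _ m))

theorem syl_pow_dvd {i : ℕ} (s : Syl 2 T M) (d : 2 ^ i ∣ ♯M) : 2 ^ i ∣ ♯T := by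
  rwa [pow_dvd_iff_le_logn p2 (card_pos' _).ne', s.logn_eq rfl, ← pow_dvd_iff_le_logn p2 (card_pos' _).ne']

theorem abel_of_sq (e : ∀ v ∈ V, v * v = 1) : Abel V := fun a m => mem_cent.2 fun b q => by
  rw [← mul_inv_eq_one, mul_inv_rev, ← eq_inv_of_mul_eq_one_left (e a m), ← eq_inv_of_mul_eq_one_left (e b q),
    e _ (mul_mem q m)]

theorem n1 (hT : Syl 2 T ⊤) (e : ∀ v ∈ V, v * v = 1) (tV : T ≤ 𝐍 V) (i : Iv z) (zT : z ∈ 𝐂 T) (zV : z ∈ 𝐂 V)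
    (m : M ≤ 𝐍 V ⊓ 𝐂₁ z) (hv : v ∈ V) (n : N ≤ 𝐍 V ⊓ 𝐂₁ (z * v)) (fM : ∀ w ∈ V, w ∈ 𝐂 M → w = 1)
    (fN : ∀ w ∈ V, w ∈ 𝐂 N → w = 1) : v = 1 := by
  have k : ∀ {g}, g ∈ 𝐍 V → ⁅g, z⁆ ∈ V → g ∈ centMod (zpowers z) V := fun a b => ⟨a, fun u c => by
    obtain rfl | rfl := (mem_zp i).1 c
    exacts [by simp, b]⟩
  have k' : ∀ {g}, g ∈ 𝐍 V → g ∈ 𝐂₁ z → g ∈ centMod (zpowers z) V := fun a b => k a (c1_iff.2 b ▸ one_mem V)
  obtain ⟨x, -, c, d⟩ := orb_fix (W := V ⊔ zpowers z) (N := centMod (zpowers z) V) (V := V)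
    (by rw [Abel, cent_sup, cent_zpowers]
        exact sup_le (le_inf (abel_of_sq e) (le_cent1_iff.2 zV)) (zpowers_le.2 ⟨zV, mem_cent1.2 rfl⟩))
    (fun g a => mem_norm_of_cj_le (by
      rw [cj_sup, cj_of_norm a.1, cj_zpowers]
      exact sup_le le_sup_left (zpowers_le.2 (by
        simpa [commutatorElement_def] using mul_mem_sup (a.2 z (mem_zpowers z)) (mem_zpowers z)))))
    (mem_sup_right (mem_zpowers z)) (i.sq ▸ one_mem V)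
    (fun g a => by simpa [commutatorElement_def, mul_assoc] using conj_mem_of_norm' (cent_le_norm V zV) (a.2 z (mem_zpowers z)))
    (odd_rel hT (fun _ a => k' (tV a) (c1_of zT a)) (le_cent1_iff.2 zT))
  rw [← inv_mul_eq_one.1 (fM _ d (mul_mem (inv_mem (le_cent1_iff.1 (m.trans inf_le_right)))
    (cent_anti (fun _ a => k' (m a).1 (m a).2) c)))] at c
  refine fN v hv ((mul_mem_cancel_left (cent_anti (fun g a => k (n a).1 ?_) c)).1 (le_cent1_iff.1 (n.trans inf_le_right)))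
  have := conj_mem_of_norm (cent_le_norm V zV) (mul_mem hv (conj_mem_of_norm (n a).1 (inv_mem hv)))
  rwa [← mul_assoc z, ← conj_fix (n a).2, show g * (z * v) * g⁻¹ * (g * v⁻¹ * g⁻¹) * z⁻¹ = g * z * g⁻¹ * z⁻¹ by group] at this

theorem comm_sup_le (ab : Abel B) (n : B ≤ 𝐍 A) (l : T ≤ A ⊔ B) : ⁅T, T⁆ ≤ A := commutator_le.2 fun x a y b => by
  obtain ⟨u, p, v, q, rfl⟩ := (mem_sup_norm' n).1 (l a)
  obtain ⟨u', p', v', q', rfl⟩ := (mem_sup_norm' n).1 (l b)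
  have := mul_mem (mul_mem (mul_mem p (conj_mem_of_norm (n q) p')) (conj_mem_of_norm (n q') (inv_mem p))) (inv_mem p')
  rwa [mul_assoc u, mul_assoc _ v⁻¹, ← mul_assoc v⁻¹, ← mul_assoc v⁻¹, mem_cent.1 (ab q') _ (inv_mem q),
    show u * (v * u' * (v' * v⁻¹ * u⁻¹ * v'⁻¹)) * u'⁻¹ = u * v * (u' * v') * (u * v)⁻¹ * (u' * v')⁻¹ by group] at this

/-- transfer -/
theorem Cf.xfer (F : Cf P X) (a : P A) (ns : ¬ Syl 2 X ⊤) (hT : Syl 2 T ⊤) (l : X ≤ T) (n : T ≤ 𝐍 A) (i : Iv z)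
    (zT : z ∈ T) (c : z ∈ 𝐂 A) (u : ∀ s ∈ T, s ∈ 𝐂 A → Iv s → s = z) : z ∈ ⁅T, T⁆ := by
  have f : ∀ {g}, g ∈ 𝐍 T → g ∈ 𝐍 A → g * z * g⁻¹ = z := fun b d =>
    u _ (conj_mem_of_norm b zT) (conj_mem_of_norm (norm_le_norm_cent A d) c) (i.conj _)
  have q : Gm P T A := ⟨a, n, ne_bot_of_mem ⟨zT, c⟩ i.ne⟩
  refine Loc.extremal_transfer_ab (by simpa using hT.not_dvd p2) le_rfl i.sq (F.pf.ge trivial) zT hT.pi.isPGroup zT
    (fun t m => mem_cent1.2 (mul_inv_eq_iff_eq_mul.1 (f (le_norm_self T m) (n m)))) fun g m => ?_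
  have m := mem_norm_of_cj_le (g := g⁻¹) m
  have := f m (cj_eq_self.1 (by_contra fun e => ns (eq_of_card_le l (F.mx hT.pi e (F.gcj q m) q) ▸ hT)))
  rw [inv_inv] at this
  rw [this, inv_mul_cancel]; exact one_mem _

theorem mem_of_sq (q : SQ M) (hp : p.Prime ∧ p ≠ 2) (o : Ot B p) (rk : 2 ≤ pRank p B) (l : B ≤ M)
    (k : PiGrp {2} (𝐙 B)) (hx : x ∈ M) (n : x ∈ 𝐍 B) (ex : x ^ p = 1) : x ∈ B := by
  obtain ⟨a, ha, b, hb, rfl⟩ := in_dec (o x n ex)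
  have cm : Commute a b := mem_cent.1 hb a ha
  have bp : b ^ p ∈ B := by
    rw [cm.mul_pow] at ex
    rw [eq_inv_of_mul_eq_one_right ex]; exact inv_mem (pow_mem ha _)
  obtain ⟨j, hj⟩ := k.card_pow
  have := r3c q hp.1 hp.2 l rk k (x := b ^ 2 ^ j) (pow_mem (by simpa using mul_mem (inv_mem (l ha)) hx) _)
    (by rw [← pow_mul, mul_comm, pow_mul, ← hj]
        exact orderOf_dvd_iff_pow_eq_one.1 (orderOf_dvd_card' ⟨bp, pow_mem hb _⟩)) (pow_mem hb _)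
  exact mul_mem ha (mem_of_pow_pow bp (this ▸ one_mem B) (((Nat.coprime_primes hp.1 p2).2 hp.2).pow_right _))

theorem Ep_le' : Ep p A ≤ A := Ep_le.2 fun _ a _ => a
theorem Ep_mono (l : A ≤ B) : Ep p A ≤ Ep p B := Ep_le.2 fun _ a e => mem_Ep (l a) e
theorem norm_Ep : 𝐍 A ≤ 𝐍 (Ep p A) := fun _ a => cj_eq_self.1 (by rw [cj_Ep, cj_of_norm a])
theorem norm_c1 (n : g ∈ 𝐍 A) (c : g ∈ 𝐂₁ j) : g ∈ 𝐍 (A ⊓ 𝐂₁ j) := norm_inf (zpowers_le.2 n)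
  (norm_of_le (zpowers_le.2 c)) (mem_zpowers g)

/-- the rank condition: elements of order `p` commuting with an involution of `C(B)` lie in `B` -/
theorem Fm.qt (F : Fm P) (b : P B) (hp : p.Prime ∧ p ≠ 2) (o : Ot B p) (rk : 2 ≤ pRank p B) (k : PiGrp {2} (𝐙 B))
    (i : Iv j) (c : j ∈ 𝐂 B) : Ep p (A ⊓ 𝐂₁ j) ≤ B := Ep_le.2 fun _ m e =>
  mem_of_sq ((F.sq (iv_pi i) (by simpa using i.ne)).mono ((cent_zpowers j).ge.trans (cent_le_norm _))) hp o rk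
    (le_cent1_iff.2 c) k m.2 (F.cn b i c m.2) e

/-- `Ep p (C_A j) = Ep p (C_B z)` -/
theorem ep_eq (c : z ∈ 𝐂 A) (d : j ∈ 𝐂 B) (a : Ep p (A ⊓ 𝐂₁ j) ≤ B) (b : Ep p (B ⊓ 𝐂₁ z) ≤ A) :
    Ep p (A ⊓ 𝐂₁ j) = Ep p (B ⊓ 𝐂₁ z) :=
  le_antisymm (Ep_le.2 fun _ m e => mem_Ep ⟨a (mem_Ep m e), c1_of c m.1⟩ e)
    (Ep_le.2 fun _ m e => mem_Ep ⟨b (mem_Ep m e), c1_of d m.1⟩ e)

/-- commuting involutions lift to commuting elements -/
def Fc (A : Subgroup G) : Prop := ∀ a ∈ A, ∀ b ∈ A, ⁅a, b⁆ ∈ 𝐂 A → a * a ∈ 𝐂 A → b * b ∈ 𝐂 A → a ∈ 𝐂₁ b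

theorem fc_of_simple (z : 𝐙 A = ⊥) : Fc A := fun _ a _ b c _ _ => c1_iff.1 (z.le ⟨comm_mem (le_norm_self A a) b, c⟩)

theorem _root_.CF.Q16.Act.x0 (h : Act A φ Y) {fc : Prop} (n : t ∈ 𝐍 A) (i : t * t = 1) (c : t ∈ 𝐂 (𝐙 A))
    (f : fc → t ∈ A ∧ Fc A) : X0 fc Y (fa φ t) ≤ ia φ (A ⊓ 𝐂₁ t) := (closure_le _).2 fun x m => by
  obtain ⟨y, ⟨s, a, rfl⟩ | ⟨i, e⟩ | ⟨q, a, e⟩⟩ := m
  · obtain ⟨s, b, rfl⟩ := h.ex a.1
    have z : ⁅s, t⁆ ∈ 𝐙 A := ⟨comm_mem' n b, h.comm (Act.nk b) n a.2⟩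
    have e : s * t * s⁻¹ = ⁅s, t⁆ * t := by rw [commutatorElement_def, inv_mul_cancel_right]
    have q : ⁅s, t⁆ * ⁅s, t⁆ = 1 := by
      have := conj_mul (a := t) (b := s) (c := t)
      rwa [i, e, mul_assoc, ← mul_assoc t, ← mem_cent.1 c _ z, mul_assoc, i, mul_one, mul_one, mul_inv_cancel] at this
    refine fa_mul (φ := φ) (Act.nk b) (Act.nk b) ▸ fa_mem ⟨mul_mem b b, mem_cent1.2 (mul_inv_eq_iff_eq_mul.1 ?_)⟩
      (Act.nk (mul_mem b b))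
    rw [show s * s * t * (s * s)⁻¹ = s * (s * t * s⁻¹) * s⁻¹ by group, e, ← conj_mul, e, mem_cent.1 z.2 s b,
      mul_inv_cancel_right, ← mul_assoc, q, one_mul]
  · obtain ⟨x, b, rfl⟩ := h.ex y
    have := (h.eq (Act.nk (pow_mem b i)) n).1 (fa_pow (φ := φ) (Act.nk b) i ▸ e)
    refine fa_mem ⟨b, mem_cent1_comm.1 ?_⟩ (Act.nk b)
    simpa using mul_mem (show x ^ i ∈ 𝐂₁ x from pow_mem (mem_cent1.2 rfl) i) (c1_of' this b)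
  · obtain ⟨x, b, rfl⟩ := h.ex y
    exact fa_mem ⟨b, (f q).2 x b t (f q).1 (h.comm (Act.nk b) n a) ((h.one (Act.nk (mul_mem b b))).1
      (fa_mul (φ := φ) (Act.nk b) (Act.nk b) ▸ e)) (i ▸ one_mem _)⟩ (Act.nk b)

/-- a conjugate of `j` acting like `l` -/
theorem Cf.big (F : Cf P X) (a : Gm P X A) (h : Act A φ Y) (c : P C) (n : A ≠ C) (m : w ∈ X) (i : Iv w) (d : w ∈ 𝐂 X)
    (e : w ∈ 𝐂 C) (q : j ∈ 𝐂 X) (nj : j ∈ 𝐍 A) {Z : Subgroup H} (l : Z ≤ ia φ (A ⊓ 𝐂₁ w)) {k : ℕ} (u : 2 ^ k ∣ ♯Z) :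
    2 ^ k ∣ ♯(Y ⊓ 𝐂₁ (fa φ j) : Subgroup H) := by
  have s := ia_syl (φ := φ) (F.fat a n c m i d e) (inf_le_left.trans (le_norm_self A))
  refine (syl_pow_dvd s (u.trans (card_dvd_of_le l))).trans (card_dvd_of_le fun _ v => ?_)
  obtain ⟨x, y, z, rfl⟩ := mem_ia.1 v
  exact ⟨h.mem y.2, fa_c1 z nj (c1_of q y.1)⟩

end CF.Q17
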