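-- copy of `Known.Q17.Ru` avoiding a name clash (`Comp.syl_inf`) with `Sig.S4D`
/-
Quasithin groups of even type: the involutions of `Ru`.
-/
import Cfsg.Agent.NCq.Q17Md
import Cfsg.Agent.NCq.Q16Ru
set_option autoImplicit false
set_option maxRecDepth 1000000

namespace CF.Q17.Ru
open Subgroup Cfsg CF.BG CF.Sig CF.CT CF.CmpT CF.PG CF.Bender CF.SM CF.Q16

section
variable {H : Type*} [Group H] [Finite H] {A D P U : Subgroup H} {u r s v y m ρ t : H} {p : ℕ}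

theorem sq_sup (c : s ∈ 𝐂 A) (e : s * s = 1) (h : y ∈ A ⊔ zpowers s) : ∃ a ∈ A, y * y = a * a := by
  obtain ⟨a, ha, _, ⟨k, rfl⟩, rfl⟩ := (mem_sup_norm' (zpowers_le.2 (cent_le_norm A c))).1 h
  refine ⟨a, ha, ?_⟩
  rw [mul_assoc, ← mul_assoc _ a, ← mem_cent.1 (zpow_mem c k) a ha, mul_assoc a, ← (Commute.refl s).mul_zpow, e,
    one_zpow, mul_one]

theorem card_two (c : s ∈ 𝐂 A) (e : s * s = 1) (n : s ∉ A) : ♯(A ⊔ zpowers s : Subgroup H) = 2 * ♯A :=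
  (i2_sup (e ▸ one_mem A) (cent_le_norm A c)).card_eq le_sup_left fun l => n (l (mem_sup_right (mem_zpowers s)))

theorem ep_x0 {f : Prop} : Ep 5 (𝐂₁ v) ≤ X0 f ⊤ v := Ep_le.2 fun x a e =>
  subset_closure ⟨trivial, .inl ⟨x ^ 3, ⟨trivial, pow_mem a 3⟩, by rw [← pow_add, pow_succ, e, one_mul]⟩⟩

theorem eq_of_two (c : ♯A ≤ 2) (a : u ∈ A) (b : v ∈ A) (n : u ≠ 1) (k : v ≠ 1) : v = u := by
  by_contra q
  have := (Set.ncard_le_ncard (s := {1, u, v}) (t := A) (by rintro _ (rfl | rfl | rfl); exacts [one_mem _, a, b])).trans_eq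
    (Nat.card_coe_set_eq _).symm
  rw [Set.ncard_insert_of_notMem (by simp [n.symm, k.symm]), Set.ncard_pair (Ne.symm q)] at this
  exact absurd (this.trans c) (by decide)

theorem syl_card {i j : ℕ} (l : P ≤ A) (a : ♯P = 2 ^ i) (b : ♯A = 2 ^ i * j) (o : ¬ 2 ∣ j) : Syl 2 P A :=
  ⟨l, piGrp_of_card p2 a, (piNat_compl_single p2).2 (by
    have := card_mul_relIndex l
    rw [a, b] at this
    rwa [Nat.eq_of_mul_eq_mul_left (by positivity) this])⟩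

theorem core (sU : Syl 2 U ⊤) (iu : Iv u) (cu : u ∈ 𝐂 U) (cU : ♯(𝐂 U) ≤ 2) (rk : 2 ≤ pRank 5 (⊤ : Subgroup H))
    (i2 : I2 (Ep 5 (𝐂₁ u)) (𝐂₁ u)) (cz : 2 ^ 10 ∣ ♯(𝐂₁ u)) (cE : ♯(𝐂 (Ep 5 (𝐂₁ u))) ≤ 2)
    (cl : ∀ t, Iv t → IsConj u t ∨ IsConj r t) (lD : D ≤ Ep 5 (𝐂₁ r)) (sq : ∀ y ∈ 𝐂₁ r, y * y ∈ D) (nm : r ∉ D)
    (iD : ∀ l ∈ D, Iv l → IsConj u l) (cr : ¬ 2 ^ 9 ∣ ♯(𝐂₁ r)) (hy : y ^ 8 = u) (hm : m ∈ D) (im : Iv m) (hρ : ρ ∈ D)
    (n : m * (ρ * m * ρ⁻¹) ≠ 1) (ht : t ∈ 𝐂₁ (ρ * m * ρ⁻¹)) (e : t * t * r * (t * t)⁻¹ = r * m) :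
    Z1 ⊤ U ∧ Z2 (⊤ : Subgroup H) := by
  have eD : Ep 5 (⊤ ⊓ 𝐂₁ r) = D := by
    rw [top_inf_eq]
    exact le_antisymm (Ep_le.2 fun x a e => by
      simpa [← pow_add, pow_succ x 5, e] using sq _ (pow_mem a 3)) lD
  have lE : Ep 5 (𝐂₁ u) ≤ 𝐂₁ u := Ep_le.2 fun _ a _ => a
  have dE : 2 ^ 9 ∣ ♯(Ep 5 (𝐂₁ u)) := by
    by_cases q : 𝐂₁ u ≤ Ep 5 (𝐂₁ u)
    · exact (Dvd.dvd.trans (by decide) cz).trans (card_dvd q)
    · rw [i2.card_eq lE q, pow_succ'] at cz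
      exact Nat.dvd_of_mul_dvd_mul_left two_pos cz
  have pr : Nat.Prime 5 ∧ 5 ≠ 2 := by norm_num
  have ot : Ot (⊤ : Subgroup H) 5 := fun _ _ _ => mem_sup_left trivial
  have dc : DC ⊤ False False 5 9 r (zpowers m) := ⟨pr, rk, eD ▸ nm, eD ▸ zpowers_le.2 hm, im.pe.zpowers,
    fun q => im.ne (q.le (mem_zpowers m)), by rwa [top_inf_eq], fun l a _ i => ⟨by
      obtain ⟨g, rfl⟩ := isConj_iff.1 (iD l (eD ▸ a) i)
      refine (dE.trans (card_cj g _).symm.dvd).trans (card_dvd (le_sup_left.trans' ?_))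
      rw [cj_Ep, cj_cent1]
      exact ep_x0, fun b c j => let ⟨g, q⟩ := isConj_iff.1 ((iD b (eD ▸ c) j).symm.trans (iD l (eD ▸ a) i)); ⟨g, trivial, q⟩⟩,
    m, eD ▸ hm, t * t, trivial, e, .inr ⟨ρ, eD ▸ hρ, n, subset_closure ⟨trivial, .inl ⟨t, ⟨trivial, ht⟩, rfl⟩⟩⟩⟩
  have cl' : ∀ x, Iv x → Cn ⊤ x ∨ ∃ g, g * x * g⁻¹ = r := fun x i => (cl x i).imp (fun q => by
    obtain ⟨g, rfl⟩ := isConj_iff.1 q
    simpa using Cn.cj ⟨U, sU, cu⟩ g) fun q => isConj_iff.1 q.symm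
  have cy : y ∈ 𝐂₁ u := hy ▸ mem_cent1.2 (Commute.self_pow y 8)
  refine ⟨⟨sU, .inl fun a _ b _ i j c d _ _ => ?_, .inl (ko_of_i2 fun _ _ _ _ q => (q trivial).elim),
    fun x _ i => (cl' x i).imp_right fun ⟨g, q⟩ => ⟨g, .inr (.inr (.inr ⟨5, 9, _, ot, q ▸ dc.mono False.elim False.elim⟩))⟩⟩,
    ⟨U, zpowers u, 5, 2, u, pr, rk, ot, sU, iu, cu, by rwa [top_inf_eq],
      fun v i c => eq_of_two cU cu c iu.ne i.ne ▸ mem_zpowers u, fun v _ c _ => ?_, fun v a b => ⟨1, one_mem _, ?_⟩,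
      fun x _ a b => ?_, y * y, trivial, by rw [← hy, ← pow_two, ← pow_two, ← pow_mul, ← pow_mul], ?_⟩,
    fun x i => (cl' x i).imp_right fun ⟨g, q⟩ => ⟨g, 5, 9, _, ot, q ▸ dc⟩⟩
  · rw [eq_of_two cU c d i.ne j.ne, i.sq]; exact one_mem _
  · rw [top_inf_eq] at c
    by_cases q : v = 1
    · exact q ▸ one_mem _
    · exact eq_of_two cE (le_cent1_iff.1 lE) c iu.ne q ▸ mem_zpowers u
  · simpa using eq_of_two (by rw [Nat.card_zpowers, iu.orderOf]) (mem_zpowers u) a iu.ne b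
  · refine (cl _ ⟨b, a⟩).elim (fun q => let ⟨g, q⟩ := isConj_iff.1 q.symm; ⟨g, trivial, q⟩) fun q => (nm ?_).elim
    obtain ⟨g, q⟩ := isConj_iff.1 q.symm
    rw [← conj_pow, pow_two] at q
    exact q ▸ sq _ (q ▸ mem_cent1.2 (mul_assoc _ _ _).symm)
  · rw [top_inf_eq]
    exact ⟨pow_mem (i2.sq cy) 2, .inl (i2.sq cy)⟩

end

open CF.Comp CF.Fisch CF.Bt CF.KI CF.KI.Ru CF.Q16.Ru

/-- the word `w` moves the orbit of `b` -/
noncomputable def nmOK (N : List Net) (ws : List (List ℕ)) (k b : ℕ) (w : List ℕ) : Bool :=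
  force (CF.Comp.orb N ws k (one b)) fun M => bnd (closedW N ws M) (bnd (tb M b) (Bool.rec true false (tb M (appW N w b))))

theorem nm_of {G Ω : Type*} [Group G] [MulAction G Ω] {n : ℕ} {D : Dom Ω n} {N : List Net} {f : ℕ → G} (h : Reps D N f)
    {ws : List (List ℕ)} {k b : ℕ} {w : List ℕ} (hb : b < n) (q : nmOK N ws k b w = true) : ev f w ∉ clo f ws := fun m => by
  rw [nmOK, force_eq, bnd, bnd, brec_and, brec_and, tb_eq, tb_eq] at q
  have := h.smul_mem_of_closedW q.1 m ((Dom.pt_mem_set hb).2 q.2.1)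
  rw [h.smul_pt w hb, Dom.pt_mem_set (h.appW_lt w hb)] at this
  simp [this] at q

noncomputable def u : List Nat := [45]
noncomputable def uu : List Nat := [2, 3, 2, 2, 3, 3, 2, 4, 2, 3, 1, 1]
noncomputable def xu : List (List Nat) := [[5], [1, 3, 3, 1, 4, 2, 3, 2, 2, 4, 1, 5], [4, 2, 3, 1, 4, 1, 3, 2, 4, 1, 3, 1], [4, 2, 2, 3, 3, 2, 3, 2, 2, 3, 2, 5], [2, 3, 1, 1, 4, 4, 2, 3, 2, 3, 1], [1, 4, 2, 4, 4, 2, 4, 2, 2, 3, 1, 5]]
noncomputable def s : List Nat := [1, 6, 1, 3, 6, 9, 8, 12, 14, 15, 9, 16, 14]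
noncomputable def yu : List (List Nat) := [[3, 1, 3, 1, 3, 1, 7], [2, 2, 5], [2, 3, 1, 3, 2, 4, 4, 2, 3, 5], [1, 4, 2, 4, 1, 1, 4, 2, 2, 3, 1, 1, 5, 7], [1, 3, 3, 1, 4, 1, 3, 3, 1]]
noncomputable def y : List Nat := [19]
noncomputable def m : List Nat := [3, 3, 1, 1, 3, 1, 4]
noncomputable def ρ : List Nat := [2, 4, 1, 4, 4, 1, 1]
noncomputable def t : List Nat := [16, 4, 16, 7, 6, 11, 9, 12]
noncomputable def ps : List (List Nat) := [[2, 6, 1, 1, 16, 14, 6, 7, 12, 9, 16, 9, 14, 15], [1, 9, 13, 1, 9, 13, 6, 11, 10, 16, 11, 15, 14, 14], [3, 2, 2, 11, 9, 14, 6, 14, 9, 14, 11, 9, 15, 14, 14], [9, 7, 12, 4, 15, 14, 8, 5, 11, 9, 13, 13, 12, 16, 14], [10, 13, 13, 1, 8, 9, 11, 5, 13, 10, 10, 16, 14, 15], [11, 13, 13, 3, 11, 10, 7, 10, 12, 9, 11, 15]]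
noncomputable def pu : List (List Nat) := [[4, 1, 3, 2, 2, 4, 2, 3, 2, 2], [3, 1, 1, 3, 3, 1, 4, 2], [3, 2, 2, 4, 2, 3, 2, 2], [4, 1, 3, 2, 4, 2, 2, 3, 3, 1], [3, 3, 1, 1, 4, 4, 1, 4, 1, 1, 3, 1], [4, 1, 4, 1]]
noncomputable def pT : List PcS := [⟨2, [7, 9], []⟩, ⟨2, [3], [[3, 7]]⟩, ⟨2, [1, 5], [[1, 3, 5], [1, 3]]⟩, ⟨2, [], [[], [], []]⟩, ⟨2, [], [[], [], [], []]⟩, ⟨2, [], [[], [], [], [], []]⟩]
noncomputable def pS : List Lvl := [⟨1147, [[11, 13, 13, 3, 11, 10, 7, 10, 12, 9, 11, 15], [2, 6, 1, 1, 16, 14, 6, 7, 12, 9, 16, 9, 14, 15], [1, 9, 13, 1, 9, 13, 6, 11, 10, 16, 11, 15, 14, 14], [3, 2, 2, 11, 9, 14, 6, 14, 9, 14, 11, 9, 15, 14, 14]], 3⟩]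
noncomputable def pU : List (List Nat) := [[11], [1], [3], [5]]
noncomputable def Zs0 : List (List Nat) := [[]]
noncomputable def F0 : List Fisch.Ent := [.split [⟨[], 0, []⟩, ⟨[], 1, []⟩]]
noncomputable def Zs1 : List (List Nat) := [[], [1]]
noncomputable def F1 : List Fisch.Ent := [.split [⟨[], 0, []⟩, ⟨[], 1, []⟩], .split [⟨[], 2, []⟩, ⟨[], 3, []⟩]]
noncomputable def Zs2 : List (List Nat) := [[], [3], [1], [1, 3]]
noncomputable def F2 : List Fisch.Ent := [.split [⟨[], 0, []⟩, ⟨[], 1, []⟩], .split [⟨[], 2, []⟩, ⟨[], 3, []⟩], .split [⟨[], 4, []⟩, ⟨[], 5, []⟩], .split [⟨[], 6, []⟩, ⟨[], 7, []⟩]]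
noncomputable def Zs3 : List (List Nat) := [[], [5], [3], [3, 5], [1], [1, 5], [1, 3], [1, 3, 5]]
noncomputable def F3 : List Fisch.Ent := [.split [⟨[], 0, []⟩, ⟨[], 1, []⟩], .dead 1 [3], .dead 1 [], .dead 1 [1, 3], .merge [3] 1 [3] ⟨[], 2, []⟩, .merge [1] 1 [1, 3] ⟨[], 3, []⟩, .merge [1] 1 [3] ⟨[], 4, []⟩, .dead 1 [1]]
noncomputable def Zs4 : List (List Nat) := [[], [7], [1], [1, 5], [1, 3]]
noncomputable def F4 : List Fisch.Ent := [.split [⟨[], 0, []⟩, ⟨[], 1, []⟩], .split [⟨[], 2, []⟩, ⟨[], 3, []⟩], .dead 1 [1], .merge [3] 1 [1] ⟨[], 4, []⟩, .dead 1 []]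
noncomputable def Zs5 : List (List Nat) := [[], [9], [7], [7, 9], [1, 5]]
noncomputable def F5 : List Fisch.Ent := [.split [⟨[], 0, []⟩, ⟨[], 1, []⟩], .split [⟨[], 2, []⟩, ⟨[], 3, []⟩], .split [⟨[], 4, []⟩, ⟨[], 5, []⟩], .split [⟨[], 6, []⟩, ⟨[], 7, []⟩], .dead 1 []]
noncomputable def Zs6 : List (List Nat) := [[], [11], [9], [9, 11], [7], [7, 11], [7, 9], [7, 9, 11]]
noncomputable def pF : List To := [⟨[], 0, []⟩, ⟨[7, 4, 10, 3, 11, 5, 11, 16, 12, 9], 1, []⟩, ⟨[16, 8, 1, 16, 12, 8, 13, 12, 14, 14, 15], 1, []⟩, ⟨[11, 10, 8, 4, 7, 5, 5, 13, 12, 9, 15], 1, []⟩, ⟨[13, 15, 7, 2, 9, 6, 7, 10, 16, 11, 16, 14], 1, []⟩, ⟨[15, 2, 2, 6, 7, 5, 11, 10, 14, 14, 15], 1, []⟩, ⟨[9, 5, 15, 1, 16, 6, 15, 10, 10, 16], 1, []⟩, ⟨[13, 3, 2, 12, 14, 11, 5, 8, 11, 16, 11, 13, 9], 1, []⟩]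
noncomputable def m' : List Nat := lapp (lapp (subst ys ρ) (subst ys m)) (winv (subst ys ρ))

theorem k1 : allFrom (cenAt e 2 ps pT) 0 6 = true := by decide +kernel
theorem k2 : memOK e ps (cgens pS) pU = true := by decide +kernel
theorem k3 : Bt.geOK (lapp X X1) 4060 pS (2 ^ 6) = true := by decide +kernel
theorem k4 : memOK e ys ps pu = true := by decide +kernel
theorem q0 : bnd (blt 0 (llen ps)) (allFrom (entAt e 2 ps ps 0 Zs0 Zs1 F0) 0 (llen Zs0)) = true := by decide +kernel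
theorem q1 : bnd (blt 1 (llen ps)) (allFrom (entAt e 2 ps ps 1 Zs1 Zs2 F1) 0 (llen Zs1)) = true := by decide +kernel
theorem q2 : bnd (blt 2 (llen ps)) (allFrom (entAt e 2 ps ps 2 Zs2 Zs3 F2) 0 (llen Zs2)) = true := by decide +kernel
theorem q3 : bnd (blt 3 (llen ps)) (allFrom (entAt e 2 ps ps 3 Zs3 Zs4 F3) 0 (llen Zs3)) = true := by decide +kernel
theorem q4 : bnd (blt 4 (llen ps)) (allFrom (entAt e 2 ps ps 4 Zs4 Zs5 F4) 0 (llen Zs4)) = true := by decide +kernel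
theorem q5 : bnd (blt 5 (llen ps)) (allFrom (entAt e 2 ps ps 5 Zs5 Zs6 F5) 0 (llen Zs5)) = true := by decide +kernel
theorem pf : finOK e ps Zs6 [[], a0] pF = true := by decide +kernel
theorem o1 : nmOK (lapp X X1) ys 8 2971 s = true := by decide +kernel
theorem o2 : nmOK (lapp X X1) (lapp ys [s]) 8 2971 a1 = true := by decide +kernel
theorem c1 : lall (fun t => t) [comOK e gs [a0], ordOK e 2 a0, e (lapp u u) (subst xs uu), comOK e [u] [a0], e (wpow y 8) a0,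
  memOK e (lapp xs [u]) (cgens a0c) xu, memOK e (lapp (lapp ys [s]) [a1]) (cgens a1c) yu, comOK e [s] ys, comOK e [s] [a1],
  e (lapp s s) [], ordOK e 2 (subst ys m)] = true := by decide +kernel
theorem c2 : lall (fun t => t) [Bool.rec true false (e (lapp (subst ys m) m') []), comOK e [t] [m'],
  e (lapp (lapp t t) a1) (lapp (lapp a1 (subst ys m)) (lapp t t))] = true := by decide +kernel

theorem main : center Comp.Ru.K = ⊥ ∧ ∃ U : Subgroup Comp.Ru.K, Z1 ⊤ U ∧ Z2 (⊤ : Subgroup Comp.Ru.K) := by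
  obtain ⟨hE, -⟩ := Bt.Exact.fresh Ru.exact (by decide) (fun _ _ => trivial) h1 (m := 2) rfl h2 (Subgroup.card_top.trans Ru.card) h3
  have := Bt.Exact.finite_top hE
  have he := isSm_eqM hE.reps (by decide) (Exact.based hE fun _ => trivial) e1 e2 e3
  have hS := cenS_of hE he rfl s1 s2 s3
  have h := Cl.st he hS (Cl.zero ⊤) l0
  replace h := Cl.st he hS h l1
  replace h := Cl.st he hS h l2
  replace h := Cl.st he hS h l3
  replace h := Cl.st he hS h l4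
  replace h := Cl.st he hS h l5
  replace h := Cl.st he hS h l6
  replace h := Cl.st he hS h l7
  replace h := Cl.st he hS h l8
  replace h := Cl.st he hS h l9
  replace h := Cl.st he hS h l10
  replace h := Cl.st he hS h l11
  replace h := Cl.st he hS h l12
  replace h := Cl.st he hS h l13
  have cl := fun t => cls_of he hS (l := 14) rfl (m := 8906625) (Ru.card.trans (by norm_num)) (by norm_num) h fin (t := t)
  simp only [List.mem_cons, List.not_mem_nil, or_false, exists_eq_or_imp, exists_eq_left] at cl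
  have hP := cenS_of hE he rfl k1 k2 k3
  have k := Cl.st he hP (Cl.st he hP (Cl.st he hP (Cl.st he hP (Cl.st he hP (Cl.st he hP (Cl.zero ⊤) q0) q1) q2) q3) q4) q5
  have d := c1
  have d' := c2
  simp only [lall_iff (f := fun t => t), List.mem_cons, List.not_mem_nil, or_false, forall_eq_or_imp, forall_eq] at d d'
  obtain ⟨d1, d2, d3, d4, d5, d6, d7, d8, d9, d10, d11⟩ := d
  obtain ⟨d12, d13, d14⟩ := d'
  have x := x1
  simp only [lall_iff (f := fun t => t), List.mem_cons, List.not_mem_nil, or_false, forall_eq_or_imp, forall_eq] at x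
  obtain ⟨z1, z2⟩ := cent_exact hE he (by decide) (by decide) a01 a02 a03
  obtain ⟨z3, z4⟩ := cent_exact hE he (by decide) (by decide) a11 a12 a13
  have one := fun w => ev_mem_clo (slp (evs Ru.f ws) W 2) (List.mem_singleton_self w)
  have lx := ep_cert he x.1 x.2.1
  have ly := he.com_le1 y2
  have ir := iv_of (he.ord p2 a14)
  have n1 := nm_of hE.reps (by decide) o1
  have n2 := nm_of hE.reps (by decide) o2
  have cs := he.com_le d8 (one _)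
  have ss := he.one d10
  have l7 := he.le d7
  rw [clo_lapp, clo_one] at n2
  rw [ev_lapp] at ss
  rw [clo_lapp, clo_lapp, clo_one, clo_one, z3] at l7
  have cr := le_cent1_iff.1 (sup_le ly (zpowers_le.2 (he.com_le1 d9 (one _))))
  have cD := (card_two cr ir.sq n2).trans (congrArg _ (card_two cs ss n1))
  rw [← l7.antisymm (sup_le (le_cent1_iff.2 cr) (zpowers_le.2 (mem_cent1.2 rfl))), z4] at cD
  have sP := syl_card (he.le k4) hP.card0 (j := 455) (by rw [show ps.length = 6 from rfl]; omega) (by decide)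
  have l6 := he.le d6
  rw [clo_lapp, clo_one, z1] at l6
  obtain ⟨a, b, r1, r2, r3, r4, r5⟩ := rk_cert hE he Nat.prime_five (by decide) r1
  refine ⟨(Normal.eq_bot_or_eq_top inferInstance).resolve_right fun q => (by
    have := (card_le_of_le (q.ge.trans (center_le_centralizer _))).trans_eq z4
    rw [card_top, Ru.card] at this
    omega), _, core (t := ev (slp (evs Ru.f ws) W 2) t) (syl_card le_top hS.card0 (j := 8906625) (card_top.trans (Ru.card.trans (by decide))) (by decide))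
    (iv_of (he.ord p2 d2)) (le_cent1_iff.1 (he.com_le1 d1)) ((card_le_of_le (cent_anti (he.le a04))).trans
      (Bt.card_cent_clo_le hE (by decide) (by decide) (Bt.std_of_S a07)))
    (two_elem Nat.prime_five (mem_top _) (mem_top _) r1 r2 r3 r4 r5).le_pRank
    ((i2_sup (lx ?_) ?_).mono le_rfl (l6.trans (sup_le_sup_right lx _))) (by rw [z2]; decide)
    ((card_le_of_le (cent_anti lx)).trans (Bt.card_cent_clo_le hE (by decide) (by decide) (Bt.std_of_S x2)))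
    cl (ep_cert he y1 y2) (fun y q => ?_) (fun q => n2 (mem_sup_left q)) (fun l q i => ?_) (by rw [z4]; decide)
    ((ev_wpow _ _ _).symm.trans (he.eq d5)) (ev_subst_mem_clo _ ys m) (iv_of (he.ord p2 d11)) (ev_subst_mem_clo _ ys ρ)
    ?_ ?_ ?_⟩
  · have := he.mem1 uu d3
    rwa [ev_lapp] at this
  · exact cj_eq_self.1 ((cj_Ep _).trans (congrArg _ (cj_of_mem (he.com_le1 d4 (one _)))))
  · obtain ⟨a, h1, e1⟩ := sq_sup cr ir.sq (l7 q)
    obtain ⟨b, h2, e2⟩ := sq_sup cs ss h1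
    exact (e1.trans e2).symm ▸ mul_mem h2 h2
  · obtain ⟨g, -, j⟩ := sP.syl_cj_le (zpowers_le.2 q) i.pe.zpowers
    obtain ⟨a, -, b, hb, j⟩ := k.fin he (fun _ => mem_top _) rfl pf _ (j (conj_mem_cj.2 (mem_zpowers l))) (i.conj g).pow2
    rcases List.mem_cons.1 hb with rfl | hb
    · exact ((i.conj g).ne (conj_eq_one_iff.1 j)).elim
    · exact List.mem_singleton.1 hb ▸ ((isConj_iff.2 ⟨g, rfl⟩).trans (isConj_iff.2 ⟨a, j⟩)).symm
  · have := he.ne_one (u := lapp (subst ys m) m') (brec_not_and.1 d12).1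
    rwa [m', ev_lapp, ev_lapp, ev_lapp, ev_winv] at this
  · have := he.com_le1 d13 (one _)
    rwa [m', ev_lapp, ev_lapp, ev_winv] at this
  · have := he.conj d14
    rwa [ev_lapp, ev_lapp] at this

theorem mo : Mo Comp.Ru.K (⊤ : Subgroup Comp.Ru.K) :=
  mo_top main.1 ((Bt.card_out_congr Comp.Ru.eqv.symm).trans Bt.OutRu.out)

end CF.Q17.Ru

namespace CF.Q17

theorem g1_Ru : G1 Cfsg.Spor.Ru :=
  let ⟨U, h, _⟩ := Ru.main.2; G1.congr ⟨_, _, inferInstance, ⊤, U, Ru.mo, h⟩ Comp.Ru.eqv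

theorem g2_Ru : G2 Cfsg.Spor.Ru :=
  let ⟨_, _, h⟩ := Ru.main.2; G2.congr ⟨_, _, inferInstance, ⊤, Ru.mo, h⟩ Comp.Ru.eqv

end CF.Q17
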